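import Groth.Prelude.Def_Flat
import Groth.Agent.FlatA.UnivHomeo
import Mathlib.FieldTheory.PurelyInseparable.Basic
import Mathlib.RingTheory.IntegralClosure.IntegrallyClosed
import Mathlib.RingTheory.Localization.FractionRing
import Mathlib.AlgebraicGeometry.Morphisms.UniversallyInjective
import Mathlib.AlgebraicGeometry.Morphisms.Integral

/-!
# Integral extensions of domains with purely inseparable fraction field extension

`isUnivHomeo`: `R ⊆ S` integral domains, `R` integrally closed, `S` integral over `R`, `Frac S / Frac R` purely
inseparable: `Spec S ⟶ Spec R` is a universal homeomorphism.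
-/

set_option autoImplicit false
set_option linter.unusedSectionVars false
universe u
open CategoryTheory AlgebraicGeometry

namespace K489.PurInsep

section

variable (R S K L : Type u) [CommRing R] [IsDomain R] [IsIntegrallyClosed R]
    [CommRing S] [IsDomain S] [Algebra R S] [Algebra.IsIntegral R S] [FaithfulSMul R S]
    [Field K] [Field L] [Algebra R K] [IsFractionRing R K] [Algebra S L] [FaithfulSMul S L]
    [Algebra K L] [Algebra R L] [IsScalarTower R S L] [IsScalarTower R K L] [IsPurelyInseparable K L]

include L in
/-- some `p`-power power of every element of `S` lies in `R` -/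
theorem pow_mem (q : ℕ) [ExpChar K q] (s : S) : ∃ n : ℕ, s ^ q ^ n ∈ (algebraMap R S).range := by
  obtain ⟨n, y, hy⟩ := IsPurelyInseparable.pow_mem (F := K) (E := L) q (algebraMap S L s)
  have hint : IsIntegral R y := by
    have h1 : IsIntegral R (algebraMap K L y) := by
      rw [hy, ← map_pow]
      exact (Algebra.IsIntegral.isIntegral (R := R) (s ^ q ^ n)).map (IsScalarTower.toAlgHom R S L)
    exact (isIntegral_algHom_iff (IsScalarTower.toAlgHom R K L) (algebraMap K L).injective).mp h1
  obtain ⟨r, hr⟩ := IsIntegrallyClosed.isIntegral_iff.mp hint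
  refine ⟨n, r, ?_⟩
  apply FaithfulSMul.algebraMap_injective S L
  rw [← IsScalarTower.algebraMap_apply, IsScalarTower.algebraMap_apply R K L, hr, hy, map_pow]

include K L in
theorem isUnivHomeo : FlatMor.IsUnivHomeo (Spec.map (CommRingCat.ofHom (algebraMap R S))) := by
  obtain ⟨q, hq⟩ := ExpChar.exists K
  rw [Groth.Agent.FlatA.UnivHomeo.isUnivHomeo_iff]
  refine ⟨?_, ?_, ?_⟩
  · rw [IsIntegralHom.SpecMap_iff]
    exact algebraMap_isIntegral_iff.mpr inferInstance
  · refine ((tfae_universallyInjective (Spec.map (CommRingCat.ofHom (algebraMap R S)))).out 0 1).mpr ?_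
    intro k _ x y hxy
    obtain ⟨x, rfl⟩ := Spec.map_surjective x
    obtain ⟨y, rfl⟩ := Spec.map_surjective y
    simp only at hxy
    rw [← Spec.map_comp, ← Spec.map_comp] at hxy
    have hxy' := Spec.map_injective hxy
    congr 1
    ext b
    obtain ⟨n, a, ha⟩ := pow_mem R S K L q b
    have h1 : x.hom (algebraMap R S a) = y.hom (algebraMap R S a) := congr($hxy' a)
    rw [ha, map_pow, map_pow] at h1
    rcases hq with _ | hp
    · simpa using h1
    · have hK : CharP k q := by
        rw [CharP.charP_iff_prime_eq_zero hp]
        have h3 : ((q : ℕ) : R) = 0 := by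
          apply IsFractionRing.injective R K
          rw [map_natCast, map_zero]
          exact CharP.cast_eq_zero K q
        have h2 := congrArg (x.hom.comp (algebraMap R S)) h3
        rwa [map_natCast, map_zero] at h2
      have : Fact q.Prime := ⟨hp⟩
      exact iterateFrobenius_inj k q n h1
  · constructor
    intro P
    obtain ⟨Q, -, hQ, hQ2⟩ := Ideal.exists_ideal_over_prime_of_isIntegral (R := R) (S := S) P.asIdeal ⊥
      (by
        rw [← RingHom.ker_eq_comap_bot, (RingHom.injective_iff_ker_eq_bot _).mp
          (FaithfulSMul.algebraMap_injective R S)]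
        exact bot_le)
    exact ⟨⟨Q, hQ⟩, PrimeSpectrum.ext hQ2⟩

end

end K489.PurInsep
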