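import Groth.Agent.Sga3C.GrpIrr
import Groth.Prelude.Def_Red
import Mathlib.AlgebraicGeometry.Morphisms.FlatDescent
import Mathlib.AlgebraicGeometry.Morphisms.LocalFlatDescent

/-!
# Base change to a field: connectedness, descent of properness, subtori
-/

set_option autoImplicit false
universe u
open CategoryTheory CategoryTheory.Limits AlgebraicGeometry MonObj MonoidalCategory CartesianMonoidalCategory

namespace K489.FieldBc

/-- A connected group scheme locally of finite type over a field stays connected after any base change to a field. -/
theorem irreducibleSpace_bc' {k : Type u} [Field k] {L : Type u} [Field L]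
    (g : Spec (CommRingCat.of L) ⟶ Spec (CommRingCat.of k))
    (V : Over (Spec (CommRingCat.of k))) [GrpObj V] [LocallyOfFiniteType V.hom] [ConnectedSpace V.left] :
    IrreducibleSpace (Red.bc g V).left := by
  have : GrpObj (Over.mk V.hom) := inferInstanceAs (GrpObj V)
  have h1 : GeometricallyIrreducible V.hom :=
    Groth.Agent.Sga3C.GrpIrr.geometricallyIrreducible_of_connectedSpace V.hom
  have h2 : GeometricallyIrreducible (pullback.snd V.hom g) :=
    inferInstance
  have h3 : Subsingleton (Spec (CommRingCat.of L)) := inferInstanceAs (Subsingleton (PrimeSpectrum L))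
  have h4 : Nonempty (Spec (CommRingCat.of L)) := inferInstanceAs (Nonempty (PrimeSpectrum L))
  exact GeometricallyIrreducible.irreducibleSpace_of_subsingleton
    (pullback.snd V.hom g)

/-- Subgroups of groups without subtorus have no subtorus. -/
theorem hasNoSubtorus_of_mono {K : Type u} [Field K] {L G : Over (Spec (CommRingCat.of K))} [GrpObj L] [GrpObj G]
    (l : L ⟶ G) [IsMonHom l] [Mono l] (h : Red.HasNoSubtorus K G) : Red.HasNoSubtorus K L := by
  intro T _ j _ _ hT
  exact h T (j ≫ l) hT

/-- The characteristic of a field over `Spec k`. -/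
theorem charP_of_specHom {k : Type u} [Field k] {L : Type u} [Field L]
    (g : Spec (CommRingCat.of L) ⟶ Spec (CommRingCat.of k)) (p : ℕ) [CharP k p] : CharP L p := by
  have h1 : Function.Injective (Spec.preimage g).hom := (Spec.preimage g).hom.injective
  exact (RingHom.charP_iff (Spec.preimage g).hom h1 p).mp inferInstance

theorem flat_spec {k L : Type u} [Field k] [Field L] (g : Spec (CommRingCat.of L) ⟶ Spec (CommRingCat.of k)) :
    Flat g := by
  rw [← Spec.map_preimage g]
  refine (HasRingHomProperty.Spec_iff (P := @Flat)).mpr ?_
  algebraize [(Spec.preimage g).hom]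
  exact (inferInstance : Module.Flat k L)

theorem surjective_spec {k L : Type u} [Field k] [Field L] (g : Spec (CommRingCat.of L) ⟶ Spec (CommRingCat.of k)) :
    Surjective g := by
  have h1 : Subsingleton (Spec (CommRingCat.of k)) := inferInstanceAs (Subsingleton (PrimeSpectrum k))
  have h2 : Nonempty (Spec (CommRingCat.of L)) := inferInstanceAs (Nonempty (PrimeSpectrum L))
  refine ⟨fun y => ?_⟩
  obtain ⟨x⟩ := h2
  exact ⟨x, Subsingleton.elim _ _⟩

/-- Properness descends along field extensions for group schemes locally of finite type. -/
theorem isProper_of_bc {k L : Type u} [Field k] [Field L] (g : Spec (CommRingCat.of L) ⟶ Spec (CommRingCat.of k))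
    (C : Over (Spec (CommRingCat.of k))) [IsSeparated C.hom] [LocallyOfFiniteType C.hom]
    (h : UniversallyClosed (Red.bc g C).hom) : IsProper C.hom := by
  have h1 := flat_spec g
  have h2 := surjective_spec g
  have h3 : UniversallyClosed (pullback.snd C.hom g) := h
  have h4 : UniversallyClosed C.hom :=
    MorphismProperty.of_isPullback_of_descendsAlong (P := @UniversallyClosed)
      (Q := (@Surjective ⊓ @Flat ⊓ @QuasiCompact)) (IsPullback.of_hasPullback C.hom g).flip
        ⟨⟨h2, h1⟩, inferInstance⟩ h3
  exact {}


end K489.FieldBc
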