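import Mathlib.AlgebraicGeometry.Morphisms.Flat
import Mathlib.AlgebraicGeometry.Morphisms.FinitePresentation
import Mathlib.CategoryTheory.Monoidal.Cartesian.Over
import Mathlib.CategoryTheory.Monoidal.Cartesian.Grp
import Groth.Prelude.Def_Red

/-!
# Flat surjective base change is faithful; compatibility with powers of points
-/

set_option autoImplicit false
universe u
open CategoryTheory CategoryTheory.Limits AlgebraicGeometry MonObj

namespace K489.Faithful

variable {S S' : Scheme.{u}} (f : S' ⟶ S)

/-- Base change along a flat surjective morphism is faithful. -/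
theorem map_injective [Flat f] [Surjective f] {X Y : Over S} {g h : X ⟶ Y}
    (H : (Over.pullback f).map g = (Over.pullback f).map h) : g = h := by
  apply Over.OverMorphism.ext
  have : Epi (pullback.fst X.hom f) := Flat.epi_of_flat_of_surjective _
  rw [← cancel_epi (pullback.fst X.hom f)]
  have h1 : pullback.fst X.hom f ≫ g.left = ((Over.pullback f).map g).left ≫ pullback.fst Y.hom f :=
    (pullback.lift_fst _ _ _).symm
  have h2 : pullback.fst X.hom f ≫ h.left = ((Over.pullback f).map h).left ≫ pullback.fst Y.hom f :=
    (pullback.lift_fst _ _ _).symm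
  rw [h1, h2, H]

variable (G : Over S) [GrpObj G]

theorem map_one (X : Over S) : (Over.pullback f).map (1 : X ⟶ G) = 1 :=
  _root_.map_one (Functor.homMonoidHom (F := Over.pullback f) (X := X) (M := G))

theorem map_pow {X : Over S} (x : X ⟶ G) (n : ℕ) :
    (Over.pullback f).map (x ^ n) = ((Over.pullback f).map x) ^ n :=
  _root_.map_pow (Functor.homMonoidHom (F := Over.pullback f) (X := X) (M := G)) x n

theorem map_mul {X : Over S} (x y : X ⟶ G) :
    (Over.pullback f).map (x * y) = (Over.pullback f).map x * (Over.pullback f).map y :=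
  _root_.map_mul (Functor.homMonoidHom (F := Over.pullback f) (X := X) (M := G)) x y

theorem map_inv {X : Over S} (x : X ⟶ G) :
    (Over.pullback f).map (x⁻¹) = ((Over.pullback f).map x)⁻¹ :=
  _root_.map_inv (Functor.homMonoidHom (F := Over.pullback f) (X := X) (M := G)) x

theorem map_id_pow (n : ℕ) :
    (Over.pullback f).map ((𝟙 G : G ⟶ G) ^ n) = (𝟙 (Red.bc f G) : Red.bc f G ⟶ Red.bc f G) ^ n := by
  rw [map_pow, CategoryTheory.Functor.map_id]

/-- powers of the identity vanish after a faithfully flat base change iff they vanish -/
theorem pow_eq_one_iff [Flat f] [Surjective f] (n : ℕ) :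
    (𝟙 (Red.bc f G) : Red.bc f G ⟶ Red.bc f G) ^ n = 1 ↔ (𝟙 G : G ⟶ G) ^ n = 1 := by
  constructor
  · intro h
    apply map_injective f
    rw [map_id_pow, h, map_one]
  · intro h
    rw [← map_id_pow, h, map_one]

/-- `Spec` of a field extension is flat and surjective. -/
instance flat_spec (K L : Type u) [Field K] [CommRing L] [Algebra K L] :
    Flat (Spec.map (CommRingCat.ofHom (algebraMap K L))) := by
  rw [Flat.SpecMap_iff]
  change (algebraMap K L).Flat
  rw [RingHom.flat_algebraMap_iff]
  infer_instance

instance surjective_spec (K L : Type u) [Field K] [CommRing L] [Nontrivial L] [Algebra K L] :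
    Surjective (Spec.map (CommRingCat.ofHom (algebraMap K L))) := by
  constructor
  intro x
  obtain ⟨y⟩ : Nonempty (PrimeSpectrum L) := inferInstance
  refine ⟨y, ?_⟩
  have : Subsingleton (PrimeSpectrum K) := inferInstance
  exact this.elim _ _

end K489.Faithful
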