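import Groth.Agent.Models.WeilPts
import Mathlib.AlgebraicGeometry.Morphisms.Flat
import Mathlib.AlgebraicGeometry.Morphisms.SchemeTheoreticallyDominant
import Mathlib.RingTheory.Localization.FractionRing
import Mathlib.CategoryTheory.Monoidal.Cartesian.Over
import Mathlib.CategoryTheory.Monoidal.Grp

/-!
# Morphisms agreeing on the generic fibre

`hom_ext`: two morphisms `f g : X ⟶ Y` over `Spec R` (`R` a domain, `K` a fraction field), `X` flat and `Y` separated,
which agree on generic fibres are equal.
-/

set_option autoImplicit false
universe u
open CategoryTheory CategoryTheory.Limits AlgebraicGeometry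

namespace K489.GenExt

variable {R K : Type u} [CommRing R] [IsDomain R] [Field K] [Algebra R K] [IsFractionRing R K]

theorem dominant_fst (X : Over (Spec (CommRingCat.of R))) [Flat X.hom] :
    IsSchemeTheoreticallyDominant (pullback.fst X.hom (Spec.map (CommRingCat.ofHom (algebraMap R K)))) := by
  have h0 : IsDominant (Spec.map (CommRingCat.ofHom (algebraMap R K))) := by
    constructor
    change DenseRange (PrimeSpectrum.comap (algebraMap R K))
    rw [PrimeSpectrum.denseRange_comap_iff_ker_le_nilRadical,
      (RingHom.injective_iff_ker_eq_bot _).mp (IsFractionRing.injective R K)]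
    exact bot_le
  have h1 : IsSchemeTheoreticallyDominant (Spec.map (CommRingCat.ofHom (algebraMap R K))) :=
    IsSchemeTheoreticallyDominant.of_isDominant _
  exact IsSchemeTheoreticallyDominant.of_isPullback (IsPullback.of_hasPullback X.hom _).flip

variable (K) in
/-- Two morphisms of `R`-schemes from a flat one to a separated one which agree on generic fibres are equal. -/
theorem hom_ext {X Y : Over (Spec (CommRingCat.of R))} [Flat X.hom] [IsSeparated Y.hom] {f g : X ⟶ Y}
    (h : (Over.pullback (Spec.map (CommRingCat.ofHom (algebraMap R K)))).map f =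
      (Over.pullback (Spec.map (CommRingCat.ofHom (algebraMap R K)))).map g) : f = g := by
  have hd := dominant_fst (K := K) X
  apply Over.OverMorphism.ext
  refine Groth.Agent.Models.WeilPts.ext_of_schDominant Y.hom ((Over.w f).trans (Over.w g).symm)
    (pullback.fst X.hom (Spec.map (CommRingCat.ofHom (algebraMap R K)))) ?_
  have h1 : pullback.fst X.hom (Spec.map (CommRingCat.ofHom (algebraMap R K))) ≫ f.left =
      ((Over.pullback (Spec.map (CommRingCat.ofHom (algebraMap R K)))).map f).left ≫
        pullback.fst Y.hom _ := (pullback.lift_fst _ _ _).symm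
  have h2 : pullback.fst X.hom (Spec.map (CommRingCat.ofHom (algebraMap R K))) ≫ g.left =
      ((Over.pullback (Spec.map (CommRingCat.ofHom (algebraMap R K)))).map g).left ≫
        pullback.fst Y.hom _ := (pullback.lift_fst _ _ _).symm
  rw [h1, h2, h]

end K489.GenExt
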