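import Mathlib.Algebra.Module.LinearMap.Basic
import Mathlib.Algebra.BigOperators.Group.Finset.Basic
import Mathlib.Algebra.Module.BigOperators
import Mathlib.Data.Fintype.BigOperators
import Mathlib.Tactic.Abel

/-!
# Sum decompositions of a submodule with a retraction up to isogeny

The linear algebra of the closed subgroup case: `TB ⊆ TA` modules with operators `Γ`, `s : TA → TB` with
`s ∘ ι = u ϖ ^ k`; if `TA` is the sum of the fixed submodules of the sets `H i`, so is `TB`, provided elements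
fixed by `H i` and `⋂_{j ≠ i} H j` are fixed by `Γ` and `TB / TB ^ Γ ⊆ TA / TA ^ Γ` is saturated.
-/

set_option autoImplicit false

namespace K489.NcdAbs

theorem star_sub {S Γ TA TB : Type*} [CommRing S] [AddCommGroup TA] [AddCommGroup TB] [Module S TA] [Module S TB]
    (actA : Γ → TA →ₗ[S] TA) (actB : Γ → TB →ₗ[S] TB) (ι : TB →ₗ[S] TA) (s : TA →ₗ[S] TB)
    (hιact : ∀ σ b, ι (actB σ b) = actA σ (ι b)) (hsact : ∀ σ a, s (actA σ a) = actB σ (s a))
    (q : S) (u : Sˣ) (hs : ∀ b, s (ι b) = (↑u * q) • b) (htf : ∀ b : TB, q • b = 0 → b = 0)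
    {n : ℕ} (i0 : Fin n) (H : Fin n → Set Γ)
    (hind : ∀ (i : Fin n) (x : TA), (∀ σ ∈ H i, actA σ x = x) →
      (∀ σ, (∀ j, j ≠ i → σ ∈ H j) → actA σ x = x) → ∀ σ, actA σ x = x)
    (hsat : ∀ (b : TB) (a f : TA), (∀ σ, actA σ f = f) → ι b = q • a + f →
      ∃ b' f' : TB, (∀ σ, actB σ f' = f') ∧ b = q • b' + f')
    (hstar : ∀ z : TA, ∃ w : Fin n → TA, (∀ i, ∀ σ ∈ H i, actA σ (w i) = w i) ∧ ∑ i, w i = z)
    (z : TB) : ∃ w : Fin n → TB, (∀ i, ∀ σ ∈ H i, actB σ (w i) = w i) ∧ ∑ i, w i = z := by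
  obtain ⟨a, ha, hasum⟩ := hstar (ι z)
  -- the projected decomposition
  let b : Fin n → TB := fun i => s (a i)
  have hb : ∀ i, ∀ σ ∈ H i, actB σ (b i) = b i := by
    intro i σ hσ
    rw [← hsact, ha i σ hσ]
  have hbsum : ∑ i, b i = ((u : S) * q) • z := by
    rw [← hs, ← hasum, map_sum]
  let c : Fin n → TA := fun i => ι (b i) - ((u : S) * q) • a i
  have hcH : ∀ i, ∀ σ ∈ H i, actA σ (c i) = c i := by
    intro i σ hσ
    change actA σ (ι (b i) - ((u : S) * q) • a i) = ι (b i) - ((u : S) * q) • a i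
    rw [map_sub, map_smul, ← hιact, hb i σ hσ, ha i σ hσ]
  have hcsum : ∑ i, c i = 0 := by
    rw [Finset.sum_sub_distrib, ← map_sum, hbsum, ← Finset.smul_sum, hasum, map_smul, sub_self]
  have hc : ∀ i, ∀ σ, actA σ (c i) = c i := by
    intro i
    refine hind i (c i) (hcH i) fun σ hσ => ?_
    have h1 : c i = - ∑ j ∈ Finset.univ.erase i, c j := by
      rw [eq_neg_iff_add_eq_zero, ← hcsum]
      exact Finset.add_sum_erase Finset.univ c (Finset.mem_univ i)
    rw [h1, map_neg, map_sum]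
    congr 1
    exact Finset.sum_congr rfl fun j hj => hcH j σ (hσ j (Finset.ne_of_mem_erase hj))
  -- saturation
  have h2 : ∀ i, ∃ b' f' : TB, (∀ σ, actB σ f' = f') ∧ b i = q • b' + f' := by
    intro i
    refine hsat (b i) ((u : S) • a i) (c i) (hc i) ?_
    change ι (b i) = q • (u : S) • a i + (ι (b i) - ((u : S) * q) • a i)
    rw [smul_smul, mul_comm q]
    abel
  choose b' f' hf' hbf using h2
  have htf' : ∀ x y : TB, q • x = q • y → x = y := fun x y h => by
    rw [← sub_eq_zero]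
    exact htf _ (by rw [smul_sub, h, sub_self])
  have hb' : ∀ i, ∀ σ ∈ H i, actB σ (b' i) = b' i := by
    intro i σ hσ
    apply htf'
    rw [← map_smul]
    have h3 : q • b' i = b i - f' i := by rw [hbf i, add_sub_cancel_right]
    rw [h3, map_sub, hb i σ hσ, hf']
  -- the remainder
  let f : TB := (u : S) • z - ∑ i, b' i
  have hqf : q • f = ∑ i, f' i := by
    change q • ((u : S) • z - ∑ i, b' i) = _
    rw [smul_sub, smul_smul, mul_comm q, ← hbsum, Finset.smul_sum, sub_eq_iff_eq_add, ← Finset.sum_add_distrib]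
    exact Finset.sum_congr rfl fun i _ => by rw [hbf i, add_comm]
  have hf : ∀ σ, actB σ f = f := by
    intro σ
    apply htf'
    rw [← map_smul, hqf, map_sum]
    exact Finset.sum_congr rfl fun i _ => hf' i σ
  have huz : (u : S) • z = ∑ i, (b' i + if i = i0 then f else 0) := by
    rw [Finset.sum_add_distrib, Finset.sum_ite_eq' Finset.univ i0 (fun _ => f), if_pos (Finset.mem_univ i0)]
    change _ = _ + ((u : S) • z - ∑ i, b' i)
    abel
  refine ⟨fun i => ((u⁻¹ : Sˣ) : S) • (b' i + if i = i0 then f else 0), fun i σ hσ => ?_, ?_⟩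
  · rw [map_smul, map_add, hb' i σ hσ]
    congr 2
    split_ifs
    · exact hf σ
    · exact map_zero _
  · rw [← Finset.smul_sum, ← huz, smul_smul, Units.inv_mul, one_smul]

end K489.NcdAbs
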