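import Groth.Agent.Neron.K486.GalPts
import Groth.Agent.Neron.K486.DomDvr
import Groth.Agent.Sga7.H751.SecRoot

/-!
# Galois-fixed Tate sequences of points of semiabelian group schemes over strictly henselian local domains

* `exists_set`: being fixed by an automorphism is a condition on elements of the field;
* `P`: points of a group isomorphic to the generic fibre as points of the group scheme;
* `exists_sec`: Galois-fixed Tate sequences come from sections;
* `exists_factor`: sections which are generically in a closed subgroup;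
* `exists_tate`: `l`-power torsion sections of a group scheme with connected special fibre are members of Tate
  sequences of sections.
-/

set_option autoImplicit false
universe u

open CategoryTheory CategoryTheory.Limits AlgebraicGeometry MonObj
open MonoidalCategory CartesianMonoidalCategory
open Groth.Agent.Sga7.H729.Dict Groth.Agent.Sga67.TorsionLift
open K486.TatePts K486.GalPts

namespace K489.NcdPts

section Transfer

variable {K Ω : Type u} [Field K] [Field Ω] [Algebra K Ω]

/-- Being fixed by an automorphism is a condition on elements of the field. -/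
theorem exists_set (A : Over (Spec (CommRingCat.of K))) (x : SGA7.Pts Ω A) :
    ∃ S : Set Ω, ∀ σ : Ω ≃ₐ[K] Ω, SGA7.galAct σ x = x ↔ ∀ s ∈ S, σ s = s := by
  obtain ⟨O, _, _, j, hj, hp⟩ := exists_chart A (x.left (IsLocalRing.closedPoint Ω))
  obtain ⟨f, hf⟩ := Groth.Agent.Sga67.TorsionLift.exists_factor (T := Ω) A j x hp
  have h0 : ∀ σ : Ω ≃ₐ[K] Ω, SGA7.galAct σ x = spMap ((σ : Ω →ₐ[K] Ω).comp f) ≫ j := by
    intro σ
    rw [← spMap_comp, Category.assoc, ← hf]
    rfl
  refine ⟨Set.range f, fun σ => ⟨fun h => ?_, fun h => ?_⟩⟩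
  · rintro _ ⟨o, rfl⟩
    have h2 : spMap ((σ : Ω →ₐ[K] Ω).comp f) ≫ j = spMap f ≫ j := by
      rw [← h0, h, hf]
    exact congrArg (fun g => g o) (factor_injective A j h2)
  · rw [h0, hf]
    congr 2
    ext o
    exact h _ ⟨o, rfl⟩

end Transfer

section P

variable {R K Ω : Type u} [CommRing R] [Field K] [Algebra R K] [Field Ω] [Algebra K Ω] [Algebra R Ω]
  [IsScalarTower R K Ω] (𝒜 : Over (Spec (CommRingCat.of R))) [GrpObj 𝒜]
  {A : Over (Spec (CommRingCat.of K))} [GrpObj A]
  (e : Red.bc (Spec.map (CommRingCat.ofHom (algebraMap R K))) 𝒜 ≅ A) (he : IsMonHom e.hom)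

/-- Points of `A`, isomorphic to the generic fibre of `𝒜`, as points of `𝒜`. -/
noncomputable def P : SGA7.Pts Ω A ≃* (sp R Ω ⟶ 𝒜) :=
  (MulEquiv.symm { toFun := fun x => x ≫ e.hom
                   invFun := fun x => x ≫ e.inv
                   left_inv := fun x => by dsimp only; rw [Category.assoc, e.hom_inv_id, Category.comp_id]
                   right_inv := fun x => by dsimp only; rw [Category.assoc, e.inv_hom_id, Category.comp_id]
                   map_mul' := fun x y => MonObj.mul_comp _ _ _ }).trans (toSp R K Ω 𝒜)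

lemma P_apply (x : SGA7.Pts Ω A) : P 𝒜 e he x = toSp R K Ω 𝒜 (x ≫ e.inv) := rfl

lemma P_galAct (σ : Ω ≃ₐ[K] Ω) (x : SGA7.Pts Ω A) :
    P 𝒜 e he (SGA7.galAct σ x) = res 𝒜 ((σ : Ω →ₐ[K] Ω).restrictScalars R) (P 𝒜 e he x) := by
  rw [P_apply, P_apply, ← toSp_galAct]
  exact congrArg _ (Category.assoc _ _ _)

/-- Compatibility with homomorphisms. -/
lemma P_comp {ℬ : Over (Spec (CommRingCat.of R))} [GrpObj ℬ] {B : Over (Spec (CommRingCat.of K))} [GrpObj B]
    (eB : Red.bc (Spec.map (CommRingCat.ofHom (algebraMap R K))) ℬ ≅ B) (heB : IsMonHom eB.hom)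
    (i : ℬ ⟶ 𝒜) (x : SGA7.Pts Ω B) :
    P 𝒜 e he (x ≫ eB.inv ≫ (Over.pullback (Spec.map (CommRingCat.ofHom (algebraMap R K)))).map i ≫ e.hom) =
      P ℬ eB heB x ≫ i := by
  rw [P_apply, P_apply]
  ext1
  change _ = (toSp R K Ω ℬ (x ≫ eB.inv)).left ≫ i.left
  rw [toSp_left, toSp_left]
  simp only [Category.assoc, e.hom_inv_id, Category.comp_id, Over.comp_left]
  congr 2
  exact pullback.lift_fst _ _ _

end P

section Sec

variable (R K Ω : Type u) [CommRing R] [IsDomain R] [IsNoetherianRing R] [HenselianLocalRing R]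
  [IsSepClosed (IsLocalRing.ResidueField R)] [Field K] [Algebra R K] [IsFractionRing R K]
  [Field Ω] [Algebra K Ω] [IsGalois K Ω] [Algebra R Ω] [IsScalarTower R K Ω]

/-- Galois-fixed Tate sequences come from sections. -/
theorem exists_sec (hfield : ¬ IsField R) (𝒜 : Over (Spec (CommRingCat.of R))) [GrpObj 𝒜] [IsCommMonObj 𝒜]
    [Smooth 𝒜.hom] [IsSeparated 𝒜.hom] [QuasiCompact 𝒜.hom]
    (hsab : SGA7.FibresUnipotentRankZero 𝒜)
    (hp : IsProper (pullback.snd 𝒜.hom (Spec.map (CommRingCat.ofHom (algebraMap R K)))))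
    (hgi : GeometricallyIntegral (pullback.snd 𝒜.hom (Spec.map (CommRingCat.ofHom (algebraMap R K)))))
    (l : ℕ) (hl : l.Prime) (hlp : (l : IsLocalRing.ResidueField R) ≠ 0)
    (f : ℕ → (sp R Ω ⟶ 𝒜)) (hf : ∀ (σ : Ω ≃ₐ[K] Ω) (m : ℕ), res 𝒜 ((σ : Ω →ₐ[K] Ω).restrictScalars R) (f m) = f m)
    (htors : ∀ m, f m ^ (l ^ m) = 1) (hcompat : ∀ m, f (m + 1) ^ l = f m) (m : ℕ) :
    ∃ s : 𝟙_ (Over (Spec (CommRingCat.of R))) ⟶ 𝒜, s ^ (l ^ m) = 1 ∧ toUnit (sp R Ω) ≫ s = f m := by
  obtain ⟨V, _, _, _, _, _, φ, hφ1, hφ2⟩ := K486.DomDvr.exists_strict_dvr R hfield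
  let F := FractionRing V
  let _ : Algebra R V := φ.toAlgebra
  have hloc : IsLocalHom (algebraMap R V) := hφ1
  let ψ : K →+* F := IsFractionRing.map (A := R) (B := V) (K := K) (L := F) hφ2
  let _ : Algebra K F := ψ.toAlgebra
  have hT1 : IsScalarTower R V F := inferInstance
  have hT2 : IsScalarTower R K F := IsScalarTower.of_algebraMap_eq fun a => by
    rw [IsScalarTower.algebraMap_apply R V F]
    exact (IsLocalization.map_eq (M := nonZeroDivisors R) (T := nonZeroDivisors V) (S := K) (Q := F)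
      (nonZeroDivisors_le_comap_nonZeroDivisors_of_injective φ hφ2) a).symm
  have hw : Spec.map (CommRingCat.ofHom (algebraMap R F)) =
      Spec.map (CommRingCat.ofHom (algebraMap K F)) ≫ Spec.map (CommRingCat.ofHom (algebraMap R K)) := by
    rw [← Spec.map_comp, ← CommRingCat.ofHom_comp, ← IsScalarTower.algebraMap_eq]
  -- the generic fibre over `F`
  have hsq := (IsPullback.of_hasPullback (pullback.snd 𝒜.hom (Spec.map (CommRingCat.ofHom (algebraMap R K))))
    (Spec.map (CommRingCat.ofHom (algebraMap K F)))).paste_horiz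
      (IsPullback.of_hasPullback 𝒜.hom (Spec.map (CommRingCat.ofHom (algebraMap R K))))
  rw [← hw] at hsq
  have hsq2 := IsPullback.of_hasPullback 𝒜.hom (Spec.map (CommRingCat.ofHom (algebraMap R F)))
  have hlift : pullback.snd 𝒜.hom (Spec.map (CommRingCat.ofHom (algebraMap R F))) =
      (hsq2.isoIsPullback _ _ hsq).hom ≫ pullback.snd (pullback.snd 𝒜.hom
        (Spec.map (CommRingCat.ofHom (algebraMap R K)))) (Spec.map (CommRingCat.ofHom (algebraMap K F))) :=
    (hsq2.isoIsPullback_hom_snd _ _ hsq).symm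
  have hpF : IsProper (pullback.snd 𝒜.hom (Spec.map (CommRingCat.ofHom (algebraMap R F)))) := by
    rw [hlift]
    infer_instance
  have hgiF : GeometricallyIntegral (pullback.snd 𝒜.hom (Spec.map (CommRingCat.ofHom (algebraMap R F)))) := by
    rw [hlift]
    exact (MorphismProperty.cancel_left_of_respectsIso @GeometricallyIntegral _ _).2 inferInstance
  -- descend to `K`
  have hy : ∀ m, ∃ y : sp R K ⟶ 𝒜, res 𝒜 (IsScalarTower.toAlgHom R K Ω) y = f m := fun m =>
    exists_pt 𝒜 (f m) fun σ => hf σ m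
  choose y hy using hy
  have hinj := res_injective 𝒜 (IsScalarTower.toAlgHom R K Ω)
  have hinj2 := res_injective 𝒜 (IsScalarTower.toAlgHom R K F)
  obtain ⟨s, hs1, hs2⟩ := K486.TatePts.of_dvr R V F 𝒜 hsab hpF hgiF l hl hlp
    (fun m => res 𝒜 (IsScalarTower.toAlgHom R K F) (y m))
    (fun m => by
      have h1 : y m ^ (l ^ m) = 1 := hinj (by rw [map_pow, hy, htors, map_one])
      rw [← map_pow, h1, map_one])
    (fun m => by
      have h1 : y (m + 1) ^ l = y m := hinj (by rw [map_pow, hy, hy, hcompat])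
      rw [← map_pow, h1]) m
  refine ⟨s, hs1, ?_⟩
  have h3 : toUnit (sp R K) ≫ s = y m := by
    apply hinj2
    rw [res_toUnit]
    exact hs2
  rw [← hy m, ← h3, res_toUnit]

end Sec

section Factor

/-- A section generically in a closed subgroup is in the closed subgroup. -/
theorem exists_factor (R Ω : Type u) [CommRing R] [IsDomain R] [Field Ω] [Algebra R Ω]
    (hinj : Function.Injective (algebraMap R Ω)) (𝒜 ℬ : Over (Spec (CommRingCat.of R))) [GrpObj 𝒜] [GrpObj ℬ]
    (i : ℬ ⟶ 𝒜) [IsMonHom i] [IsClosedImmersion i.left] (s : 𝟙_ (Over (Spec (CommRingCat.of R))) ⟶ 𝒜)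
    (b : sp R Ω ⟶ ℬ) (hb : toUnit (sp R Ω) ≫ s = b ≫ i) :
    ∃ t : 𝟙_ (Over (Spec (CommRingCat.of R))) ⟶ ℬ, t ≫ i = s ∧ toUnit (sp R Ω) ≫ t = b := by
  have hmono : Mono i := by
    have : Mono i.left := inferInstance
    exact Over.mono_of_mono_left i
  have hsurj : Surjective (pullback.snd i.left s.left) := by
    have hcl : IsClosed (Set.range (pullback.snd i.left s.left)) :=
      (pullback.snd i.left s.left).isClosedEmbedding.isClosed_range
    have h1 : (toUnit (sp R Ω)).left ≫ s.left = b.left ≫ i.left := congrArg (fun q => q.left) hb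
    let x : sp.{u} R Ω |>.left := IsLocalRing.closedPoint Ω
    have h2 : (toUnit (sp R Ω)).left = Spec.map (CommRingCat.ofHom (algebraMap R Ω)) := by
      have : toUnit (sp R Ω) = Over.homMk (Spec.map (CommRingCat.ofHom (algebraMap R Ω)))
        (Category.comp_id _) := toUnit_unique _ _
      rw [this]
      rfl
    have h3 : ((toUnit (sp R Ω)).left x) = genericPoint (Spec (CommRingCat.of R)) := by
      rw [h2]
      have h4 : (Spec.map (CommRingCat.ofHom (algebraMap R Ω))) (IsLocalRing.closedPoint Ω) =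
          (⊥ : PrimeSpectrum R) := by
        refine PrimeSpectrum.ext ?_
        change Ideal.comap (algebraMap R Ω) (IsLocalRing.maximalIdeal Ω) = ⊥
        rw [IsLocalRing.isField_iff_maximalIdeal_eq.1 (Field.toIsField Ω)]
        exact Ideal.comap_bot_of_injective _ hinj
      rw [h4]
      exact (genericPoint_eq_bot_of_affine (CommRingCat.of R)).symm
    have h5 : genericPoint (Spec (CommRingCat.of R)) ∈ Set.range (pullback.snd i.left s.left) := by
      obtain ⟨z, -, hz⟩ := Scheme.Pullback.exists_preimage_pullback (f := i.left) (g := s.left) (b.left x)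
        ((toUnit (sp R Ω)).left x) (by
          rw [← Scheme.Hom.comp_apply, ← Scheme.Hom.comp_apply, h1])
      exact ⟨z, by rw [hz, h3]⟩
    have h6 : closure {genericPoint (Spec (CommRingCat.of R))} = Set.univ :=
      genericPoint_closure _
    refine ⟨fun y => ?_⟩
    have h7 : (Set.univ : Set (Spec (CommRingCat.of R))) ⊆ Set.range (pullback.snd i.left s.left) := by
      rw [← h6]
      exact closure_minimal (Set.singleton_subset_iff.2 h5) hcl
    exact h7 (Set.mem_univ y)
  have : IsReduced (𝟙_ (Over (Spec (CommRingCat.of R)))).left :=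
    inferInstanceAs (IsReduced (Spec (CommRingCat.of R)))
  have hiso : IsIso (pullback.snd i.left s.left) := isIso_of_isClosedImmersion_of_surjective _
  have hw : (inv (pullback.snd i.left s.left) ≫ pullback.fst i.left s.left) ≫ i.left = s.left := by
    rw [Category.assoc, pullback.condition, IsIso.inv_hom_id_assoc]
  let t : 𝟙_ (Over (Spec (CommRingCat.of R))) ⟶ ℬ :=
    Over.homMk (inv (pullback.snd i.left s.left) ≫ pullback.fst i.left s.left) (by
      rw [← Over.w i, ← Category.assoc, hw, Over.w s])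
  have ht : t ≫ i = s := by
    ext1
    exact hw
  refine ⟨t, ht, ?_⟩
  rw [← cancel_mono i, Category.assoc, ht, hb]

end Factor

section Tate

/-- All sections are in the unit component if the special fibre is connected. -/
theorem mem_secUnitComp {R : Type u} [CommRing R] [IsLocalRing R] (ℬ : Over (Spec (CommRingCat.of R))) [GrpObj ℬ]
    (hconn : ConnectedSpace ↥(pullback ℬ.hom (Spec.map (CommRingCat.ofHom (IsLocalRing.residue R)))))
    (t : 𝟙_ (Over (Spec (CommRingCat.of R))) ⟶ ℬ) : t ∈ SGA7.secUnitComp R ℬ := by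
  have hr : Set.range (pullback.fst ℬ.hom (Spec.map (CommRingCat.ofHom (IsLocalRing.residue R)))) =
      SGA7.specialFibreSet R ℬ := by
    rw [Scheme.Pullback.range_fst]
    change _ = ℬ.hom ⁻¹' {IsLocalRing.closedPoint R}
    congr 1
    ext z
    constructor
    · rintro ⟨w, rfl⟩
      have hw : w = IsLocalRing.closedPoint (IsLocalRing.ResidueField R) :=
        Subsingleton.elim (α := PrimeSpectrum (IsLocalRing.ResidueField R)) _ _
      rw [hw]
      exact IsLocalRing.comap_closedPoint (IsLocalRing.residue R)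
    · rintro rfl
      exact ⟨IsLocalRing.closedPoint _, IsLocalRing.comap_closedPoint (IsLocalRing.residue R)⟩
  have hpre : _root_.IsPreconnected (SGA7.specialFibreSet R ℬ) := by
    rw [← hr]
    exact isPreconnected_range (pullback.fst ℬ.hom _).continuous
  have hsec : ∀ x : 𝟙_ (Over (Spec (CommRingCat.of R))) ⟶ ℬ,
      x.left (IsLocalRing.closedPoint R) ∈ SGA7.specialFibreSet R ℬ := fun x =>
    Groth.Agent.Sga7.H750.SecComp.section_mem_specialFibreSet ℬ x
  exact hpre.subset_connectedComponentIn (hsec η[ℬ]) subset_rfl (hsec t)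

/-- `l`-power torsion sections are members of Tate sequences of sections. -/
theorem exists_tate {R : Type u} [CommRing R] [IsNoetherianRing R] [IsLocalRing R]
    (hR : EtCoh.IsStrictlyHenselianLocalRing R)
    (ℬ : Over (Spec (CommRingCat.of R))) [GrpObj ℬ] [IsCommMonObj ℬ] [Smooth ℬ.hom] [QuasiCompact ℬ.hom]
    (hconn : ConnectedSpace ↥(pullback ℬ.hom (Spec.map (CommRingCat.ofHom (IsLocalRing.residue R)))))
    (l : ℕ) (hlp : (l : IsLocalRing.ResidueField R) ≠ 0) (k : ℕ)
    (t : 𝟙_ (Over (Spec (CommRingCat.of R))) ⟶ ℬ) (ht : t ^ (l ^ k) = 1) :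
    ∃ τ : ℕ → (𝟙_ (Over (Spec (CommRingCat.of R))) ⟶ ℬ), (∀ j, τ j ^ (l ^ j) = 1) ∧
      (∀ j, τ (j + 1) ^ l = τ j) ∧ τ k = t := by
  have het : Etale (𝟙 ℬ ^ l).left := by
    apply Groth.Agent.Sga7.H751.PowEtale.etale_pow
    intro p
    exact natCast_residueField_ne_zero hlp p
  have hroot : ∀ z : 𝟙_ (Over (Spec (CommRingCat.of R))) ⟶ ℬ, ∃ w : 𝟙_ (Over (Spec (CommRingCat.of R))) ⟶ ℬ,
      w ^ l = z := fun z => by
    obtain ⟨w, -, hw⟩ := Groth.Agent.Sga7.H751.SecRoot.exists_root_mem_secUnitComp ℬ hR l z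
      (mem_secUnitComp ℬ hconn z)
    exact ⟨w, hw⟩
  choose ro hro using hroot
  let τ : ℕ → (𝟙_ (Over (Spec (CommRingCat.of R))) ⟶ ℬ) := fun j =>
    if j ≤ k then t ^ (l ^ (k - j)) else ro^[j - k] t
  have h1 : ∀ j, ro^[j] t ^ (l ^ j) = t := by
    intro j
    induction j with
    | zero => simp
    | succ j ih => rw [Function.iterate_succ_apply', pow_succ', pow_mul, hro, ih]
  have hk : τ k = t := by
    change (if k ≤ k then _ else _) = t
    rw [if_pos le_rfl, Nat.sub_self, pow_zero, pow_one]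
  refine ⟨τ, fun j => ?_, fun j => ?_, hk⟩
  · change (if j ≤ k then _ else _) ^ _ = _
    split_ifs with h
    · rw [← pow_mul, ← pow_add, Nat.sub_add_cancel h, ht]
    · have h2 : j = (j - k) + k := by omega
      have h3 : l ^ j = l ^ (j - k) * l ^ k := by rw [← pow_add, ← h2]
      rw [h3, pow_mul, h1, ht]
  · change (if j + 1 ≤ k then _ else _) ^ _ = (if j ≤ k then _ else _)
    by_cases h : j + 1 ≤ k
    · rw [if_pos h, if_pos (by omega), ← pow_mul, ← pow_succ]
      congr 2
      omega
    · rw [if_neg h]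
      by_cases h' : j ≤ k
      · have h4 : j = k := by omega
        subst h4
        rw [if_pos le_rfl, Nat.sub_self, pow_zero, pow_one]
        have h5 : j + 1 - j = 1 := by omega
        rw [h5]
        exact hro t
      · rw [if_neg h']
        have h5 : j + 1 - k = (j - k) + 1 := by omega
        rw [h5, Function.iterate_succ_apply', hro]

end Tate

end K489.NcdPts
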