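import Groth.Agent.Ega4dA.RegQuot
import Groth.Agent.S0558
import Groth.Agent.Neron.K188.GeoInt

/-!
# The strict normal crossing situation

* `prime_of_li`, `not_dvd_of_li`: part of a regular system of parameters consists of non-associated primes;
* `isProper_gen`, `geometricallyIntegral_gen`: the generic fibre of a semiabelian scheme which is abelian over the
  complement of the divisor.
-/

set_option autoImplicit false
universe u

open CategoryTheory Limits AlgebraicGeometry

namespace K489.NcdReg

section Reg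

variable {R : Type u} [CommRing R] [IsRegularLocalRing R] {ι : Type*} (r : ι → R)
  (hr : ∀ i, r i ∈ IsLocalRing.maximalIdeal R)
  (hli : LinearIndependent (IsLocalRing.ResidueField R)
    (fun i => (IsLocalRing.maximalIdeal R).toCotangent ⟨r i, hr i⟩))

include hli

theorem notMem_sq (i : ι) : r i ∉ IsLocalRing.maximalIdeal R ^ 2 := fun h =>
  hli.ne_zero i ((Ideal.toCotangent_eq_zero _ _).2 h)

theorem prime_of_li (i : ι) : Prime (r i) := by
  have h2 := notMem_sq r hr hli i
  have hreg := Groth.Agent.Ega4dA.RegQuot.isRegularLocalRing_quotient R (r i) (hr i) h2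
  have hdom : IsDomain (R ⧸ Ideal.span {r i}) := Groth.Agent.S0558.result _
  have hx0 : r i ≠ 0 := fun h => h2 (h ▸ Ideal.zero_mem _)
  exact (Ideal.span_singleton_prime hx0).mp ((Ideal.Quotient.isDomain_iff_prime _).mp hdom)

theorem not_dvd_of_li {i j : ι} (hij : j ≠ i) : ¬ r i ∣ r j := by
  rintro ⟨c, hc⟩
  refine hli.notMem_span_image (s := {i}) (x := j) (by simpa using hij) ?_
  have h1 : (IsLocalRing.maximalIdeal R).toCotangent ⟨r j, hr j⟩ =
      IsLocalRing.residue R c • (IsLocalRing.maximalIdeal R).toCotangent ⟨r i, hr i⟩ := by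
    have h2 : (⟨r j, hr j⟩ : IsLocalRing.maximalIdeal R) = c • ⟨r i, hr i⟩ :=
      Subtype.ext (hc.trans (mul_comm _ _))
    rw [h2, map_smul]
    rfl
  rw [h1, Set.image_singleton]
  exact Submodule.smul_mem _ _ (Submodule.mem_span_singleton_self _)

end Reg

section Gen

variable {R K : Type u} [CommRing R] [Field K] [Algebra R K]
  (hinj : Function.Injective (algebraMap R K)) {a : R} (ha : a ≠ 0) (𝒜 : Over (Spec (CommRingCat.of R)))

include hinj ha

theorem isProper_gen (hprop : IsProper (pullback.snd 𝒜.hom
      (Spec.map (CommRingCat.ofHom (algebraMap R (Localization.Away a)))))) :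
    IsProper (pullback.snd 𝒜.hom (Spec.map (CommRingCat.ofHom (algebraMap R K)))) := by
  have hu : IsUnit (algebraMap R K a) := isUnit_iff_ne_zero.2 fun h => ha (hinj (by rw [h, map_zero]))
  let φ : Localization.Away a →+* K := IsLocalization.Away.lift a hu
  have hφ : φ.comp (algebraMap R (Localization.Away a)) = algebraMap R K := by
    ext x
    exact IsLocalization.Away.lift_eq a hu x
  have hw : Spec.map (CommRingCat.ofHom (algebraMap R K)) = Spec.map (CommRingCat.ofHom φ) ≫
      Spec.map (CommRingCat.ofHom (algebraMap R (Localization.Away a))) := by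
    rw [← Spec.map_comp, ← CommRingCat.ofHom_comp, hφ]
  have hsq := (IsPullback.of_hasPullback (pullback.snd 𝒜.hom
    (Spec.map (CommRingCat.ofHom (algebraMap R (Localization.Away a)))))
      (Spec.map (CommRingCat.ofHom φ))).paste_horiz (IsPullback.of_hasPullback 𝒜.hom
        (Spec.map (CommRingCat.ofHom (algebraMap R (Localization.Away a)))))
  rw [← hw] at hsq
  have hsq2 := IsPullback.of_hasPullback 𝒜.hom (Spec.map (CommRingCat.ofHom (algebraMap R K)))
  rw [← hsq2.isoIsPullback_hom_snd _ _ hsq]
  infer_instance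

theorem geometricallyIntegral_gen [GrpObj 𝒜] [Smooth 𝒜.hom]
    (hconn : ∀ (L : Type u) [Field L] (φ : R →+* L), φ a ≠ 0 →
      ConnectedSpace ↑(pullback 𝒜.hom (Spec.map (CommRingCat.ofHom φ)))) :
    GeometricallyIntegral (pullback.snd 𝒜.hom (Spec.map (CommRingCat.ofHom (algebraMap R K)))) := by
  let B : Over (Spec (CommRingCat.of K)) := Red.bc (Spec.map (CommRingCat.ofHom (algebraMap R K))) 𝒜
  have h1 : Smooth B.hom :=
    inferInstanceAs (Smooth (pullback.snd 𝒜.hom (Spec.map (CommRingCat.ofHom (algebraMap R K)))))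
  refine K188.GeoInt.geometricallyIntegral B fun L _ t => ?_
  obtain ⟨ψ, rfl⟩ : ∃ ψ : K →+* L, Spec.map (CommRingCat.ofHom ψ) = t :=
    ⟨(Spec.preimage t).hom, by rw [CommRingCat.ofHom_hom, Spec.map_preimage]⟩
  have h2 := hconn L (ψ.comp (algebraMap R K)) (by
    rw [RingHom.comp_apply, map_ne_zero]
    exact fun h => ha (hinj (by rw [h, map_zero])))
  have hsq := (IsPullback.of_hasPullback (pullback.snd 𝒜.hom (Spec.map (CommRingCat.ofHom (algebraMap R K))))
      (Spec.map (CommRingCat.ofHom ψ))).paste_horiz (IsPullback.of_hasPullback 𝒜.hom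
        (Spec.map (CommRingCat.ofHom (algebraMap R K))))
  rw [← Spec.map_comp, ← CommRingCat.ofHom_comp] at hsq
  exact (Scheme.homeoOfIso hsq.isoPullback).symm.surjective.connectedSpace
    (Scheme.homeoOfIso hsq.isoPullback).symm.continuous

end Gen

end K489.NcdReg
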