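import Groth.Prelude.Def_AbDual
import Groth.Prelude.Def_SGA7IX

/-!
# The Tate module of points with values in a field: components, Galois action, divisibility
-/

set_option autoImplicit false
universe u

open CategoryTheory CategoryTheory.Limits AlgebraicGeometry MonObj
open MonoidalCategory CartesianMonoidalCategory
open AbDual

noncomputable section

namespace K489.NcdTate

variable {K Ω : Type u} [Field K] [Field Ω] [Algebra K Ω]
  {A : Over (Spec (CommRingCat.of K))} [GrpObj A] [IsCommMonObj A] {l : ℕ}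

/-- The `n`-th component. -/
def c (n : ℕ) (x : TateMod A l (SGA7.pt (K := K) Ω)) : SGA7.Pts Ω A :=
  (TateMod.component A l (SGA7.pt Ω) n x).toMul

lemma c_pow (n : ℕ) (x : TateMod A l (SGA7.pt (K := K) Ω)) : c n x ^ l ^ n = 1 := x.torsion n

lemma c_succ (n : ℕ) (x : TateMod A l (SGA7.pt (K := K) Ω)) : c (n + 1) x ^ l = c n x := x.compat n

lemma c_add (n : ℕ) (x y : TateMod A l (SGA7.pt (K := K) Ω)) : c n (x + y) = c n x * c n y := rfl

lemma c_zero (n : ℕ) : c n (0 : TateMod A l (SGA7.pt (K := K) Ω)) = 1 := rfl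

lemma ext_c {x y : TateMod A l (SGA7.pt (K := K) Ω)} (h : ∀ n, c n x = c n y) : x = y :=
  TateMod.ext fun n => Additive.toMul.injective (h n)

lemma c_sub (n : ℕ) (x y : TateMod A l (SGA7.pt (K := K) Ω)) : c n (x - y) = c n x * (c n y)⁻¹ := by
  rw [eq_mul_inv_iff_mul_eq, ← c_add, sub_add_cancel]

lemma c_add_pow (n k : ℕ) (x : TateMod A l (SGA7.pt (K := K) Ω)) : c (n + k) x ^ l ^ k = c n x := by
  induction k with
  | zero => rw [pow_zero, pow_one, Nat.add_zero]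
  | succ k ih => rw [← Nat.add_assoc, pow_succ', pow_mul, c_succ, ih]

/-- The Tate module element with given components. -/
def mk (f : ℕ → SGA7.Pts Ω A) (h1 : ∀ n, f n ^ l ^ n = 1) (h2 : ∀ n, f (n + 1) ^ l = f n) :
    TateMod A l (SGA7.pt (K := K) Ω) :=
  ⟨fun n => Additive.ofMul (f n), ⟨fun n => h1 n, fun n => h2 n⟩⟩

lemma c_mk (f : ℕ → SGA7.Pts Ω A) (h1 : ∀ n, f n ^ l ^ n = 1) (h2 : ∀ n, f (n + 1) ^ l = f n) (n : ℕ) :
    c n (mk f h1 h2) = f n := rfl

omit [IsCommMonObj A] in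
lemma galAct_pow (σ : Ω ≃ₐ[K] Ω) (x : SGA7.Pts Ω A) (n : ℕ) :
    SGA7.galAct σ (x ^ n) = SGA7.galAct σ x ^ n := MonObj.comp_pow _ _ _

lemma galAct_one (σ : Ω ≃ₐ[K] Ω) : SGA7.galAct σ (1 : SGA7.Pts Ω A) = 1 := MonObj.comp_one _

section Padic

variable [hl : Fact l.Prime]

lemma c_smul (n : ℕ) (a : ℤ_[l]) (x : TateMod A l (SGA7.pt (K := K) Ω)) : c n (a • x) = c n x ^ a.appr n := rfl

lemma natCast_smul (a : ℕ) (x : TateMod A l (SGA7.pt (K := K) Ω)) : (a : ℤ_[l]) • x = a • x :=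
  Nat.cast_smul_eq_nsmul ℤ_[l] a x

omit hl in
lemma c_nsmul (n a : ℕ) (x : TateMod A l (SGA7.pt (K := K) Ω)) : c n (a • x) = c n x ^ a := by
  induction a with
  | zero => rw [zero_smul, pow_zero, c_zero]
  | succ a ih => rw [succ_nsmul, c_add, ih, pow_succ]

lemma c_natPow_smul (n k : ℕ) (x : TateMod A l (SGA7.pt (K := K) Ω)) :
    c n (((l : ℤ_[l]) ^ k) • x) = c n x ^ l ^ k := by
  rw [← Nat.cast_pow, natCast_smul, c_nsmul]

/-- The Galois action. -/
def act (σ : Ω ≃ₐ[K] Ω) : TateMod A l (SGA7.pt (K := K) Ω) →ₗ[ℤ_[l]] TateMod A l (SGA7.pt (K := K) Ω) where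
  toFun x := mk (fun n => SGA7.galAct σ (c n x)) (fun n => by rw [← galAct_pow, c_pow, galAct_one])
    (fun n => by rw [← galAct_pow, c_succ])
  map_add' x y := ext_c fun n => by
    rw [c_mk, c_add, c_add, c_mk, c_mk]
    exact MonObj.comp_mul _ _ _
  map_smul' a x := ext_c fun n => by
    rw [RingHom.id_apply, c_mk, c_smul, c_smul, c_mk, galAct_pow]

lemma c_act (σ : Ω ≃ₐ[K] Ω) (x : TateMod A l (SGA7.pt (K := K) Ω)) (n : ℕ) :
    c n (act σ x) = SGA7.galAct σ (c n x) := rfl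

lemma act_eq_iff (σ : Ω ≃ₐ[K] Ω) (x : TateMod A l (SGA7.pt (K := K) Ω)) :
    act σ x = x ↔ ∀ n, SGA7.galAct σ (c n x) = c n x :=
  ⟨fun h n => by rw [← c_act, h], fun h => ext_c h⟩

lemma c_tateMap {B : Over (Spec (CommRingCat.of K))} [GrpObj B] [IsCommMonObj B] (f : A ⟶ B) [IsMonHom f]
    (x : TateMod A l (SGA7.pt (K := K) Ω)) (n : ℕ) : c n (tateMapₗ f x) = c n x ≫ f := rfl

lemma tateMap_act {B : Over (Spec (CommRingCat.of K))} [GrpObj B] [IsCommMonObj B] (f : A ⟶ B) [IsMonHom f]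
    (σ : Ω ≃ₐ[K] Ω) (x : TateMod A l (SGA7.pt (K := K) Ω)) :
    tateMapₗ f (act σ x) = act σ (tateMapₗ f x) := ext_c fun n => by
  rw [c_tateMap, c_act, c_act, c_tateMap]
  exact Category.assoc _ _ _

lemma eq_zero_of_smul (k : ℕ) (x : TateMod A l (SGA7.pt (K := K) Ω)) (h : ((l : ℤ_[l]) ^ k) • x = 0) : x = 0 := by
  refine ext_c fun n => ?_
  rw [← c_add_pow n k x, ← c_natPow_smul, h, c_zero, c_zero]

/-- Elements with trivial `k`-th component are divisible by `l ^ k`. -/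
lemma exists_smul (k : ℕ) (x : TateMod A l (SGA7.pt (K := K) Ω)) (h : c k x = 1) :
    ∃ y : TateMod A l (SGA7.pt (K := K) Ω), x = ((l : ℤ_[l]) ^ k) • y := by
  refine ⟨mk (fun n => c (n + k) x) (fun n => ?_) (fun n => ?_), ext_c fun n => ?_⟩
  · rw [Nat.add_comm n k, c_add_pow, h]
  · rw [Nat.add_right_comm, c_succ]
  · rw [c_natPow_smul, c_mk, c_add_pow]

end Padic

end K489.NcdTate
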