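import Groth.Agent.Neron.K489.NcdKum
import Groth.Agent.Neron.K489.NcdPts
import Groth.Agent.Neron.K489.NcdReg
import Groth.Agent.Neron.K489.NcdAbs
import Groth.Agent.Neron.K489.NcdTate
import Groth.Agent.AbVar.K505.Image

/-!
# Toric additivity of closed semiabelian subgroups
-/

set_option autoImplicit false
universe u
open CategoryTheory CategoryTheory.Limits AlgebraicGeometry MonObj
open MonoidalCategory CartesianMonoidalCategory
open Groth.Agent.Sga7.H729.Dict Groth.Agent.Sga67.TorsionLift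
open K486.TatePts K486.GalPts K489.NcdTate K489.NcdPts AbDual

noncomputable section

namespace K489.NcdB

/-- An element of the Tate module fixed by `H_i` and `⋂_{j ≠ i} H_j` is fixed by the Galois group. -/
theorem indep (R K Ω : Type u) [CommRing R] [IsDomain R] [IsNoetherianRing R] [HenselianLocalRing R]
    [IsSepClosed (IsLocalRing.ResidueField R)] [Field K] [Algebra R K] [IsFractionRing R K]
    [Field Ω] [Algebra K Ω] [IsSepClosure K Ω] [Algebra R Ω] [IsScalarTower R K Ω]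
    (A : Over (Spec (CommRingCat.of K))) [GrpObj A] [IsCommMonObj A] {l : ℕ} [Fact l.Prime]
    (hl : IsUnit (l : R)) {I : Type*} (r : I → R) (hprime : ∀ i, Prime (r i))
    (hdvd : ∀ i j, j ≠ i → ¬ r i ∣ r j) (i : I) (x : TateMod A l (SGA7.pt (K := K) Ω))
    (h1 : ∀ σ : Ω ≃ₐ[K] Ω, (∀ (k : ℕ) (y : Ω), y ^ (l ^ k) = algebraMap K Ω (algebraMap R K (r i)) → σ y = y) →
      act σ x = x)
    (h2 : ∀ σ : Ω ≃ₐ[K] Ω, (∀ j, j ≠ i → ∀ (k : ℕ) (y : Ω),
      y ^ (l ^ k) = algebraMap K Ω (algebraMap R K (r j)) → σ y = y) → act σ x = x)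
    (σ : Ω ≃ₐ[K] Ω) : act σ x = x := by
  rw [act_eq_iff]
  intro n
  obtain ⟨S, hS⟩ := exists_set A (c n x)
  rw [hS]
  intro s hs
  have hR : ∀ j, algebraMap R Ω (r j) = algebraMap K Ω (algebraMap R K (r j)) := fun j =>
    IsScalarTower.algebraMap_apply R K Ω _
  refine K489.NcdKum.apply_eq R K Ω hl {j | j ≠ i} r (hprime i) (fun j hj => hdvd i j hj) s
    (fun σ hσ => ?_) (fun σ hσ => ?_) σ
  · exact (hS σ).1 ((act_eq_iff σ x).1 (h1 σ fun k y hy => hσ k y (by rw [hy, hR])) n) s hs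
  · exact (hS σ).1 ((act_eq_iff σ x).1 (h2 σ fun j hj k y hy => hσ j hj k y (by rw [hy, hR])) n) s hs

/-- Saturation: `T_B / T_B ^ G ⊆ T_A / T_A ^ G` is saturated for a closed subgroup with connected fibres. -/
theorem sat (R K Ω : Type u) [CommRing R] [IsDomain R] [IsNoetherianRing R] [HenselianLocalRing R]
    [IsSepClosed (IsLocalRing.ResidueField R)] [Field K] [Algebra R K] [IsFractionRing R K]
    [Field Ω] [Algebra K Ω] [IsSepClosure K Ω] [Algebra R Ω] [IsScalarTower R K Ω] (hfield : ¬ IsField R)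
    (𝒜 : Over (Spec (CommRingCat.of R))) [GrpObj 𝒜] [IsCommMonObj 𝒜]
    [Smooth 𝒜.hom] [IsSeparated 𝒜.hom] [QuasiCompact 𝒜.hom]
    (hsab : SGA7.FibresUnipotentRankZero 𝒜)
    (hp : IsProper (pullback.snd 𝒜.hom (Spec.map (CommRingCat.ofHom (algebraMap R K)))))
    (hgi : GeometricallyIntegral (pullback.snd 𝒜.hom (Spec.map (CommRingCat.ofHom (algebraMap R K)))))
    (ℬ : Over (Spec (CommRingCat.of R))) [GrpObj ℬ] [IsCommMonObj ℬ] [Smooth ℬ.hom] [QuasiCompact ℬ.hom]
    (hconn : ConnectedSpace ↥(pullback ℬ.hom (Spec.map (CommRingCat.ofHom (IsLocalRing.residue R)))))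
    (incl : ℬ ⟶ 𝒜) [IsMonHom incl] [IsClosedImmersion incl.left]
    (A : Over (Spec (CommRingCat.of K))) [GrpObj A] [IsCommMonObj A]
    (e : Red.bc (Spec.map (CommRingCat.ofHom (algebraMap R K))) 𝒜 ≅ A) (he : IsMonHom e.hom)
    (B : Over (Spec (CommRingCat.of K))) [GrpObj B] [IsCommMonObj B]
    (eB : Red.bc (Spec.map (CommRingCat.ofHom (algebraMap R K))) ℬ ≅ B) (heB : IsMonHom eB.hom)
    (inclK : B ⟶ A) [IsMonHom inclK]
    (hincl : inclK = eB.inv ≫ (Over.pullback (Spec.map (CommRingCat.ofHom (algebraMap R K)))).map incl ≫ e.hom)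
    (l : ℕ) [Fact l.Prime] (hlp : (l : IsLocalRing.ResidueField R) ≠ 0) (k : ℕ)
    (b : TateMod B l (SGA7.pt (K := K) Ω)) (a f : TateMod A l (SGA7.pt (K := K) Ω))
    (hf : ∀ σ : Ω ≃ₐ[K] Ω, act σ f = f) (hb : tateMapₗ inclK b = ((l : ℤ_[l]) ^ k) • a + f) :
    ∃ b' f' : TateMod B l (SGA7.pt (K := K) Ω), (∀ σ : Ω ≃ₐ[K] Ω, act σ f' = f') ∧
      b = ((l : ℤ_[l]) ^ k) • b' + f' := by
  have hl : l.Prime := Fact.out
  have hR : EtCoh.IsStrictlyHenselianLocalRing R := ⟨inferInstance, inferInstance⟩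
  have hinj : Function.Injective (algebraMap R Ω) := by
    rw [IsScalarTower.algebraMap_eq R K Ω]
    exact (algebraMap K Ω).injective.comp (IsFractionRing.injective R K)
  -- the `k`-th component
  have h1 : c k b ≫ inclK = c k f := by
    have h2 := congrArg (c k) hb
    rw [c_tateMap, c_add, c_natPow_smul, c_pow, _root_.one_mul] at h2
    exact h2
  -- sections of `𝒜`
  obtain ⟨s, hs0, hs⟩ := exists_sec R K Ω hfield 𝒜 hsab hp hgi l hl hlp (fun m => P 𝒜 e he (c m f))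
    (fun σ m => by
      rw [← P_galAct, (act_eq_iff σ f).1 (hf σ) m])
    (fun m => by rw [← map_pow, c_pow, map_one]) (fun m => by rw [← map_pow, c_succ]) k
  obtain ⟨t, ht1, ht2⟩ := exists_factor R Ω hinj 𝒜 ℬ incl s (P ℬ eB heB (c k b)) (by
    rw [hs, ← h1, hincl]
    exact P_comp 𝒜 e he eB heB incl (c k b))
  have htpow : t ^ (l ^ k) = 1 := by
    have hmono : Mono incl := by
      have : Mono incl.left := inferInstance
      exact Over.mono_of_mono_left incl
    rw [← cancel_mono incl, MonObj.pow_comp, ht1, hs0, MonObj.one_comp]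
  obtain ⟨τ, hτ1, hτ2, hτ3⟩ := exists_tate hR ℬ hconn l hlp k t htpow
  let f' : TateMod B l (SGA7.pt (K := K) Ω) := mk (fun j => (P ℬ eB heB).symm (toUnit (sp R Ω) ≫ τ j))
    (fun j => by rw [← map_pow, ← MonObj.comp_pow, hτ1, MonObj.comp_one, map_one])
    (fun j => by rw [← map_pow, ← MonObj.comp_pow, hτ2])
  have hf' : ∀ σ : Ω ≃ₐ[K] Ω, act σ f' = f' := by
    intro σ
    rw [act_eq_iff]
    intro n
    apply (P ℬ eB heB).injective
    rw [P_galAct, c_mk, MulEquiv.apply_symm_apply, res_toUnit]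
  have h4 : c k (b - f') = 1 := by
    rw [c_sub, c_mk, hτ3, ht2, MulEquiv.symm_apply_apply, mul_inv_cancel]
  obtain ⟨b', hb'⟩ := exists_smul k (b - f') h4
  exact ⟨b', f', hf', by rw [← hb', sub_add_cancel]⟩

/-- The statement of S16169. -/
theorem main
    (R : Type u) [CommRing R] [IsDomain R] [IsRegularLocalRing R] [HenselianLocalRing R]
    [IsSepClosed (IsLocalRing.ResidueField R)]
    {n : ℕ} (r : Fin n → R) (hr : ∀ i, r i ∈ IsLocalRing.maximalIdeal R)
    (hli : LinearIndependent (IsLocalRing.ResidueField R)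
      (fun i => (IsLocalRing.maximalIdeal R).toCotangent ⟨r i, hr i⟩))
    (𝒜 : Over (Spec (CommRingCat.of R))) [GrpObj 𝒜] [IsCommMonObj 𝒜]
    [Smooth 𝒜.hom] [IsSeparated 𝒜.hom] [QuasiCompact 𝒜.hom]
    (hsab : SGA7.FibresUnipotentRankZero 𝒜)
    (hconn : ∀ (L : Type u) [Field L] (φ : R →+* L),
      ConnectedSpace ↑(pullback 𝒜.hom (Spec.map (CommRingCat.ofHom φ))))
    (hprop : IsProper (pullback.snd 𝒜.hom
      (Spec.map (CommRingCat.ofHom (algebraMap R (Localization.Away (∏ i, r i)))))))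
    (ℬ : Over (Spec (CommRingCat.of R))) [GrpObj ℬ] [IsCommMonObj ℬ]
    [Smooth ℬ.hom] [IsSeparated ℬ.hom] [QuasiCompact ℬ.hom]
    (hsabB : SGA7.FibresUnipotentRankZero ℬ)
    (hconnB : ∀ (L : Type u) [Field L] (φ : R →+* L),
      ConnectedSpace ↑(pullback ℬ.hom (Spec.map (CommRingCat.ofHom φ))))
    (hpropB : IsProper (pullback.snd ℬ.hom
      (Spec.map (CommRingCat.ofHom (algebraMap R (Localization.Away (∏ i, r i)))))))
    (incl : ℬ ⟶ 𝒜) [IsMonHom incl] (hincl : IsClosedImmersion incl.left)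
    (K Ω : Type u) [Field K] [Algebra R K] [IsFractionRing R K] [Field Ω] [Algebra K Ω] [IsSepClosure K Ω]
    (A : Over (Spec (CommRingCat.of K))) [GrpObj A] [IsCommMonObj A]
    (e : Red.bc (Spec.map (CommRingCat.ofHom (algebraMap R K))) 𝒜 ≅ A) (he : IsMonHom e.hom)
    (l : ℕ) (hl : l.Prime) (hlp : (l : IsLocalRing.ResidueField R) ≠ 0)
    (ρ : (Ω ≃ₐ[K] Ω) → AbDual.TateMod A l (SGA7.pt Ω) → AbDual.TateMod A l (SGA7.pt Ω))
    (hρ : ∀ (τ : Ω ≃ₐ[K] Ω) (z : AbDual.TateMod A l (SGA7.pt Ω)) (k : ℕ),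
      (AbDual.TateMod.component A l (SGA7.pt Ω) k (ρ τ z)).toMul =
        SGA7.galAct τ (AbDual.TateMod.component A l (SGA7.pt Ω) k z).toMul)
    (B : Over (Spec (CommRingCat.of K))) [GrpObj B] [IsCommMonObj B]
    (eB : Red.bc (Spec.map (CommRingCat.ofHom (algebraMap R K))) ℬ ≅ B) (heB : IsMonHom eB.hom)
    (ρB : (Ω ≃ₐ[K] Ω) → AbDual.TateMod B l (SGA7.pt Ω) → AbDual.TateMod B l (SGA7.pt Ω))
    (hρB : ∀ (τ : Ω ≃ₐ[K] Ω) (z : AbDual.TateMod B l (SGA7.pt Ω)) (k : ℕ),
      (AbDual.TateMod.component B l (SGA7.pt Ω) k (ρB τ z)).toMul =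
        SGA7.galAct τ (AbDual.TateMod.component B l (SGA7.pt Ω) k z).toMul)
    (hstar : (n = 0 ∨ ∀ z : AbDual.TateMod A l (SGA7.pt Ω), ∃ w : Fin n → AbDual.TateMod A l (SGA7.pt Ω),
        (∀ (i : Fin n) (σ : Ω ≃ₐ[K] Ω),
          (∀ (k : ℕ) (y : Ω), y ^ (l ^ k) = algebraMap K Ω (algebraMap R K (r i)) → σ y = y) →
            ρ σ (w i) = w i) ∧
        ∑ i, w i = z)) :
    (n = 0 ∨ ∀ z : AbDual.TateMod B l (SGA7.pt Ω), ∃ w : Fin n → AbDual.TateMod B l (SGA7.pt Ω),
        (∀ (i : Fin n) (σ : Ω ≃ₐ[K] Ω),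
          (∀ (k : ℕ) (y : Ω), y ^ (l ^ k) = algebraMap K Ω (algebraMap R K (r i)) → σ y = y) →
            ρB σ (w i) = w i) ∧
        ∑ i, w i = z) := by
  rcases Nat.eq_zero_or_pos n with hn | hn
  · exact Or.inl hn
  right
  have : Fact l.Prime := ⟨hl⟩
  have hstar' : ∀ z : AbDual.TateMod A l (SGA7.pt Ω), ∃ w : Fin n → AbDual.TateMod A l (SGA7.pt Ω),
        (∀ (i : Fin n) (σ : Ω ≃ₐ[K] Ω),
          (∀ (k : ℕ) (y : Ω), y ^ (l ^ k) = algebraMap K Ω (algebraMap R K (r i)) → σ y = y) →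
            ρ σ (w i) = w i) ∧
        ∑ i, w i = z := hstar.resolve_left hn.ne'
  let i0 : Fin n := ⟨0, hn⟩
  let _ : Algebra R Ω := ((algebraMap K Ω).comp (algebraMap R K)).toAlgebra
  have : IsScalarTower R K Ω := IsScalarTower.of_algebraMap_eq fun _ => rfl
  have hprime : ∀ i, Prime (r i) := fun i => K489.NcdReg.prime_of_li r hr hli i
  have hdvd : ∀ i j, j ≠ i → ¬ r i ∣ r j := fun i j hij => K489.NcdReg.not_dvd_of_li r hr hli hij
  have ha : ∏ i, r i ≠ 0 := Finset.prod_ne_zero_iff.2 fun i _ => (hprime i).ne_zero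
  have hfield : ¬ IsField R := by
    intro hF
    rw [IsLocalRing.isField_iff_maximalIdeal_eq] at hF
    have h1 := hr i0
    rw [hF, Ideal.mem_bot] at h1
    exact (hprime i0).ne_zero h1
  have hu : IsUnit (l : R) := by
    by_contra hcon
    apply hlp
    rw [← map_natCast (IsLocalRing.residue R)]
    exact (IsLocalRing.residue_eq_zero_iff _).2 hcon
  have hinjK : Function.Injective (algebraMap R K) := IsFractionRing.injective R K
  have hpA := K489.NcdReg.isProper_gen hinjK ha 𝒜 hprop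
  have hgA := K489.NcdReg.geometricallyIntegral_gen hinjK ha 𝒜 (fun L _ φ _ => hconn L φ)
  have hpB := K489.NcdReg.isProper_gen hinjK ha ℬ hpropB
  have hgB := K489.NcdReg.geometricallyIntegral_gen hinjK ha ℬ (fun L _ φ _ => hconnB L φ)
  have hpA' : IsProper A.hom := by
    rw [← Over.w e.inv]
    exact (MorphismProperty.cancel_left_of_respectsIso @IsProper _ _).2 hpA
  have hgA' : GeometricallyIntegral A.hom := by
    rw [← Over.w e.inv]
    exact (MorphismProperty.cancel_left_of_respectsIso @GeometricallyIntegral _ _).2 hgA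
  have hpB' : IsProper B.hom := by
    rw [← Over.w eB.inv]
    exact (MorphismProperty.cancel_left_of_respectsIso @IsProper _ _).2 hpB
  have hgB' : GeometricallyIntegral B.hom := by
    rw [← Over.w eB.inv]
    exact (MorphismProperty.cancel_left_of_respectsIso @GeometricallyIntegral _ _).2 hgB
  -- the inclusion over `K`
  let fK : Spec (CommRingCat.of K) ⟶ Spec (CommRingCat.of R) := Spec.map (CommRingCat.ofHom (algebraMap R K))
  let inclK : B ⟶ A := eB.inv ≫ (Over.pullback fK).map incl ≫ e.hom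
  have hm : IsMonHom ((Over.pullback fK).map incl : Red.bc fK ℬ ⟶ Red.bc fK 𝒜) := inferInstance
  have hmon : IsMonHom inclK := by
    have h1 : IsMonHom eB.inv := inferInstance
    have h2 : IsMonHom ((Over.pullback fK).map incl ≫ e.hom : Red.bc fK ℬ ⟶ A) := inferInstance
    exact (inferInstance : IsMonHom (eB.inv ≫ ((Over.pullback fK).map incl ≫ e.hom : Red.bc fK ℬ ⟶ A)))
  have hcl : IsClosedImmersion inclK.left := by
    have h1 : IsClosedImmersion ((Over.pullback fK).map incl).left := by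
      have hsq := Groth.Agent.Grpsch.AbBC.isPullback_pullback_map fK incl
      exact MorphismProperty.of_isPullback hsq.flip hincl
    change IsClosedImmersion (eB.inv.left ≫ ((Over.pullback fK).map incl).left ≫ e.hom.left)
    infer_instance
  obtain ⟨p, M, hpm, hM, hpM⟩ := K505.Image.exists_retraction_up_to_isogeny A B inclK
  -- the multiplier
  have hM0 : (M : ℤ_[l]) ≠ 0 := Nat.cast_ne_zero.2 hM.ne'
  have hMu := PadicInt.unitCoeff_spec hM0
  have hρA : ∀ σ z, ρ σ z = act σ z := fun σ z => ext_c fun n => hρ σ z n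
  have hρB' : ∀ σ z, ρB σ z = act σ z := fun σ z => ext_c fun n => hρB σ z n
  have key := K489.NcdAbs.star_sub (S := ℤ_[l]) (Γ := Ω ≃ₐ[K] Ω) (fun σ => act (A := A) (l := l) σ)
    (fun σ => act (A := B) (l := l) σ) (tateMapₗ inclK) (tateMapₗ p)
    (fun σ b => tateMap_act inclK σ b) (fun σ a => tateMap_act p σ a)
    ((l : ℤ_[l]) ^ (M : ℤ_[l]).valuation) (PadicInt.unitCoeff hM0)
    (fun b => by
      rw [← hMu, natCast_smul]
      refine ext_c fun n => ?_
      rw [c_tateMap, c_tateMap, Category.assoc, hpM, c_nsmul, MonObj.comp_pow, Category.comp_id])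
    (fun b hb => eq_zero_of_smul _ b hb) i0
    (fun i => {σ | ∀ (k : ℕ) (y : Ω), y ^ (l ^ k) = algebraMap K Ω (algebraMap R K (r i)) → σ y = y})
    (fun i x h1 h2 σ => indep R K Ω A hu r hprime hdvd i x h1 h2 σ)
    (fun b a f hf hb => sat R K Ω hfield 𝒜 hsab hpA hgA ℬ (hconnB _ _) incl A e he B eB heB inclK rfl
      l hlp _ b a f hf hb)
    (fun z => by
      obtain ⟨w, hw1, hw2⟩ := hstar' z
      exact ⟨w, fun i σ hσ => by rw [← hρA]; exact hw1 i σ hσ, hw2⟩)
  intro z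
  obtain ⟨w, hw1, hw2⟩ := key z
  exact ⟨w, fun i σ hσ => by rw [hρB']; exact hw1 i σ hσ, hw2⟩

end K489.NcdB
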