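import Groth.Agent.Neron.K125.Tate
import Mathlib.AlgebraicGeometry.ValuativeCriterion

/-!
# Torsion points of proper group schemes over strictly henselian local rings

`V` strictly henselian local, `N` proper over `V`: the torsion points of order invertible in `V` with values in an
extension field of `V` come from points over `V`.
-/

set_option autoImplicit false
universe u

open CategoryTheory CategoryTheory.Limits AlgebraicGeometry MonObj
open MonoidalCategory CartesianMonoidalCategory

noncomputable section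

namespace K489.NcdGood

open K125.Pts K125.Tors

variable {R V Φ : Type u} [CommRing R] [CommRing V] [IsLocalRing V] [Field Φ]
  (N : Over (Spec (CommRingCat.of R))) [GrpObj N] [IsCommMonObj N] [Smooth N.hom]

theorem exists_of_proper (hV : EtCoh.IsStrictlyHenselianLocalRing V) {b : R →+* V} (φ : V →+* Φ)
    (hprop : IsProper (Red.bc (Spec.map (CommRingCat.ofHom b)) N).hom) {c : R →+* Φ} (hc : φ.comp b = c)
    {n : ℕ} (hn : IsUnit (n : V)) (x : pt c ⟶ N) (hx : x ^ n = 1) :
    ∃ w : pt b ⟶ N, w ^ n = 1 ∧ pmH N φ hc w = x := by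
  subst hc
  obtain ⟨O, hO, hloc⟩ := IsLocalRing.exists_factor_valuationRing φ
  let ψ : V →+* O := φ.codRestrict O.toSubring hO
  have hψ : IsLocalHom ψ := hloc
  have hψφ : (O.subtype : O →+* Φ).comp ψ = φ := by
    ext v
    rfl
  have hcomp : (O.subtype : O →+* Φ).comp (ψ.comp b) = φ.comp b := by
    rw [← RingHom.comp_assoc, hψφ]
  let x' := (bcE N b φ).symm x
  let S : ValuativeCommSq (Red.bc (Spec.map (CommRingCat.ofHom b)) N).hom :=
    { R := O, K := Φ, i₁ := x'.left, i₂ := Spec.map (CommRingCat.ofHom ψ)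
      commSq := ⟨by
        rw [Over.w x', ← Spec.map_comp, ← CommRingCat.ofHom_comp]
        exact congrArg (fun f => Spec.map (CommRingCat.ofHom f)) hψφ.symm⟩ }
  have hval : ValuativeCriterion (Red.bc (Spec.map (CommRingCat.ofHom b)) N).hom :=
    (IsProper.eq_valuativeCriterion ▸ hprop : _).1.1.1
  obtain ⟨⟨L⟩⟩ := hval.existence S
  let y' : pt ψ ⟶ Red.bc (Spec.map (CommRingCat.ofHom b)) N := Over.homMk L.l L.fac_right
  have hy' : pmH _ (O.subtype : O →+* Φ) hψφ y' = x' := by
    ext1
    exact L.fac_left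
  let y : pt (ψ.comp b) ⟶ N := bcE N b ψ y'
  have hy : pmH N (O.subtype : O →+* Φ) hcomp y = x := by
    rw [← bcE_pmH N b (O.subtype : O →+* Φ) hψφ, hy', MulEquiv.apply_symm_apply]
  have hsep : IsSeparated (Red.bc (Spec.map (CommRingCat.ofHom b)) N).hom := inferInstance
  have hy'n : y' ^ n = 1 := by
    apply pmH_injective (Red.bc (Spec.map (CommRingCat.ofHom b)) N) (O.subtype : O →+* Φ) Subtype.val_injective hψφ
    rw [map_pow, hy', map_one, ← map_pow, hx, map_one]
  have hyn : y ^ n = 1 := by rw [← map_pow, hy'n, map_one]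
  let k := IsLocalRing.ResidueField O
  let ψ' : V →+* k := (IsLocalRing.residue O).comp ψ
  have hψ' : IsLocalHom ψ' := RingHom.isLocalHom_comp _ _
  have hnk : (n : k) ≠ 0 := by
    have h1 := hn.map ψ'
    rw [map_natCast] at h1
    exact h1.ne_zero
  obtain ⟨w, hw, hw'⟩ := exists_lift N hV (b := b) ψ' (c := (IsLocalRing.residue O).comp (ψ.comp b)) rfl hnk
    (pmH N (IsLocalRing.residue O) rfl y) (by rw [← map_pow, hyn, map_one])
  have h1 : pmH N ψ rfl w = y := by
    refine eq_of_map N (IsLocalRing.residue O) rfl hnk _ _ (by rw [← map_pow, hw, map_one]) hyn ?_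
    rw [pmH_pmH N (IsLocalRing.residue O) ψ rfl rfl rfl]
    exact hw'
  refine ⟨w, hw, ?_⟩
  rw [← hy, ← h1, pmH_pmH N (O.subtype : O →+* Φ) ψ rfl hcomp (by rw [hψφ])]
  exact pmH_congr N hψφ.symm _ _ w

end K489.NcdGood
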