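import Groth.Agent.Neron.K486.TateExt
import Groth.Agent.Neron.K125.Gal
import Groth.Agent.Sga7.H738.S4057Comm

/-!
# Semiabelian models and Néron models: bounded index

`V` a strictly henselian discrete valuation ring with fraction field `F`.
* `exists_pow`: `G` semiabelian over `V` with abelian generic fibre: for some `d > 0` the `d`-th power of every
  `F`-point of `G` extends to a section;
* `exists_pow'`, `tate`: the same and the extension of Tate sequences for the points of `N` over `R → V`.
-/

set_option autoImplicit false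
universe u

open CategoryTheory CategoryTheory.Limits AlgebraicGeometry MonObj
open MonoidalCategory CartesianMonoidalCategory
open Groth.Agent.Sga7.H729.Dict

namespace K489.NcdNer

/-- Group theory: a subset whose right cosets are classified by finitely many values contains the `d`-th powers. -/
theorem exists_pow_mem {M α : Type*} [Group M] (c : M → α) (hfin : (Set.range c).Finite) (U : Set M)
    (h : ∀ x y, c x = c y ↔ x * y⁻¹ ∈ U) : ∃ d : ℕ, 0 < d ∧ ∀ x : M, x ^ d ∈ U := by
  have hone : (1 : M) ∈ U := by simpa using (h 1 1).1 rfl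
  have hdiv : ∀ x y, x ∈ U → y ∈ U → x * y⁻¹ ∈ U := fun x y hx hy => by
    have hx' : c x = c 1 := (h x 1).2 (by simpa using hx)
    have hy' : c y = c 1 := (h y 1).2 (by simpa using hy)
    exact (h x y).1 (hx'.trans hy'.symm)
  have hinv : ∀ y, y ∈ U → y⁻¹ ∈ U := fun y hy => by simpa using hdiv 1 y hone hy
  let H : Subgroup M :=
    { carrier := U
      one_mem' := hone
      mul_mem' := fun {x y} hx hy => by simpa using hdiv x y⁻¹ hx (hinv y hy)
      inv_mem' := fun {y} hy => hinv y hy }
  let f : M ⧸ H → Set.range c := fun q => ⟨c (q.out⁻¹), _, rfl⟩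
  have hf : Function.Injective f := by
    intro q q' hqq
    have h1 : c (q.out⁻¹) = c (q'.out⁻¹) := congrArg Subtype.val hqq
    have h2 := (h _ _).1 h1
    rw [inv_inv] at h2
    rw [← QuotientGroup.out_eq' q, ← QuotientGroup.out_eq' q']
    exact QuotientGroup.eq.2 h2
  have hr : Finite (Set.range c) := hfin
  have hq : Finite (M ⧸ H) := Finite.of_injective f hf
  have hi : H.index ≠ 0 := Subgroup.index_ne_zero_of_finite
  refine ⟨(H.index).factorial, Nat.factorial_pos _, fun x => ?_⟩
  obtain ⟨n, hn, hle, hx⟩ := Subgroup.exists_pow_mem_of_index_ne_zero hi x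
  obtain ⟨m, hm⟩ := Nat.dvd_factorial hn hle
  rw [hm, pow_mul]
  exact H.pow_mem hx m

theorem exists_pow (V F : Type u) [CommRing V] [IsDomain V] [IsDiscreteValuationRing V] [HenselianLocalRing V]
    [IsSepClosed (IsLocalRing.ResidueField V)] [Field F] [Algebra V F] [IsFractionRing V F]
    (G : Over (Spec (CommRingCat.of V))) [GrpObj G] [Smooth G.hom] [IsSeparated G.hom]
    [QuasiCompact G.hom] (hG : SGA7.FibresUnipotentRankZero G)
    [hp : IsProper ((SGA7.genFib V F).obj G).hom] [hgi : GeometricallyIntegral ((SGA7.genFib V F).obj G).hom] :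
    ∃ d : ℕ, 0 < d ∧ ∀ x : 𝟙_ (Over (Spec (CommRingCat.of F))) ⟶ (SGA7.genFib V F).obj G,
      ∃ s : 𝟙_ (Over (Spec (CommRingCat.of V))) ⟶ G, secK V F G s = x ^ d := by
  obtain ⟨N, _, e, he, hN⟩ := Groth.Agent.Sga7.H750.NeronMain.neAll V F ((SGA7.genFib V F).obj G)
  have he' : IsMonHom e.inv := inferInstance
  obtain ⟨u, hu, hue⟩ := Groth.Agent.Sga7.H333.NeronSemi.exists_hom_of_isNeron V F G N hN e.inv
  have hiso : IsIso ((SGA7.genFib V F).map u) := by rw [hue]; infer_instance
  have hel : IsIso e.hom.left := (Over.forget _).map_isIso e.hom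
  have hp' : IsProper ((SGA7.genFib V F).obj N).hom := by
    rw [← Over.w e.hom]
    infer_instance
  have hgi' : GeometricallyIntegral ((SGA7.genFib V F).obj N).hom := by
    rw [← Over.w e.hom]
    exact (MorphismProperty.cancel_left_of_respectsIso @GeometricallyIntegral _ _).2 hgi
  have hop : IsOpenImmersion u.left := Groth.Agent.S4056.result V F N hN G hG u
  obtain ⟨h1, h2, h3⟩ := Groth.Agent.S4070.result V F N hN
  have hbij := secK_bijective V F N hN
  obtain ⟨d, hd, hpow⟩ := exists_pow_mem (SGA7.secComp V N) h1 _ h3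
  refine ⟨d, hd, fun x => ?_⟩
  obtain ⟨X, hX⟩ := hbij.2 (x ≫ e.inv)
  obtain ⟨s, hs⟩ := K486.TateExt.exists_factor G N u (X ^ d)
    (K486.TateExt.connectedComponentIn_subset G N u (hpow X))
  refine ⟨s, ?_⟩
  rw [← cancel_mono ((SGA7.genFib V F).map u)]
  have h4 := secK_eq V F N (X ^ d)
  rw [map_pow, hX, ← hs, Functor.map_comp, ← Category.assoc, ← secK_eq] at h4
  rw [← h4, hue]
  exact (MonObj.pow_comp x d e.inv).symm

section Pts

open K125.Pts K125.Tors K125.Tate

variable {R V F : Type u} [CommRing R] [CommRing V] [Field F] [Algebra V F]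
  (N : Over (Spec (CommRingCat.of R))) [GrpObj N] (b : R →+* V)

/-- Restriction of sections to the generic fibre, in terms of points. -/
theorem pmH_secE (s : 𝟙_ (Over (Spec (CommRingCat.of V))) ⟶ Red.bc (Spec.map (CommRingCat.ofHom b)) N) :
    pmH N (algebraMap V F) rfl (secE N b s) =
      bcE N b (algebraMap V F) (secE (Red.bc (Spec.map (CommRingCat.ofHom b)) N) (algebraMap V F)
        (secK V F (Red.bc (Spec.map (CommRingCat.ofHom b)) N) s)) := by
  have h1 : (secK V F (Red.bc (Spec.map (CommRingCat.ofHom b)) N) s).left ≫ pullback.fst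
      (Red.bc (Spec.map (CommRingCat.ofHom b)) N).hom (Spec.map (CommRingCat.ofHom (algebraMap V F))) =
      Spec.map (CommRingCat.ofHom (algebraMap V F)) ≫ s.left := by
    have h2 : (secK V F (Red.bc (Spec.map (CommRingCat.ofHom b)) N) s).left ≫ pullback.fst
      (Red.bc (Spec.map (CommRingCat.ofHom b)) N).hom (Spec.map (CommRingCat.ofHom (algebraMap V F))) =
      (toUnit _ ≫ s : (Over.map (Spec.map (CommRingCat.ofHom
      (algebraMap V F)))).obj (𝟙_ _) ⟶ Red.bc (Spec.map (CommRingCat.ofHom b)) N).left := by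
      rw [← bcPts_left]
      congr 1
      exact MulEquiv.apply_symm_apply _ _
    rw [h2, Over.comp_left]
    exact congrArg (fun q => q ≫ s.left) (Category.id_comp (Spec.map (CommRingCat.ofHom (algebraMap V F))))
  ext1
  rw [pmH_apply, Over.comp_left, secE_left, bcE_left, secE_left, h1, Category.assoc]
  rfl

end Pts

section Main

open K125.Pts K125.Tors K125.Tate

/-- Iterated base changes. -/
theorem snd_iter {P : MorphismProperty Scheme.{u}} [P.RespectsIso] {X S S₁ S₂ S₃ : Scheme.{u}} (h : X ⟶ S)
    (f : S₁ ⟶ S) (g : S₃ ⟶ S₁) (f' : S₂ ⟶ S) (g' : S₃ ⟶ S₂) (hw : g ≫ f = g' ≫ f')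
    (hP : P (pullback.snd (pullback.snd h f) g)) : P (pullback.snd (pullback.snd h f') g') := by
  have hsq : IsPullback (pullback.fst (pullback.snd h f') g' ≫ pullback.fst h f')
      (pullback.snd (pullback.snd h f') g') h (g' ≫ f') :=
    (IsPullback.of_hasPullback (pullback.snd h f') g').paste_horiz (IsPullback.of_hasPullback h f')
  have hsq2 : IsPullback (pullback.fst (pullback.snd h f) g ≫ pullback.fst h f)
      (pullback.snd (pullback.snd h f) g) h (g ≫ f) :=
    (IsPullback.of_hasPullback (pullback.snd h f) g).paste_horiz (IsPullback.of_hasPullback h f)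
  rw [hw] at hsq2
  have hlift : pullback.snd (pullback.snd h f') g' = (hsq.isoIsPullback _ _ hsq2).hom ≫
      pullback.snd (pullback.snd h f) g := (hsq.isoIsPullback_hom_snd _ _ hsq2).symm
  rw [hlift]
  exact (MorphismProperty.cancel_left_of_respectsIso P _ _).2 hP

variable {R K V F : Type u} [CommRing R] [Field K] [CommRing V] [IsDomain V] [IsDiscreteValuationRing V]
  [HenselianLocalRing V] [IsSepClosed (IsLocalRing.ResidueField V)] [Field F] [Algebra V F] [IsFractionRing V F]
  (N : Over (Spec (CommRingCat.of R))) [GrpObj N] [IsCommMonObj N] [Smooth N.hom] [IsSeparated N.hom]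
  [QuasiCompact N.hom] (f : R →+* K) (b : R →+* V) (j : K →+* F) (hj : j.comp f = (algebraMap V F).comp b)
  (hsab : SGA7.FibresUnipotentRankZero N)
  (hp : IsProper (pullback.snd N.hom (Spec.map (CommRingCat.ofHom f))))
  (hgi : GeometricallyIntegral (pullback.snd N.hom (Spec.map (CommRingCat.ofHom f))))

include hj hp in
omit [IsDomain V] [IsDiscreteValuationRing V] [HenselianLocalRing V] [IsSepClosed (IsLocalRing.ResidueField V)]
  [IsFractionRing V F] [GrpObj N] [IsCommMonObj N] [Smooth N.hom] [IsSeparated N.hom] [QuasiCompact N.hom] in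
theorem isProper_genFib :
    IsProper ((SGA7.genFib V F).obj (Red.bc (Spec.map (CommRingCat.ofHom b)) N)).hom := by
  refine snd_iter (P := @IsProper) N.hom (Spec.map (CommRingCat.ofHom f)) (Spec.map (CommRingCat.ofHom j)) _ _ ?_
    inferInstance
  rw [← Spec.map_comp, ← Spec.map_comp, ← CommRingCat.ofHom_comp, ← CommRingCat.ofHom_comp, hj]

include hj hgi in
omit [IsDomain V] [IsDiscreteValuationRing V] [HenselianLocalRing V] [IsSepClosed (IsLocalRing.ResidueField V)]
  [IsFractionRing V F] [GrpObj N] [IsCommMonObj N] [Smooth N.hom] [IsSeparated N.hom] [QuasiCompact N.hom] in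
theorem geometricallyIntegral_genFib :
    GeometricallyIntegral ((SGA7.genFib V F).obj (Red.bc (Spec.map (CommRingCat.ofHom b)) N)).hom := by
  refine snd_iter (P := @GeometricallyIntegral) N.hom (Spec.map (CommRingCat.ofHom f))
    (Spec.map (CommRingCat.ofHom j)) _ _ ?_ inferInstance
  rw [← Spec.map_comp, ← Spec.map_comp, ← CommRingCat.ofHom_comp, ← CommRingCat.ofHom_comp, hj]

include hj hsab hp hgi in
omit [IsCommMonObj N] in
/-- Bounded index, for points over `R → V → F`. -/
theorem exists_pow' : ∃ d : ℕ, 0 < d ∧ ∀ x : pt ((algebraMap V F).comp b) ⟶ N,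
    ∃ w : pt b ⟶ N, pmH N (algebraMap V F) rfl w = x ^ d := by
  let G := Red.bc (Spec.map (CommRingCat.ofHom b)) N
  have hG : SGA7.FibresUnipotentRankZero G :=
    Groth.Agent.Sga7.H738.RankZeroBc.fibresUnipotentRankZero_bc Groth.Agent.Sga7.H738.S4057Comm.l2 _ N hsab
  have i1 : Smooth G.hom := inferInstanceAs (Smooth (pullback.snd N.hom _))
  have i2 : IsSeparated G.hom := inferInstanceAs (IsSeparated (pullback.snd N.hom _))
  have i3 : QuasiCompact G.hom := inferInstanceAs (QuasiCompact (pullback.snd N.hom _))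
  have i4 := isProper_genFib N f b j hj hp
  have i5 := geometricallyIntegral_genFib N f b j hj hgi
  obtain ⟨d, hd, h⟩ := exists_pow V F G hG
  refine ⟨d, hd, fun x => ?_⟩
  obtain ⟨s, hs⟩ := h ((secE G (algebraMap V F)).symm ((bcE N b (algebraMap V F)).symm x))
  refine ⟨secE N b s, ?_⟩
  rw [pmH_secE, hs, map_pow, map_pow, MulEquiv.apply_symm_apply, MulEquiv.apply_symm_apply]

include hj hsab hp hgi in
/-- Tate sequences of `F`-points come from `V`-points. -/
theorem exists_tate (l : ℕ) [hl : Fact l.Prime] (z : AbDual.TateMod N l (pt ((algebraMap V F).comp b))) :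
    ∃ w : AbDual.TateMod N l (pt b), tH N l (algebraMap V F) rfl w = z := by
  let G := Red.bc (Spec.map (CommRingCat.ofHom b)) N
  have hG : SGA7.FibresUnipotentRankZero G :=
    Groth.Agent.Sga7.H738.RankZeroBc.fibresUnipotentRankZero_bc Groth.Agent.Sga7.H738.S4057Comm.l2 _ N hsab
  have i1 : Smooth G.hom := inferInstanceAs (Smooth (pullback.snd N.hom _))
  have i2 : IsSeparated G.hom := inferInstanceAs (IsSeparated (pullback.snd N.hom _))
  have i3 : QuasiCompact G.hom := inferInstanceAs (QuasiCompact (pullback.snd N.hom _))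
  have i4 := isProper_genFib N f b j hj hp
  have i5 := geometricallyIntegral_genFib N f b j hj hgi
  choose s hs1 hs2 using fun i => K486.TateExt.core V F G hG l hl.out
    (fun i => (secE G (algebraMap V F)).symm ((bcE N b (algebraMap V F)).symm (co z i)))
    (fun i => by rw [← map_pow, ← map_pow, co_pow, map_one, map_one])
    (fun i => by rw [← map_pow, ← map_pow, co_succ]) i
  have h1 : ∀ i, pmH N (algebraMap V F) rfl (secE N b (s i)) = co z i := fun i => by
    rw [pmH_secE, hs2, MulEquiv.apply_symm_apply, MulEquiv.apply_symm_apply]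
  have hinj : Function.Injective (pmH N (algebraMap V F) (b := b) rfl) :=
    pmH_injective N (algebraMap V F) (IsFractionRing.injective V F) rfl
  exact ⟨mkT (fun i => secE N b (s i)) (fun i => hinj (by rw [map_pow, h1, co_pow, map_one]))
    (fun i => hinj (by rw [map_pow, h1, h1, co_succ])), co_ext h1⟩

end Main

end K489.NcdNer
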