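import Groth.Agent.Neron.K489.NcdKT
import Groth.Agent.Neron.K489.NcdNer
import Groth.Agent.Neron.K489.NcdGood
import Groth.Agent.Neron.K125.KumBC
import Groth.Agent.Sga7.H730.StabOpen
import Groth.Agent.Sga7.H730.Cyc

/-!
# Torsion points over a domain and over strictly henselian discrete valuation rings above it

`act σ` is the action of `σ ∈ Gal(Ω/K)` on the points of `N` over `R → K → Ω`.  `L2 l`: level two on the points of
`l`-power order.  For a datum `D : Dom R K Ω`, `up D` is the restriction of the points to `Φ`.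
-/

set_option autoImplicit false
set_option linter.unusedSectionVars false
universe u

open CategoryTheory CategoryTheory.Limits AlgebraicGeometry MonObj
open MonoidalCategory CartesianMonoidalCategory
open K125.Pts K125.Tors K125.Tate K125.Gal

noncomputable section

namespace K489.NcdCmp

variable {R K Ω : Type u} [CommRing R] [Field K] [Algebra R K] [Field Ω] [Algebra K Ω]
  (N : Over (Spec (CommRingCat.of R))) [GrpObj N]

variable (R K Ω) in
/-- `Ω`-points. -/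
abbrev PΩ (N : Over (Spec (CommRingCat.of R))) := pt (str (algebraMap R K) Ω) ⟶ N

/-- the Galois action -/
def act (σ : Ω ≃ₐ[K] Ω) : PΩ R K Ω N →* PΩ R K Ω N :=
  pmH N (σ : Ω →+* Ω) (gal_comp σ (algebraMap R K))

lemma act_mul (σ τ : Ω ≃ₐ[K] Ω) (x : PΩ R K Ω N) : act N (σ * τ) x = act N σ (act N τ x) := by
  unfold act
  rw [pmH_pmH N (σ : Ω →+* Ω) (τ : Ω →+* Ω) (gal_comp τ _) (gal_comp σ _) (by
    rw [RingHom.comp_assoc, gal_comp, gal_comp])]
  exact pmH_congr N (by ext; rfl) _ _ x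

lemma act_one (x : PΩ R K Ω N) : act N (1 : Ω ≃ₐ[K] Ω) x = x := by
  unfold act
  rw [pmH_congr N (φ' := RingHom.id Ω) (by ext; rfl) _ (by rw [RingHom.id_comp])]
  exact pmH_id N _ x

variable (R K Ω) in
/-- Level two on the points of `l`-power order. -/
def L2 (N : Over (Spec (CommRingCat.of R))) [GrpObj N] (l : ℕ) : Prop :=
  ∀ (ν : ℕ) (σ τ : Ω ≃ₐ[K] Ω) (x : PΩ R K Ω N), x ^ (l ^ ν) = 1 → act N σ (act N τ x * x⁻¹) = act N τ x * x⁻¹

theorem L2_of_dev (l : ℕ) (h : ∀ (ν : ℕ) (σ τ : Ω ≃ₐ[K] Ω)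
    (x : SGA7.Pts Ω (Red.bc (Spec.map (CommRingCat.ofHom (algebraMap R K))) N)),
    x ^ (l ^ ν) = 1 → SGA7.dev σ (SGA7.dev τ x) = 1) : L2 R K Ω N l := by
  intro k σ τ x hx
  have h1 := h k σ τ ((bcE N (algebraMap R K) (algebraMap K Ω)).symm x) (by rw [← map_pow, hx, map_one])
  have h2 := mul_inv_eq_one.mp h1
  have h3 : bcE N (algebraMap R K) (algebraMap K Ω) (SGA7.dev τ ((bcE N (algebraMap R K) (algebraMap K Ω)).symm x)) =
      act N τ x * x⁻¹ := by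
    unfold SGA7.dev act
    rw [map_mul, map_inv, MulEquiv.apply_symm_apply, galAct_eq,
      bcE_pmH N _ _ (by ext; simp) (gal_comp τ _), MulEquiv.apply_symm_apply]
  rw [← h3]
  unfold act
  rw [← bcE_pmH N _ _ (by ext; simp) (gal_comp σ _)]
  exact congrArg (bcE N (algebraMap R K) (algebraMap K Ω)) h2

/-- the stabilizer of a point -/
def stab (x : PΩ R K Ω N) : Subgroup (Ω ≃ₐ[K] Ω) where
  carrier := {σ | act N σ x = x}
  mul_mem' {a b} ha hb := by
    change act N (a * b) x = x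
    rw [act_mul, show act N b x = x from hb, show act N a x = x from ha]
  one_mem' := act_one N x
  inv_mem' {a} ha := by
    change act N a⁻¹ x = x
    have h1 : act N (a⁻¹ * a) x = x := by rw [inv_mul_cancel, act_one]
    rwa [act_mul, show act N a x = x from ha] at h1

lemma mem_stab (x : PΩ R K Ω N) (σ : Ω ≃ₐ[K] Ω) : σ ∈ stab N x ↔ act N σ x = x := Iff.rfl

theorem isOpen_stab [Algebra.IsAlgebraic K Ω] [LocallyOfFiniteType N.hom] (x : PΩ R K Ω N) :
    IsOpen (stab N x : Set (Ω ≃ₐ[K] Ω)) := by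
  have h1 : LocallyOfFiniteType (Red.bc (Spec.map (CommRingCat.ofHom (algebraMap R K))) N).hom :=
    inferInstanceAs (LocallyOfFiniteType (pullback.snd N.hom _))
  refine Groth.Agent.Sga7.H730.StabOpen.isOpen_stab _ ((bcE N (algebraMap R K) (algebraMap K Ω)).symm x) _
    fun σ hσ => ?_
  rw [galAct_eq, ← bcE_symm_pmH N _ _ _ (gal_comp σ _)] at hσ
  exact (bcE N (algebraMap R K) (algebraMap K Ω)).symm.injective hσ

section Hom

variable [IsCommMonObj N]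

instance : CommGroup (PΩ R K Ω N) := inferInstance

/-- The homomorphism `σ ↦ σ x / x`. -/
def chi {l : ℕ} (h2 : L2 R K Ω N l) {ν : ℕ} (x : PΩ R K Ω N) (hx : x ^ (l ^ ν) = 1) :
    (Ω ≃ₐ[K] Ω) →* PΩ R K Ω N where
  toFun σ := act N σ x * x⁻¹
  map_one' := by rw [act_one, mul_inv_cancel]
  map_mul' σ τ := by
    have h3 := h2 ν σ τ x hx
    rw [map_mul, map_inv, ← act_mul, mul_inv_eq_iff_eq_mul] at h3
    rw [h3, _root_.mul_assoc, _root_.mul_comm]

lemma chi_apply {l : ℕ} (h2 : L2 R K Ω N l) {ν : ℕ} (x : PΩ R K Ω N) (hx : x ^ (l ^ ν) = 1) (σ : Ω ≃ₐ[K] Ω) :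
    chi N h2 x hx σ = act N σ x * x⁻¹ := rfl

lemma chi_eq_one_iff {l : ℕ} (h2 : L2 R K Ω N l) {ν : ℕ} (x : PΩ R K Ω N) (hx : x ^ (l ^ ν) = 1) (σ : Ω ≃ₐ[K] Ω) :
    chi N h2 x hx σ = 1 ↔ act N σ x = x := mul_inv_eq_one

lemma chi_pow {l : ℕ} (h2 : L2 R K Ω N l) {ν : ℕ} (x : PΩ R K Ω N) (hx : x ^ (l ^ ν) = 1) (σ : Ω ≃ₐ[K] Ω) :
    chi N h2 x hx σ ^ (l ^ ν) = 1 := by
  rw [chi_apply, mul_pow, ← map_pow, inv_pow, hx, map_one, inv_one, _root_.mul_one]

lemma ker_chi {l : ℕ} (h2 : L2 R K Ω N l) {ν : ℕ} (x : PΩ R K Ω N) (hx : x ^ (l ^ ν) = 1) :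
    (chi N h2 x hx).ker = stab N x := by
  ext σ
  rw [MonoidHom.mem_ker, chi_eq_one_iff, mem_stab]

/-- The `l ^ ν`-th powers fix the points of order `l ^ ν`. -/
lemma act_pow {l : ℕ} (h2 : L2 R K Ω N l) {ν : ℕ} (x : PΩ R K Ω N) (hx : x ^ (l ^ ν) = 1) (σ : Ω ≃ₐ[K] Ω) :
    act N (σ ^ (l ^ ν)) x = x := by
  rw [← chi_eq_one_iff N h2 x hx, map_pow, chi_pow]

end Hom

section Dom

variable [IsGalois K Ω] (D : K489.NcdDom.Dom R K Ω)

/-- The structure map of `Φ`. -/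
abbrev strΦ : R →+* D.Φ := str ((algebraMap D.V D.F).comp (algebraMap R D.V)) D.Φ

theorem strΦ_comm : (algebraMap Ω D.Φ).comp (str (algebraMap R K) Ω) = strΦ D := by
  ext a
  exact D.commR a

/-- the restriction to `Φ` -/
def up : PΩ R K Ω N →* (pt (strΦ D) ⟶ N) := pmH N (algebraMap Ω D.Φ) (strΦ_comm D)

/-- the action over `Φ` -/
def actΦ (τ : D.Φ ≃ₐ[D.F] D.Φ) : (pt (strΦ D) ⟶ N) →* (pt (strΦ D) ⟶ N) :=
  pmH N (τ : D.Φ →+* D.Φ) (gal_comp τ _)

theorem up_injective [IsSeparated N.hom] : Function.Injective (up N D) :=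
  pmH_injective N _ (algebraMap Ω D.Φ).injective _

theorem up_act (τ : D.Φ ≃ₐ[D.F] D.Φ) (x : PΩ R K Ω N) : up N D (act N (D.res τ) x) = actΦ N D τ (up N D x) := by
  have h1 : (algebraMap Ω D.Φ).comp ((D.res τ : Ω ≃ₐ[K] Ω) : Ω →+* Ω) =
      ((τ : D.Φ →+* D.Φ)).comp (algebraMap Ω D.Φ) := by
    ext y
    exact D.res_apply τ y
  have h2 : ((algebraMap Ω D.Φ).comp ((D.res τ : Ω ≃ₐ[K] Ω) : Ω →+* Ω)).comp (str (algebraMap R K) Ω) = strΦ D := by
    rw [RingHom.comp_assoc, gal_comp, strΦ_comm]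
  unfold up act actΦ
  rw [pmH_pmH N _ _ (gal_comp (D.res τ) (algebraMap R K)) (strΦ_comm D) h2,
    pmH_pmH N _ _ (strΦ_comm D) (gal_comp τ _) (by rw [← h1]; exact h2)]
  exact pmH_congr N h1 _ _ x

theorem act_iff [IsSeparated N.hom] (τ : D.Φ ≃ₐ[D.F] D.Φ) (x : PΩ R K Ω N) :
    act N (D.res τ) x = x ↔ actΦ N D τ (up N D x) = up N D x := by
  rw [← up_act, (up_injective N D).eq_iff]

/-- points over `V` -/
def ofV : (pt (algebraMap R D.V) ⟶ N) →* (pt (strΦ D) ⟶ N) :=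
  pmH N ((algebraMap D.F D.Φ).comp (algebraMap D.V D.F)) (by rw [RingHom.comp_assoc])

theorem ofV_eq (w : pt (algebraMap R D.V) ⟶ N) :
    ofV N D w = pmH N (algebraMap D.F D.Φ) rfl (pmH N (algebraMap D.V D.F) rfl w) := by
  unfold ofV
  rw [pmH_pmH N (algebraMap D.F D.Φ) (algebraMap D.V D.F) rfl rfl (by rw [RingHom.comp_assoc])]

theorem ofV_injective [IsSeparated N.hom] : Function.Injective (ofV N D) :=
  pmH_injective N ((algebraMap D.F D.Φ).comp (algebraMap D.V D.F))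
    (fun a b h => IsFractionRing.injective D.V D.F ((algebraMap D.F D.Φ).injective h)) _

theorem actΦ_ofF (τ : D.Φ ≃ₐ[D.F] D.Φ) (w : pt ((algebraMap D.V D.F).comp (algebraMap R D.V)) ⟶ N) :
    actΦ N D τ (pmH N (algebraMap D.F D.Φ) rfl w) = pmH N (algebraMap D.F D.Φ) rfl w := by
  unfold actΦ
  rw [pmH_pmH N (τ : D.Φ →+* D.Φ) (algebraMap D.F D.Φ) rfl (gal_comp τ _) (by
    rw [RingHom.comp_assoc]; exact gal_comp τ _)]
  exact pmH_congr N (by ext; simp) _ _ w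

theorem actΦ_ofV (τ : D.Φ ≃ₐ[D.F] D.Φ) (w : pt (algebraMap R D.V) ⟶ N) :
    actΦ N D τ (ofV N D w) = ofV N D w := by
  rw [ofV_eq, actΦ_ofF]

/-- Points fixed by the Galois group come from `F`. -/
theorem exists_ofF (x : PΩ R K Ω N) (hx : ∀ τ : D.Φ ≃ₐ[D.F] D.Φ, act N (D.res τ) x = x) :
    ∃ y : pt ((algebraMap D.V D.F).comp (algebraMap R D.V)) ⟶ N, pmH N (algebraMap D.F D.Φ) rfl y = up N D x :=
  exists_of_galois_fixed N _ (up N D x) fun τ => by
    have h := up_act N D τ x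
    rw [hx] at h
    exact h.symm

/-- Stabilizers: one automorphism suffices. -/
theorem act_eq_of_tau [IsSeparated N.hom] [LocallyOfFiniteType N.hom] [IsCommMonObj N] {l : ℕ} [hl : Fact l.Prime]
    (h2 : L2 R K Ω N l) (hu : IsUnit (l : D.V)) {ϖ : D.V} (hϖ : Irreducible ϖ) {τ : D.Φ ≃ₐ[D.F] D.Φ} {y : D.Φ}
    (hy : y ^ l = algebraMap D.F D.Φ (algebraMap D.V D.F ϖ)) (hτ : τ y ≠ y) {ν : ℕ} (x : PΩ R K Ω N)
    (hx : x ^ (l ^ ν) = 1) (hτx : act N (D.res τ) x = x) (τ' : D.Φ ≃ₐ[D.F] D.Φ) : act N (D.res τ') x = x := by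
  let _ : Algebra D.V D.Φ := ((algebraMap D.F D.Φ).comp (algebraMap D.V D.F)).toAlgebra
  have : IsScalarTower D.V D.F D.Φ := IsScalarTower.of_algebraMap_eq fun _ => rfl
  let U : Subgroup (D.Φ ≃ₐ[D.F] D.Φ) := (stab N x).comap D.res
  have hU : IsOpen (U : Set (D.Φ ≃ₐ[D.F] D.Φ)) := by
    have h1 : LocallyOfFiniteType (Red.bc (Spec.map (CommRingCat.ofHom
        ((algebraMap D.V D.F).comp (algebraMap R D.V)))) N).hom :=
      inferInstanceAs (LocallyOfFiniteType (pullback.snd N.hom _))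
    refine Groth.Agent.Sga7.H730.StabOpen.isOpen_stab _
      ((bcE N ((algebraMap D.V D.F).comp (algebraMap R D.V)) (algebraMap D.F D.Φ)).symm (up N D x)) _ fun σ hσ => ?_
    rw [galAct_eq, ← bcE_symm_pmH N _ _ _ (gal_comp σ _)] at hσ
    exact (act_iff N D σ x).2 ((bcE N _ (algebraMap D.F D.Φ)).symm.injective hσ)
  have htop := Groth.Agent.Sga7.H730.Cyc.eq_top D.isStrict l hu hϖ hy hτ U hU hτx (fun s => ⟨ν, by
    change act N (D.res (s ^ (l ^ ν))) x = x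
    rw [map_pow]
    exact act_pow N h2 x hx _⟩)
  have h3 : τ' ∈ U := by rw [htop]; trivial
  exact h3

/-- Good reduction: no ramification. -/
theorem act_eq_of_proper [IsSeparated N.hom] [Smooth N.hom] [IsCommMonObj N]
    (hprop : IsProper (Red.bc (Spec.map (CommRingCat.ofHom (algebraMap R D.V))) N).hom) {n : ℕ}
    (hn : IsUnit (n : D.V)) (x : PΩ R K Ω N) (hx : x ^ n = 1) (τ : D.Φ ≃ₐ[D.F] D.Φ) :
    act N (D.res τ) x = x := by
  obtain ⟨w, -, hw⟩ := K489.NcdGood.exists_of_proper N D.isStrict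
    ((algebraMap D.F D.Φ).comp (algebraMap D.V D.F)) hprop (c := strΦ D) (by rw [RingHom.comp_assoc]) hn (up N D x)
    (by rw [← map_pow, hx, map_one])
  rw [act_iff, ← hw]
  exact actΦ_ofV N D τ w

end Dom

end K489.NcdCmp
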