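import Groth.Agent.Neron.K489.NcdMain
import Groth.Agent.Neron.K489.NcdReg
import Groth.Agent.Neron.K486.DomDvr
import Groth.Agent.Neron.K125.KumRow
import Groth.Agent.Neron.K125.RkFib
import Groth.Agent.S2821

/-!
# Weakly toric additive semiabelian schemes are `l`-toric additive for almost all `l`
-/

set_option autoImplicit false
universe u
open CategoryTheory CategoryTheory.Limits AlgebraicGeometry MonObj
open Neron
open K125.Pts K125.Tors K125.Tate K125.Gal K489.NcdCmp K489.NcdSat K489.NcdDom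

namespace K489.NcdD

/-- The point of `Spec R` under the closed point of a field over a datum. -/
theorem closedPoint_eq {R V Λ : Type u} [CommRing R] [CommRing V] [IsLocalRing V] [Field Λ] (b : R →+* V)
    (φ : V →+* Λ) [IsLocalHom φ] (s : ↥(Spec (CommRingCat.of R)))
    (hs : ∀ x : R, x ∈ s.asIdeal ↔ ¬ IsUnit (b x)) :
    (Spec.map (CommRingCat.ofHom (φ.comp b))) (IsLocalRing.closedPoint Λ) = s := by
  refine PrimeSpectrum.ext (Ideal.ext fun x => ?_)
  rw [hs]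
  change (φ.comp b) x ∈ IsLocalRing.maximalIdeal Λ ↔ _
  rw [IsLocalRing.mem_maximalIdeal, mem_nonunits_iff, RingHom.comp_apply]
  exact not_congr ⟨fun h => isUnit_of_map_unit φ _ h, fun h => h.map φ⟩

theorem main
    (R : Type u) [CommRing R] [IsDomain R] [IsRegularLocalRing R] [HenselianLocalRing R]
    [IsSepClosed (IsLocalRing.ResidueField R)]
    {n : ℕ} (r : Fin n → R) (hr : ∀ i, r i ∈ IsLocalRing.maximalIdeal R)
    (hli : LinearIndependent (IsLocalRing.ResidueField R)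
      (fun i => (IsLocalRing.maximalIdeal R).toCotangent ⟨r i, hr i⟩))
    (𝒜 : Over (Spec (CommRingCat.of R))) [GrpObj 𝒜] [IsCommMonObj 𝒜]
    [Smooth 𝒜.hom] [IsSeparated 𝒜.hom] [QuasiCompact 𝒜.hom]
    (hsab : SGA7.FibresUnipotentRankZero 𝒜)
    (hconn : ∀ (L : Type u) [Field L] (φ : R →+* L),
      ConnectedSpace ↑(pullback 𝒜.hom (Spec.map (CommRingCat.ofHom φ))))
    (hprop : IsProper (pullback.snd 𝒜.hom
      (Spec.map (CommRingCat.ofHom (algebraMap R (Localization.Away (∏ i, r i)))))))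
    (ζ : Fin n → ↥(Spec (CommRingCat.of R))) (hζ : ∀ i, (ζ i).asIdeal = Ideal.span {r i})
    (rk : Fin n → ℕ)
    (T : ∀ i, Over (Spec (CommRingCat.of (AlgebraicClosure ((Spec (CommRingCat.of R)).residueField (ζ i))))))
    [∀ i, GrpObj (T i)] (j : ∀ i, T i ⟶ Red.geomFibre (ζ i) 𝒜)
    (hT : ∀ i, Red.IsMaximalTorus (j i)) (hTsplit : ∀ i, Red.IsSplitTorusWith (Fin (rk i) → ℤ) (T i))
    (s : ↥(Spec (CommRingCat.of R))) (hs : s.asIdeal = IsLocalRing.maximalIdeal R)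
    (m : ℕ) (Ts : Over (Spec (CommRingCat.of (AlgebraicClosure ((Spec (CommRingCat.of R)).residueField s)))))
    [GrpObj Ts] (js : Ts ⟶ Red.geomFibre s 𝒜)
    (hTs : Red.IsMaximalTorus js) (hTssplit : Red.IsSplitTorusWith (Fin m → ℤ) Ts)
    (hweak : m = ∑ i, rk i)
    (K Ω : Type u) [Field K] [Algebra R K] [IsFractionRing R K] [Field Ω] [Algebra K Ω] [IsSepClosure K Ω]
    (hLT : ∀ l : ℕ, l.Prime → (l : IsLocalRing.ResidueField R) ≠ 0 → ∀ (ν : ℕ) (σ τ : Ω ≃ₐ[K] Ω)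
      (x : SGA7.Pts Ω (Red.bc (Spec.map (CommRingCat.ofHom (algebraMap R K))) 𝒜)),
      x ^ (l ^ ν) = 1 → SGA7.dev σ (SGA7.dev τ x) = 1)
    (A : Over (Spec (CommRingCat.of K))) [GrpObj A] [IsCommMonObj A]
    (e : Red.bc (Spec.map (CommRingCat.ofHom (algebraMap R K))) 𝒜 ≅ A) (he : IsMonHom e.hom)
    (ρ : ∀ l : ℕ, (Ω ≃ₐ[K] Ω) → AbDual.TateMod A l (SGA7.pt Ω) → AbDual.TateMod A l (SGA7.pt Ω))
    (hρ : ∀ (l : ℕ) (τ : Ω ≃ₐ[K] Ω) (z : AbDual.TateMod A l (SGA7.pt Ω)) (k : ℕ),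
      (AbDual.TateMod.component A l (SGA7.pt Ω) k (ρ l τ z)).toMul =
        SGA7.galAct τ (AbDual.TateMod.component A l (SGA7.pt Ω) k z).toMul) :
    ∃ N : ℕ, 0 < N ∧ ∀ l : ℕ, l.Prime → ¬ l ∣ N → (l : IsLocalRing.ResidueField R) ≠ 0 →
      (n = 0 ∨ ∀ z : AbDual.TateMod A l (SGA7.pt Ω), ∃ w : Fin n → AbDual.TateMod A l (SGA7.pt Ω),
        (∀ (i : Fin n) (σ : Ω ≃ₐ[K] Ω),
          (∀ (k : ℕ) (y : Ω), y ^ (l ^ k) = algebraMap K Ω (algebraMap R K (r i)) → σ y = y) →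
            ρ l σ (w i) = w i) ∧
        ∑ i, w i = z) := by
  rcases Nat.eq_zero_or_pos n with h0 | hn
  · exact ⟨1, one_pos, fun l _ _ _ => Or.inl h0⟩
  have hR : EtCoh.IsStrictlyHenselianLocalRing R := ⟨inferInstance, inferInstance⟩
  have hufd : UniqueFactorizationMonoid R := (Groth.Agent.S2821.result R).2
  have hrp : ∀ i, Prime (r i) := K489.NcdReg.prime_of_li r hr hli
  have hrne : ∀ i j, i ≠ j → ¬ r i ∣ r j := fun i j hij =>
    K489.NcdReg.not_dvd_of_li r hr hli (i := i) (j := j) (Ne.symm hij)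
  have hRK : Function.Injective (algebraMap R K) := IsFractionRing.injective R K
  have ha : ∏ i, r i ≠ 0 := Finset.prod_ne_zero_iff.2 fun i _ => (hrp i).ne_zero
  have hp := K489.NcdReg.isProper_gen (K := K) hRK ha 𝒜 hprop
  have hgi := K489.NcdReg.geometricallyIntegral_gen (K := K) hRK ha 𝒜 (fun L _ φ _ => hconn L φ)
  have hsc : IsSepClosed Ω := IsSepClosure.sep_closed K
  have hgal : IsGalois K Ω := IsSepClosure.isGalois
  let _ : Algebra R Ω := ((algebraMap K Ω).comp (algebraMap R K)).toAlgebra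
  have htow : IsScalarTower R K Ω := IsScalarTower.of_algebraMap_eq fun _ => rfl
  choose D hD hD' using fun i => Dom.exists_of_prime R K Ω (hrp i)
  -- a discrete valuation ring dominating `R`
  have hfield : ¬ IsField R := fun h => by
    have h1 := hr ⟨0, hn⟩
    rw [IsLocalRing.isField_iff_maximalIdeal_eq.1 h] at h1
    exact (hrp ⟨0, hn⟩).ne_zero h1
  obtain ⟨V, _, _, _, _, _, φ, hφ1, hφ2⟩ := K486.DomDvr.exists_strict_dvr R hfield
  obtain ⟨Dv, ev, hev⟩ := Dom.exists_of_hom R K Ω V φ hφ2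
  have hloc : IsLocalHom (algebraMap R Dv.V) := ⟨fun x hx => by
    rw [← hev] at hx
    have h1 : IsUnit (φ x) := (MulEquiv.isUnit_map ev).1 hx
    exact isUnit_of_map_unit φ x h1⟩
  obtain ⟨ϖ, hϖ⟩ := IsDiscreteValuationRing.exists_irreducible Dv.V
  have hval : ∀ i, ∃ (k : ℕ) (u : Dv.Vˣ), algebraMap R Dv.V (r i) = u * ϖ ^ k := fun i =>
    IsDiscreteValuationRing.eq_unit_mul_pow_irreducible
      (fun h => (hrp i).ne_zero (Dv.inj (by rw [h, map_zero]))) hϖ
  choose mm uu hm using hval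
  have hmpos : ∀ i, mm i ≠ 0 := fun i h => by
    have h1 : IsUnit (algebraMap R Dv.V (r i)) := by
      rw [hm i, h, pow_zero, _root_.mul_one]
      exact (uu i).isUnit
    exact (IsLocalRing.mem_maximalIdeal _).1 (hr i) (isUnit_of_map_unit (algebraMap R Dv.V) _ h1)
  obtain ⟨d, hd0, hd⟩ := K489.NcdNer.exists_pow' 𝒜 (algebraMap R K) (algebraMap R Dv.V) (algebraMap K Dv.F)
    Dv.comm hsab hp hgi
  refine ⟨d * ∏ i, mm i, Nat.mul_pos hd0 (Finset.prod_pos fun i _ => Nat.pos_of_ne_zero (hmpos i)),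
    fun l hl hlN hlk => ?_⟩
  have hF : Fact l.Prime := ⟨hl⟩
  have hlu : IsUnit (l : R) := by
    have h1 : ¬ (l : R) ∈ IsLocalRing.maximalIdeal R := fun h => by
      apply hlk
      rw [← map_natCast (IsLocalRing.residue R)]
      exact (IsLocalRing.residue_eq_zero_iff _).mpr h
    exact not_not.mp h1
  have hld : ¬ l ∣ d := fun h => hlN (h.mul_right _)
  have hlm : ∀ i, ¬ l ∣ mm i := fun i h => hlN ((h.trans (Finset.dvd_prod_of_mem mm (Finset.mem_univ i))).mul_left d)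
  have h2 : L2 R K Ω 𝒜 l := L2_of_dev 𝒜 l (hLT l hl hlk)
  have hlΩ : (l : Ω) ≠ 0 := by
    have := hlu.map (algebraMap R Ω)
    rw [map_natCast] at this
    exact this.ne_zero
  have hfin : Module.Finite ℤ_[l] (TT R K Ω 𝒜 l) := K125.Rk.finite_generic hsab hp hlΩ
  -- ranks
  have hrank : ∀ (E : Dom R K Ω) (t : ↥(Spec (CommRingCat.of R))) (_ : ∀ x : R, x ∈ t.asIdeal ↔
      ¬ IsUnit (algebraMap R E.V x))
      (T' : Over (Spec (CommRingCat.of (AlgebraicClosure ((Spec (CommRingCat.of R)).residueField t)))))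
      [GrpObj T'] (j' : T' ⟶ Red.geomFibre t 𝒜) (m' : ℕ) (_ : Red.IsMaximalTorus j')
      (_ : Red.IsSplitTorusWith (Fin m' → ℤ) T'),
      Module.finrank ℤ_[l] (AbDual.TateMod 𝒜 l (pt (algebraMap R E.V))) + m' =
        Module.finrank ℤ_[l] (TT R K Ω 𝒜 l) := by
    intro E t ht T' _ j' m' hj' hm'
    let κ := IsLocalRing.ResidueField E.V
    let Λ := AlgebraicClosure κ
    let φΛ : E.V →+* Λ := (algebraMap κ Λ).comp (IsLocalRing.residue E.V)
    have hloc' : IsLocalHom φΛ := RingHom.isLocalHom_comp _ _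
    have hluV : IsUnit (l : E.V) := by
      have := hlu.map (algebraMap R E.V)
      rwa [map_natCast] at this
    have hlΛ : (l : Λ) ≠ 0 := by
      have := hluV.map φΛ
      rw [map_natCast] at this
      exact this.ne_zero
    rw [finrank_V 𝒜 l E hluV Λ φΛ]
    exact (K125.Rk.main hsab hp t (φΛ.comp (algebraMap R E.V)) (closedPoint_eq _ φΛ t ht) hlΛ hlΩ j' hm').2 hj'
  have hrk : ∀ i, Module.finrank ℤ_[l] (AbDual.TateMod 𝒜 l (pt (algebraMap R (D i).V))) + rk i =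
      Module.finrank ℤ_[l] (TT R K Ω 𝒜 l) := fun i =>
    hrank (D i) (ζ i) (fun x => by
      rw [hζ, Ideal.mem_span_singleton]
      constructor
      · rintro ⟨y, rfl⟩ h
        rw [map_mul] at h
        exact (hD i).not_isUnit (isUnit_of_mul_isUnit_left h)
      · intro h
        by_contra hx
        exact h (hD' i x hx)) (T i) (j i) (rk i) (hT i) (hTsplit i)
  have hrkv : Module.finrank ℤ_[l] (AbDual.TateMod 𝒜 l (pt (algebraMap R Dv.V))) + ∑ i, rk i =
      Module.finrank ℤ_[l] (TT R K Ω 𝒜 l) := by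
    rw [← hweak]
    refine hrank Dv s (fun x => ?_) Ts js m hTs hTssplit
    rw [hs, IsLocalRing.mem_maximalIdeal, mem_nonunits_iff]
    exact not_congr ⟨fun h => h.map _, fun h => isUnit_of_map_unit (algebraMap R Dv.V) x h⟩
  -- transfer to `A`
  let E₁ : AbDual.TateMod A l (SGA7.pt Ω) ≃+ AbDual.TateMod 𝒜 l (pt (str (algebraMap R K) Ω)) :=
    (tA (algebraMap R K) 𝒜 l e he).toAddEquiv
  have hE₁ : ∀ (σ : Ω ≃ₐ[K] Ω) (w : AbDual.TateMod A l (SGA7.pt Ω)),
      E₁ (ρ l σ w) = gal (algebraMap R K) 𝒜 l σ (E₁ w) := fun σ w =>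
    tA_rho (algebraMap R K) 𝒜 l e he (ρ l) (hρ l) σ w
  rw [K125.KumRow.star_iff E₁ (fun i w => ∀ σ : Ω ≃ₐ[K] Ω,
      (∀ (k : ℕ) (y : Ω), y ^ (l ^ k) = algebraMap K Ω (algebraMap R K (r i)) → σ y = y) → ρ l σ w = w)
    (fun i w => ∀ σ : Ω ≃ₐ[K] Ω,
      (∀ (k : ℕ) (y : Ω), y ^ (l ^ k) = algebraMap K Ω (algebraMap R K (r i)) → σ y = y) →
        gal (algebraMap R K) 𝒜 l σ w = w)
    (fun i w => forall_congr' fun σ => imp_congr_right fun _ => by
      rw [← hE₁]; exact E₁.injective.eq_iff.symm)]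
  exact Or.inr fun z => K489.NcdMain.main r hrp 𝒜 hprop l hlu h2 D hD hD' hn hrne hsab hp hgi Dv
    (hconn _ _) hϖ uu mm hm hlm hd hld rk hrk hrkv z

end K489.NcdD
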