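import Groth.Agent.Neron.K489.NcdKum

/-!
# Strictly henselian discrete valuation rings over a domain, with Galois groups

`Dom R K Ω`: an injective homomorphism `R → V` into a strictly henselian discrete valuation ring, the fraction
field `F` of `V`, a separable closure `Φ` of `F` containing `Ω`; `Dom.res : Gal(Φ/F) → Gal(Ω/K)`.
-/

set_option autoImplicit false

universe u

open IsLocalRing

namespace K489.NcdDom

/-- A strictly henselian discrete valuation ring over `R` and its Galois group. -/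
structure Dom (R K Ω : Type u) [CommRing R] [Field K] [Algebra R K] [Field Ω] [Algebra K Ω] where
  (V F Φ : Type u)
  [cV : CommRing V] [dV : IsDomain V] [vV : IsDiscreteValuationRing V] [hV : HenselianLocalRing V]
  [sV : IsSepClosed (ResidueField V)]
  [fF : Field F] [aF : Algebra V F] [frF : IsFractionRing V F]
  [fΦ : Field Φ] [aΦ : Algebra F Φ] [sΦ : IsSepClosure F Φ]
  [aRV : Algebra R V] [aKF : Algebra K F] [aΩΦ : Algebra Ω Φ] [aKΦ : Algebra K Φ]
  [t1 : IsScalarTower K F Φ] [t2 : IsScalarTower K Ω Φ]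
  comm : (algebraMap K F).comp (algebraMap R K) = (algebraMap V F).comp (algebraMap R V)
  inj : Function.Injective (algebraMap R V)

attribute [instance] Dom.cV Dom.dV Dom.vV Dom.hV Dom.sV Dom.fF Dom.aF Dom.frF Dom.fΦ Dom.aΦ Dom.sΦ
  Dom.aRV Dom.aKF Dom.aΩΦ Dom.aKΦ Dom.t1 Dom.t2

namespace Dom

section Res

variable {R K Ω : Type u} [CommRing R] [Field K] [Algebra R K] [Field Ω] [Algebra K Ω] (D : Dom R K Ω)

instance : IsGalois D.F D.Φ := IsSepClosure.isGalois

instance : IsSepClosed D.Φ := IsSepClosure.sep_closed D.F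

theorem isStrict : EtCoh.IsStrictlyHenselianLocalRing D.V := ⟨inferInstance, inferInstance⟩

/-- Restriction of automorphisms. -/
noncomputable def res [IsGalois K Ω] : (D.Φ ≃ₐ[D.F] D.Φ) →* (Ω ≃ₐ[K] Ω) where
  toFun τ := (τ.restrictScalars K).restrictNormal Ω
  map_one' := by
    ext x
    apply (algebraMap Ω D.Φ).injective
    rw [AlgEquiv.restrictNormal_commutes]
    rfl
  map_mul' τ τ' := by
    ext x
    apply (algebraMap Ω D.Φ).injective
    rw [AlgEquiv.restrictNormal_commutes, AlgEquiv.mul_apply, AlgEquiv.restrictNormal_commutes,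
      AlgEquiv.restrictNormal_commutes]
    rfl

theorem res_apply [IsGalois K Ω] (τ : D.Φ ≃ₐ[D.F] D.Φ) (x : Ω) :
    algebraMap Ω D.Φ (D.res τ x) = τ (algebraMap Ω D.Φ x) :=
  AlgEquiv.restrictNormal_commutes (τ.restrictScalars K) Ω x

/-- Fixed elements lie in `F`. -/
theorem exists_of_fixed [IsGalois K Ω] (x : Ω) (h : ∀ τ : D.Φ ≃ₐ[D.F] D.Φ, D.res τ x = x) :
    ∃ f : D.F, algebraMap D.F D.Φ f = algebraMap Ω D.Φ x :=
  (InfiniteGalois.mem_range_algebraMap_iff_fixed _).2 fun τ => by rw [← res_apply, h]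

theorem commR (a : R) : algebraMap Ω D.Φ (algebraMap K Ω (algebraMap R K a)) =
    algebraMap D.F D.Φ (algebraMap D.V D.F (algebraMap R D.V a)) := by
  have h1 := congrArg (fun f => f a) D.comm
  simp only [RingHom.comp_apply] at h1
  rw [← h1, ← IsScalarTower.algebraMap_apply K Ω D.Φ, ← IsScalarTower.algebraMap_apply K D.F D.Φ]

end Res

section Mk

variable (R K Ω : Type u) [CommRing R] [IsDomain R] [Field K] [Algebra R K] [IsFractionRing R K]
  [Field Ω] [Algebra K Ω] [IsSepClosure K Ω]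

/-- The datum of an injective homomorphism into a strictly henselian discrete valuation ring. -/
theorem exists_of_hom (V : Type u) [CommRing V] [IsDomain V] [IsDiscreteValuationRing V]
    [HenselianLocalRing V] [IsSepClosed (ResidueField V)] (φ : R →+* V) (hφ : Function.Injective φ) :
    ∃ (D : Dom R K Ω) (e : V ≃+* D.V), ∀ x, e (φ x) = algebraMap R D.V x := by
  let F := FractionRing V
  let Φ := SeparableClosure F
  let _ : Algebra R V := φ.toAlgebra
  let ψ : K →+* F := IsFractionRing.map (A := R) (B := V) (K := K) (L := F) hφ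
  let _ : Algebra K F := ψ.toAlgebra
  let _ : Algebra K Φ := ((algebraMap F Φ).comp ψ).toAlgebra
  have hT : IsScalarTower K F Φ := IsScalarTower.of_algebraMap_eq fun _ => rfl
  have hsep : Algebra.IsSeparable K Ω := IsSepClosure.separable
  let ω : Ω →ₐ[K] Φ := IsSepClosed.lift
  let _ : Algebra Ω Φ := (ω : Ω →+* Φ).toAlgebra
  have hT2 : IsScalarTower K Ω Φ := IsScalarTower.of_algebraMap_eq fun x => (ω.commutes x).symm
  refine ⟨{ V := V, F := F, Φ := Φ, comm := ?_, inj := hφ }, RingEquiv.refl V, fun _ => rfl⟩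
  ext a
  exact IsLocalization.map_eq (M := nonZeroDivisors R) (T := nonZeroDivisors V) (S := K) (Q := F)
    (nonZeroDivisors_le_comap_nonZeroDivisors_of_injective φ hφ) a

/-- The datum of a prime element. -/
theorem exists_of_prime [IsNoetherianRing R] {p : R} (hp : Prime p) :
    ∃ D : Dom R K Ω, Irreducible (algebraMap R D.V p) ∧ ∀ x : R, ¬ p ∣ x → IsUnit (algebraMap R D.V x) := by
  obtain ⟨V, _, _, _, _, _, φ, hφ1, hφ2, hφ3⟩ := K489.NcdKum.exists_dvr_at R hp
  obtain ⟨D, e, he⟩ := exists_of_hom R K Ω V φ hφ1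
  refine ⟨D, ?_, fun x hx => ?_⟩
  · rw [← he]
    exact (MulEquiv.irreducible_iff e).2 hφ2
  · rw [← he]
    exact (hφ3 x hx).map e

end Mk

section Kum

variable {R K Ω : Type u} [CommRing R] [Field K] [Algebra R K]
  [Field Ω] [Algebra K Ω] [Algebra R Ω] [IsScalarTower R K Ω] [IsGalois K Ω] (D : Dom R K Ω)

/-- The image of the Galois group acts on the roots of a uniformizer through all automorphisms. -/
theorem exists_res [IsDomain R] [IsFractionRing R K] (hR : EtCoh.IsStrictlyHenselianLocalRing R) {p : R} (hp : p ≠ 0)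
    (hpV : Irreducible (algebraMap R D.V p)) (N : ℕ) (hN : IsUnit (N : R))
    (hroot : ∃ w : Ω, w ^ N = algebraMap R Ω p) (σ : Ω ≃ₐ[K] Ω) :
    ∃ τ : D.Φ ≃ₐ[D.F] D.Φ, ∀ w : Ω, w ^ N = algebraMap R Ω p → D.res τ w = σ w := by
  obtain ⟨τ, hτ⟩ := K489.NcdKum.exists_aut R K Ω D.V D.F D.Φ hR D.comm hp hpV N hN hroot σ
  exact ⟨τ, fun w hw => (algebraMap Ω D.Φ).injective (by rw [res_apply, hτ w hw])⟩

/-- The image of the Galois group fixes the roots of units. -/
theorem res_eq_of_isUnit {p : R} (hpV : IsUnit (algebraMap R D.V p)) (N : ℕ) (hN : IsUnit (N : R))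
    {w : Ω} (hw : w ^ N = algebraMap R Ω p) (τ : D.Φ ≃ₐ[D.F] D.Φ) : D.res τ w = w :=
  (algebraMap Ω D.Φ).injective (by
    rw [res_apply]
    exact K489.NcdKum.fixed_of_isUnit R K Ω D.V D.F D.Φ D.isStrict D.comm hpV N hN hw τ)

end Kum

end Dom

end K489.NcdDom
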