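import Groth.Agent.Neron.K489.NcdDom
import Groth.Agent.Sga7.H242.KummerGrp
import Mathlib.GroupTheory.FiniteAbelian.Duality

/-!
# Kummer theory of a factorial strictly henselian domain

* `apply_eq_of_pow`: an `N`-th root of `a`, where the multiplicities in `a` of the primes outside `r_i` are divisible
  by `N`, is fixed by the automorphisms fixing the `N`-th roots of the `r_i`;
* `eq_one`: a homomorphism from the Galois group to an abelian group of exponent `N`, with open kernel and trivial on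
  the groups of the primes different from the `r_i`, kills the automorphisms fixing the `N`-th roots of the `r_i`.
-/

set_option autoImplicit false

universe u

open IsLocalRing

namespace K489.NcdKT

variable {R K Ω : Type u} [CommRing R] [IsDomain R] [Field K] [Algebra R K]
  [Field Ω] [Algebra K Ω] [Algebra R Ω] [IsScalarTower R K Ω]

/-- roots of units of a strictly henselian ring are fixed by the Galois group. -/
theorem apply_eq_of_isUnit [IsFractionRing R K] [HenselianLocalRing R] [IsSepClosed (ResidueField R)]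
    {u : R} (hu : IsUnit u) {N : ℕ}
    (hN : IsUnit (N : R)) {y : Ω} (hy : y ^ N = algebraMap R Ω u) (σ : Ω ≃ₐ[K] Ω) : σ y = y := by
  have hinj : Function.Injective (algebraMap R Ω) := by
    rw [IsScalarTower.algebraMap_eq R K Ω]
    exact (algebraMap K Ω).injective.comp (IsFractionRing.injective R K)
  have : FaithfulSMul R Ω := (faithfulSMul_iff_algebraMap_injective R Ω).2 hinj
  obtain ⟨v, hv⟩ := K489.NcdKum.exists_pow_eq R hu hN
  obtain ⟨c, hc⟩ := Groth.Agent.Sga4h.WildPro.exists_eq_mul R ⟨inferInstance, inferInstance⟩ N hN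
    (x := y) (y := algebraMap R Ω v) (hu.map (algebraMap R Ω)).ne_zero hy (by rw [← map_pow, hv])
  rw [hc, ← map_mul, IsScalarTower.algebraMap_apply R K Ω, AlgEquiv.commutes]

theorem apply_eq_of_pow [IsFractionRing R K] [HenselianLocalRing R] [IsSepClosed (ResidueField R)]
    [UniqueFactorizationMonoid R] {I : Type*} (r : I → R)
    (hprime : ∀ i, Prime (r i)) {N : ℕ} (hN : IsUnit (N : R)) (g : Ω ≃ₐ[K] Ω)
    (hroot : ∀ x : Ω, ∃ z : Ω, z ^ N = x)
    (hg : ∀ (i : I) (w : Ω), w ^ N = algebraMap R Ω (r i) → g w = w) (a : R) (ha : a ≠ 0)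
    (h : ∀ p : R, Prime p → (∀ i, ¬ p ∣ r i) → N ∣ multiplicity p a) (y : Ω)
    (hy : y ^ N = algebraMap R Ω a) : g y = y := by
  have hinj : Function.Injective (algebraMap R Ω) := by
    rw [IsScalarTower.algebraMap_eq R K Ω]
    exact (algebraMap K Ω).injective.comp (IsFractionRing.injective R K)
  have hN0 : N ≠ 0 := by
    rintro rfl
    simp at hN
  have hgR : ∀ x : R, g (algebraMap R Ω x) = algebraMap R Ω x := fun x => by
    rw [IsScalarTower.algebraMap_apply R K Ω, AlgEquiv.commutes]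
  revert ha h y
  have hwf : WellFounded (DvdNotUnit (α := R)) := IsWellFounded.wf
  refine hwf.induction
    (C := fun a => a ≠ 0 → (∀ p : R, Prime p → (∀ i, ¬ p ∣ r i) → N ∣ multiplicity p a) → ∀ y : Ω,
      y ^ N = algebraMap R Ω a → g y = y) a ?_
  intro a ih ha h y hy
  by_cases hu : IsUnit a
  · exact apply_eq_of_isUnit hu hN hy g
  obtain ⟨q, hq, hqa⟩ := WfDvdMonoid.exists_irreducible_factor hu ha
  have hqp : Prime q := UniqueFactorizationMonoid.irreducible_iff_prime.1 hq
  have hfin : ∀ {p x : R}, Prime p → x ≠ 0 → FiniteMultiplicity p x := fun hp hx =>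
    FiniteMultiplicity.of_not_isUnit hp.not_isUnit hx
  by_cases hqr : ∃ i, q ∣ r i
  · obtain ⟨i, hqi⟩ := hqr
    have hass : Associated q (r i) := hqp.associated_of_dvd (hprime i) hqi
    obtain ⟨a₁, rfl⟩ : r i ∣ a := hass.dvd_iff_dvd_left.1 hqa
    have ha₁ : a₁ ≠ 0 := right_ne_zero_of_mul ha
    obtain ⟨w, hw⟩ := hroot (algebraMap R Ω (r i))
    have hw0 : w ≠ 0 := by
      rintro rfl
      rw [zero_pow hN0] at hw
      exact (hprime i).ne_zero (hinj (by rw [← hw, map_zero]))
    have h1 : (y / w) ^ N = algebraMap R Ω a₁ := by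
      rw [div_pow, hy, hw, map_mul, mul_div_cancel_left₀]
      rw [← hw]
      exact pow_ne_zero _ hw0
    have h2 := ih a₁ ⟨ha₁, r i, (hprime i).not_isUnit, mul_comm _ _⟩ ha₁ (fun p hp hpr => by
      have h3 := h p hp hpr
      rw [multiplicity_mul hp (hfin hp ha), multiplicity_eq_zero.2 (hpr i), zero_add] at h3
      exact h3) (y / w) h1
    have h4 : y = w * (y / w) := (mul_div_cancel₀ y hw0).symm
    rw [h4, map_mul, h2, hg i w hw]
  · push Not at hqr
    have hd := h q hqp hqr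
    have hpos : multiplicity q a ≠ 0 := by
      rw [Ne, multiplicity_eq_zero]
      exact fun hn => hn hqa
    have hle : N ≤ multiplicity q a := Nat.le_of_dvd (Nat.pos_of_ne_zero hpos) hd
    obtain ⟨a₁, rfl⟩ : q ^ N ∣ a := (pow_dvd_pow q hle).trans (pow_multiplicity_dvd q a)
    have ha₁ : a₁ ≠ 0 := right_ne_zero_of_mul ha
    have hq0 : algebraMap R Ω q ≠ 0 := fun h0 => hqp.ne_zero (hinj (by rw [h0, map_zero]))
    have h1 : (y / algebraMap R Ω q) ^ N = algebraMap R Ω a₁ := by
      rw [div_pow, hy, map_mul, map_pow, mul_div_cancel_left₀ _ (pow_ne_zero _ hq0)]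
    have h2 := ih a₁ ⟨ha₁, q ^ N, fun hun => hqp.not_isUnit
        ((isUnit_pow_iff hN0).1 hun), mul_comm _ _⟩ ha₁ (fun p hp hpr => by
      have h3 := h p hp hpr
      rw [multiplicity_mul hp (hfin hp ha), (hfin hp hqp.ne_zero).multiplicity_pow hp] at h3
      exact (Nat.dvd_add_right (dvd_mul_right _ _)).1 h3) (y / algebraMap R Ω q) h1
    have h4 : y = algebraMap R Ω q * (y / algebraMap R Ω q) := (mul_div_cancel₀ y hq0).symm
    rw [h4, map_mul, h2, hgR]

/-- Multiplicities of an element with an `N`-th root in the fraction field of an unramified discrete valuation ring. -/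
theorem dvd_multiplicity [IsGalois K Ω] (D : K489.NcdDom.Dom R K Ω)
    {p : R} (hp : Prime p) [IsNoetherianRing R]
    (hpV : Irreducible (algebraMap R D.V p)) (hunit : ∀ x : R, ¬ p ∣ x → IsUnit (algebraMap R D.V x))
    {N : ℕ} (hN0 : N ≠ 0) {a : R} (ha : a ≠ 0) {y : Ω} (hy : y ^ N = algebraMap R Ω a)
    (hfix : ∀ τ : D.Φ ≃ₐ[D.F] D.Φ, D.res τ y = y) : N ∣ multiplicity p a := by
  obtain ⟨f, hf⟩ := D.exists_of_fixed y hfix
  have hfin : FiniteMultiplicity p a := FiniteMultiplicity.of_not_isUnit hp.not_isUnit ha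
  obtain ⟨a', ha', hna'⟩ := hfin.exists_eq_pow_mul_and_not_dvd
  have h1 : f ^ N = algebraMap D.V D.F (algebraMap R D.V a) := by
    apply (algebraMap D.F D.Φ).injective
    rw [map_pow, hf, ← map_pow, hy, ← D.commR, IsScalarTower.algebraMap_apply R K Ω]
  have h3 : IsIntegral D.V f := ⟨Polynomial.X ^ N - Polynomial.C (algebraMap R D.V a),
    Polynomial.monic_X_pow_sub_C _ hN0,
    by rw [Polynomial.eval₂_sub, Polynomial.eval₂_pow, Polynomial.eval₂_X, Polynomial.eval₂_C, h1, sub_self]⟩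
  obtain ⟨v, rfl⟩ := IsIntegrallyClosed.isIntegral_iff.1 h3
  have h4 : v ^ N = algebraMap R D.V p ^ multiplicity p a * algebraMap R D.V a' := by
    apply IsFractionRing.injective D.V D.F
    rw [map_pow, h1, ← map_pow, ← map_mul]
    conv_lhs => rw [ha']
  have hv : v ≠ 0 := by
    rintro rfl
    rw [zero_pow hN0] at h4
    exact mul_ne_zero (pow_ne_zero _ hpV.ne_zero) (hunit a' hna').ne_zero h4.symm
  obtain ⟨k, u, hu⟩ := IsDiscreteValuationRing.eq_unit_mul_pow_irreducible hv hpV
  have h5 : ((u ^ N : D.Vˣ) : D.V) * algebraMap R D.V p ^ (k * N) =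
      ((hunit a' hna').unit : D.V) * algebraMap R D.V p ^ multiplicity p a := by
    rw [IsUnit.unit_spec, mul_comm (algebraMap R D.V a'), ← h4, hu, mul_pow, ← pow_mul, Units.val_pow_eq_pow_val]
  have h6 := IsDiscreteValuationRing.unit_mul_pow_congr_pow hpV hpV _ _ _ _ h5
  exact ⟨k, by rw [← h6, mul_comm]⟩

section Main

variable [IsFractionRing R K] [HenselianLocalRing R] [IsSepClosed (ResidueField R)]
    [UniqueFactorizationMonoid R] [IsNoetherianRing R] [IsGalois K Ω] [IsSepClosed Ω]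

/-- A homomorphism to an abelian group of exponent `N`, with open kernel and unramified at the primes different
from the `r i`, kills the automorphisms fixing the `N`-th roots of the `r i`. -/
theorem eq_one {M : Type*} [CommGroup M] (χ : (Ω ≃ₐ[K] Ω) →* M) (hop : IsOpen (χ.ker : Set (Ω ≃ₐ[K] Ω)))
    {N : ℕ} (hN : IsUnit (N : R)) (hχ : ∀ g, χ g ^ N = 1) {I : Type*} (r : I → R) (hprime : ∀ i, Prime (r i))
    (hunr : ∀ p : R, Prime p → (∀ i, ¬ p ∣ r i) → ∃ D : K489.NcdDom.Dom R K Ω,
      Irreducible (algebraMap R D.V p) ∧ (∀ x : R, ¬ p ∣ x → IsUnit (algebraMap R D.V x)) ∧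
      ∀ τ : D.Φ ≃ₐ[D.F] D.Φ, χ (D.res τ) = 1)
    (g : Ω ≃ₐ[K] Ω) (hg : ∀ (i : I) (w : Ω), w ^ N = algebraMap R Ω (r i) → g w = w) : χ g = 1 := by
  have hinj : Function.Injective (algebraMap R Ω) := by
    rw [IsScalarTower.algebraMap_eq R K Ω]
    exact (algebraMap K Ω).injective.comp (IsFractionRing.injective R K)
  by_contra hne
  have hN0 : N ≠ 0 := by
    rintro rfl
    simp at hN
  obtain ⟨ζ, hζ⟩ := Groth.Agent.Sga7.H242.KummerGrp.exists_primitiveRoot (C := R) N hN
  have hζK : IsPrimitiveRoot (algebraMap R K ζ) N := hζ.map_of_injective (IsFractionRing.injective R K)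
  have hfinq : Finite ((Ω ≃ₐ[K] Ω) ⧸ χ.ker) := Subgroup.quotient_finite_of_isOpen χ.ker hop
  have hfin : Finite χ.range := Finite.of_equiv _ (QuotientGroup.quotientKerEquivRange χ).toEquiv
  have hexp : Monoid.exponent χ.range ∣ N := Monoid.exponent_dvd_of_forall_pow_eq_one (by
    rintro ⟨_, g, rfl⟩
    exact Subtype.ext (hχ g))
  have : NeZero N := ⟨hN0⟩
  have hen : HasEnoughRootsOfUnity K N := ⟨⟨_, hζK⟩, inferInstance⟩
  have hen2 : HasEnoughRootsOfUnity K (Monoid.exponent χ.range) := HasEnoughRootsOfUnity.of_dvd K hexp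
  obtain ⟨φ, hφ⟩ := CommGroup.exists_apply_ne_one_of_hasEnoughRootsOfUnity χ.range K
    (a := ⟨χ g, g, rfl⟩) (fun h => hne (congrArg Subtype.val h))
  let ψ : (Ω ≃ₐ[K] Ω) →* Kˣ := φ.comp χ.rangeRestrict
  have hψg : ψ g ≠ 1 := hφ
  have hle : χ.ker ≤ ψ.ker := fun x hx => by
    have h1 : χ.rangeRestrict x = 1 := Subtype.ext hx
    rw [MonoidHom.mem_ker, MonoidHom.comp_apply, h1, map_one]
  have hHop : IsOpen (ψ.ker : Set (Ω ≃ₐ[K] Ω)) := Subgroup.isOpen_mono hle hop
  have hfinq' : Finite ((Ω ≃ₐ[K] Ω) ⧸ ψ.ker) := Subgroup.quotient_finite_of_isOpen ψ.ker hHop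
  have hfin' : Finite ψ.range := Finite.of_equiv _ (QuotientGroup.quotientKerEquivRange ψ).toEquiv
  have hcyc : IsCyclic ψ.range := isCyclic_subgroup_units _
  have hcyc' : IsCyclic ((Ω ≃ₐ[K] Ω) ⧸ ψ.ker) :=
    isCyclic_of_surjective (QuotientGroup.quotientKerEquivRange ψ).symm.toMonoidHom
      (QuotientGroup.quotientKerEquivRange ψ).symm.surjective
  have hindex : ψ.ker.index = Nat.card ψ.range :=
    Nat.card_congr (QuotientGroup.quotientKerEquivRange ψ).toEquiv
  have hdvd : ψ.ker.index ∣ N := by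
    rw [hindex, ← IsCyclic.exponent_eq_card]
    refine Monoid.exponent_dvd_of_forall_pow_eq_one ?_
    rintro ⟨_, x, rfl⟩
    refine Subtype.ext ?_
    change ψ x ^ N = 1
    rw [← map_pow]
    refine hle (?_ : χ (x ^ N) = 1)
    rw [map_pow, hχ]
  obtain ⟨c, hc⟩ := hdvd
  have hc0 : c ≠ 0 := by
    rintro rfl
    exact hN0 (by rw [hc, mul_zero])
  have hN'0 : ψ.ker.index ≠ 0 := by
    intro h0
    exact hN0 (by rw [hc, h0, zero_mul])
  have hN' : IsUnit ((ψ.ker.index : ℕ) : R) := by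
    rw [hc, Nat.cast_mul] at hN
    exact isUnit_of_mul_isUnit_left hN
  obtain ⟨b, ⟨q, hq⟩, hb⟩ := Groth.Agent.Sga7.H242.KummerGrp.exists_kummer_generator ψ.ker hHop _ rfl
    (algebraMap R K ζ ^ c) (hζK.pow (Nat.pos_of_ne_zero hN0) (by rw [hc, mul_comm]))
  have hb0 : b ≠ 0 := by
    rintro rfl
    exact hψg ((hb g).1 (map_zero g))
  obtain ⟨a, d, hd, rfl⟩ := IsFractionRing.div_surjective (A := R) q
  have hd0 : d ≠ 0 := nonZeroDivisors.ne_zero hd
  have hdK : algebraMap R K d ≠ 0 := fun h => hd0 (IsFractionRing.injective R K (by rw [h, map_zero]))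
  have hfixd : ∀ σ : Ω ≃ₐ[K] Ω, σ (algebraMap R Ω d) = algebraMap R Ω d := fun σ => by
    rw [IsScalarTower.algebraMap_apply R K Ω, AlgEquiv.commutes]
  have hdΩ : algebraMap R Ω d ≠ 0 := fun h => hd0 (hinj (by rw [h, map_zero]))
  obtain ⟨N₁, hN₁⟩ := Nat.exists_eq_succ_of_ne_zero hN'0
  have hy : (algebraMap R Ω d * b) ^ ψ.ker.index = algebraMap R Ω (d ^ N₁ * a) := by
    rw [mul_pow, ← hq, hN₁, Nat.succ_eq_add_one, pow_succ, map_mul, map_pow, IsScalarTower.algebraMap_apply R K Ω d,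
      IsScalarTower.algebraMap_apply R K Ω a, mul_assoc, ← map_mul]
    congr 2
    field_simp
  have ha0 : d ^ N₁ * a ≠ 0 := by
    intro h0
    rw [h0, map_zero] at hy
    exact mul_ne_zero hdΩ hb0 (pow_eq_zero_iff hN'0 |>.1 hy)
  have hroot : ∀ x : Ω, ∃ z : Ω, z ^ ψ.ker.index = x := fun x => by
    have : NeZero ((ψ.ker.index : ℕ) : Ω) := by
      constructor
      have h1 : IsUnit ((ψ.ker.index : ℕ) : Ω) := by
        have := hN'.map (algebraMap R Ω)
        rwa [map_natCast] at this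
      exact h1.ne_zero
    exact IsSepClosed.exists_pow_nat_eq x _
  have key : g (algebraMap R Ω d * b) = algebraMap R Ω d * b := by
    refine apply_eq_of_pow r hprime hN' g hroot (fun i w hw => ?_) _ ha0 (fun p hp hpr => ?_) _ hy
    · obtain ⟨w', hw'⟩ : ∃ w' : Ω, w' ^ c = w := by
        have : NeZero ((c : ℕ) : Ω) := by
          constructor
          have h1 : IsUnit ((c : ℕ) : Ω) := by
            rw [hc, Nat.cast_mul] at hN
            have := (isUnit_of_mul_isUnit_right hN).map (algebraMap R Ω)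
            rwa [map_natCast] at this
          exact h1.ne_zero
        exact IsSepClosed.exists_pow_nat_eq w c
      rw [← hw', map_pow, hg i w' (by rw [hc, mul_comm, pow_mul, hw', hw])]
    · obtain ⟨D, hD1, hD2, hD3⟩ := hunr p hp hpr
      refine dvd_multiplicity D hp hD1 hD2 hN'0 ha0 hy fun τ => ?_
      rw [map_mul, hfixd, (hb (D.res τ)).2 (hle (hD3 τ))]
  rw [map_mul, hfixd] at key
  exact hψg ((hb g).1 (mul_left_cancel₀ hdΩ key))

end Main

end K489.NcdKT
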