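import Groth.Agent.Sga4h.ChartDVR
import Groth.Agent.Hensel.Exist
import Groth.Agent.Sga7.H481.Tame
import Groth.Agent.VanCyc.K4.TameHom

/-!
# Kummer theory of a prime element of a strictly henselian Noetherian local domain

* `exists_dvr_at`: the strictly henselian discrete valuation ring of a prime element;
* `exists_aut`: the Galois group of its fraction field acts on the roots of the prime element through all
  automorphisms;
* `exists_level`: a point fixed by the automorphisms fixing all `l`-power roots of `a` is fixed by the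
  automorphisms fixing the `l ^ n`-th roots for some `n`.
-/

set_option autoImplicit false

universe u

namespace K489.NcdKum

open IsLocalRing Polynomial

/-- The strictly henselian discrete valuation ring of a prime element. -/
theorem exists_dvr_at (R : Type u) [CommRing R] [IsDomain R] [IsNoetherianRing R] {p : R} (hp : Prime p) :
    ∃ (V : Type u) (_ : CommRing V) (_ : IsDomain V) (_ : IsDiscreteValuationRing V)
      (_ : HenselianLocalRing V) (_ : IsSepClosed (ResidueField V)) (φ : R →+* V),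
      Function.Injective φ ∧ Irreducible (φ p) ∧ ∀ x : R, ¬ p ∣ x → IsUnit (φ x) := by
  let P : Ideal R := Ideal.span {p}
  have hP : P.IsPrime := (Ideal.span_singleton_prime hp.ne_zero).2 hp
  let W := Localization.AtPrime P
  have hWn : IsNoetherianRing W := IsLocalization.isNoetherianRing P.primeCompl W inferInstance
  have hinj : Function.Injective (algebraMap R W) :=
    IsLocalization.injective W P.primeCompl_le_nonZeroDivisors
  have hmax : maximalIdeal W = Ideal.span {algebraMap R W p} := by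
    rw [← Localization.AtPrime.map_eq_maximalIdeal, Ideal.map_span, Set.image_singleton]
  have hnil : ¬ IsNilpotent (algebraMap R W p) := by
    rintro ⟨n, hn⟩
    rw [← map_pow] at hn
    have h1 : p ^ n = 0 := hinj (by rw [hn, map_zero])
    exact hp.ne_zero (eq_zero_of_pow_eq_zero h1)
  have hdvr : IsDiscreteValuationRing W := Groth.Agent.Sga4h.ChartDVR.isDiscreteValuationRing hmax hnil
  have hirr : Irreducible (algebraMap R W p) := (IsDiscreteValuationRing.irreducible_iff_uniformizer _).2 hmax
  obtain ⟨V, _, _, _, _, hV, -⟩ := Groth.Agent.Hensel.Exist.exists_isStrictHenselization W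
  have h1 : IsDomain V := Groth.Agent.Sga4h.ChartDVR.isDomain_of_isStrictHenselization W V
  have h2 : IsDiscreteValuationRing V :=
    Groth.Agent.Sga4h.ChartDVR.isDiscreteValuationRing_of_isStrictHenselization W V
  have h4 : HenselianLocalRing V := Hensel.IsStrictHenselization.henselian W
  have h5 : IsSepClosure (ResidueField W) (ResidueField V) := Hensel.IsStrictHenselization.isSepClosure
  refine ⟨V, inferInstance, h1, h2, h4, h5.sep_closed, (algebraMap W V).comp (algebraMap R W),
    (Groth.Agent.Sga4h.ChartDVR.injective_algebraMap W V).comp hinj,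
    Groth.Agent.Sga4h.ChartDVR.irreducible_of_isStrictHenselization W V hirr, fun x hx => ?_⟩
  refine IsUnit.map (algebraMap W V) ?_
  exact IsLocalization.map_units W (⟨x, fun h => hx (Ideal.mem_span_singleton.1 h)⟩ : P.primeCompl)

/-- Units of a strictly henselian local ring have `N`-th roots, `N` invertible. -/
theorem exists_pow_eq (V : Type u) [CommRing V] [HenselianLocalRing V] [IsSepClosed (ResidueField V)]
    {u : V} (hu : IsUnit u) {N : ℕ} (hN : IsUnit (N : V)) : ∃ v : V, v ^ N = u := by
  have hN0 : N ≠ 0 := by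
    rintro rfl
    simp at hN
  have hNk : IsUnit ((N : ℕ) : ResidueField V) := by
    have := hN.map (residue V)
    rwa [map_natCast] at this
  have : NeZero ((N : ℕ) : ResidueField V) := ⟨hNk.ne_zero⟩
  obtain ⟨z, hz⟩ := IsSepClosed.exists_pow_nat_eq (residue V u) N
  obtain ⟨b, hb⟩ := residue_surjective z
  have hz0 : z ≠ 0 := by
    rintro rfl
    rw [zero_pow hN0] at hz
    exact (hu.map (residue V)).ne_zero hz.symm
  obtain ⟨v, hv1, -⟩ := HenselianLocalRing.is_henselian (X ^ N - C u : V[X])
    (monic_X_pow_sub_C _ hN0) b (by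
      rw [← residue_eq_zero_iff]
      simp [hb, hz]) (by
      have h1 : residue V (eval b (derivative (X ^ N - C u : V[X]))) ≠ 0 := by
        simp only [derivative_sub, derivative_X_pow, derivative_C, sub_zero, eval_mul, eval_pow, eval_X,
          eval_natCast, map_mul, map_natCast, map_pow, hb]
        exact mul_ne_zero hNk.ne_zero (pow_ne_zero _ hz0)
      by_contra hcon
      exact h1 ((residue_eq_zero_iff _).2 hcon))
  refine ⟨v, ?_⟩
  rw [IsRoot.def, eval_sub, eval_pow, eval_X, eval_C, sub_eq_zero] at hv1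
  exact hv1

section Aut

variable (R K Ω V F Φ : Type u) [CommRing R] [IsDomain R] [Field K] [Algebra R K] [IsFractionRing R K]
  [Field Ω] [Algebra K Ω] [Algebra R Ω] [IsScalarTower R K Ω]
  [CommRing V] [IsDomain V] [IsDiscreteValuationRing V] [Field F] [Algebra V F] [IsFractionRing V F]
  [Field Φ] [Algebra F Φ] [IsGalois F Φ]
  [Algebra R V] [Algebra K F] [Algebra Ω Φ] [Algebra K Φ] [IsScalarTower K F Φ] [IsScalarTower K Ω Φ]

/-- The Galois group over the discretely valued field of a prime element `p` realizes all actions on its roots. -/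
theorem exists_aut (hR : EtCoh.IsStrictlyHenselianLocalRing R)
    (hcomm : (algebraMap K F).comp (algebraMap R K) = (algebraMap V F).comp (algebraMap R V))
    {p : R} (hp : p ≠ 0) (hpV : Irreducible (algebraMap R V p)) (N : ℕ) (hN : IsUnit (N : R))
    (hroot : ∃ w : Ω, w ^ N = algebraMap R Ω p) (σ : Ω ≃ₐ[K] Ω) :
    ∃ τ : Φ ≃ₐ[F] Φ, ∀ w : Ω, w ^ N = algebraMap R Ω p → τ (algebraMap Ω Φ w) = algebraMap Ω Φ (σ w) := by
  have hinj : Function.Injective (algebraMap R Ω) := by
    rw [IsScalarTower.algebraMap_eq R K Ω]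
    exact (algebraMap K Ω).injective.comp (IsFractionRing.injective R K)
  have : FaithfulSMul R Ω := (faithfulSMul_iff_algebraMap_injective R Ω).2 hinj
  have hp0 : algebraMap R Ω p ≠ 0 := by rwa [Ne, map_eq_zero_iff _ hinj]
  have hN0 : N ≠ 0 := by
    rintro rfl
    simp at hN
  have hcR : ∀ a : R, algebraMap Ω Φ (algebraMap R Ω a) = algebraMap F Φ (algebraMap V F (algebraMap R V a)) := by
    intro a
    have h1 := congrArg (fun f => f a) hcomm
    simp only [RingHom.comp_apply] at h1
    rw [← h1, IsScalarTower.algebraMap_apply R K Ω, ← IsScalarTower.algebraMap_apply K Ω Φ,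
      ← IsScalarTower.algebraMap_apply K F Φ]
  obtain ⟨w0, hw0⟩ := hroot
  have hw00 : w0 ≠ 0 := by
    rintro rfl
    rw [zero_pow hN0] at hw0
    exact hp0 hw0.symm
  obtain ⟨r, hr⟩ := Groth.Agent.Sga7.H481.Tame.exists_root_act R K Ω hR N hN hp hw0 σ
  have hrN : algebraMap R Ω r ^ N = 1 := by
    have h1 : σ w0 ^ N = algebraMap R Ω p := by
      rw [← map_pow, hw0, IsScalarTower.algebraMap_apply R K Ω, AlgEquiv.commutes]
    rw [hr, mul_pow, hw0] at h1
    exact (mul_eq_right₀ hp0).mp h1
  obtain ⟨τ, hτ⟩ := K4.TameHom.exists_aut V F Φ hN0 hpV (algebraMap Ω Φ w0) (algebraMap Ω Φ (algebraMap R Ω r))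
    (by rw [← map_pow, hw0, hcR]) (by rw [← map_pow, hrN, map_one])
  refine ⟨τ, fun w hw => ?_⟩
  obtain ⟨c, rfl⟩ := Groth.Agent.Sga4h.WildPro.exists_eq_mul R hR N hN hp0 hw hw0
  have h2 : σ (algebraMap R Ω c) = algebraMap R Ω c := by
    rw [IsScalarTower.algebraMap_apply R K Ω, AlgEquiv.commutes]
  rw [map_mul, map_mul, map_mul, map_mul, h2, hcR c, AlgEquiv.commutes, hτ, hr, map_mul]

omit [IsDomain R] [IsFractionRing R K] [IsDiscreteValuationRing V] [IsGalois F Φ] in
/-- Roots of elements which are units of `V` lie in the discretely valued field: they are fixed. -/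
theorem fixed_of_isUnit (hV : EtCoh.IsStrictlyHenselianLocalRing V)
    (hcomm : (algebraMap K F).comp (algebraMap R K) = (algebraMap V F).comp (algebraMap R V))
    {p : R} (hpV : IsUnit (algebraMap R V p)) (N : ℕ) (hN : IsUnit (N : R))
    {w : Ω} (hw : w ^ N = algebraMap R Ω p) (τ : Φ ≃ₐ[F] Φ) :
    τ (algebraMap Ω Φ w) = algebraMap Ω Φ w := by
  obtain ⟨_, _⟩ := hV
  have hcR : ∀ a : R, algebraMap Ω Φ (algebraMap R Ω a) = algebraMap F Φ (algebraMap V F (algebraMap R V a)) := by
    intro a
    have h1 := congrArg (fun f => f a) hcomm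
    simp only [RingHom.comp_apply] at h1
    rw [← h1, IsScalarTower.algebraMap_apply R K Ω, ← IsScalarTower.algebraMap_apply K Ω Φ,
      ← IsScalarTower.algebraMap_apply K F Φ]
  have hNV : IsUnit (N : V) := by
    have := hN.map (algebraMap R V)
    rwa [map_natCast] at this
  let _ : Algebra V Φ := ((algebraMap F Φ).comp (algebraMap V F)).toAlgebra
  have : IsScalarTower V F Φ := IsScalarTower.of_algebraMap_eq fun _ => rfl
  have hinj : Function.Injective (algebraMap V Φ) :=
    (algebraMap F Φ).injective.comp (IsFractionRing.injective V F)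
  have : FaithfulSMul V Φ := (faithfulSMul_iff_algebraMap_injective V Φ).2 hinj
  have hp0 : algebraMap V Φ (algebraMap R V p) ≠ 0 := (hpV.map (algebraMap V Φ)).ne_zero
  -- a root in `V`
  obtain ⟨v, hv⟩ := exists_pow_eq V hpV hNV
  obtain ⟨c, hc⟩ := Groth.Agent.Sga4h.WildPro.exists_eq_mul V ⟨inferInstance, inferInstance⟩ N hNV
    (x := algebraMap Ω Φ w) (y := algebraMap V Φ v) hp0
    (by rw [← map_pow, hw, hcR]; rfl) (by rw [← map_pow, hv])
  rw [hc, ← map_mul]
  exact τ.commutes (algebraMap V F (c * v))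

end Aut

section Level

variable {K Ω : Type u} [Field K] [Field Ω] [Algebra K Ω] [IsGalois K Ω]

theorem exists_level (l : ℕ) (hroot : ∀ (n : ℕ) (x : Ω), ∃ z : Ω, z ^ (l ^ n) = x) (a x : Ω)
    (hx : ∀ σ : Ω ≃ₐ[K] Ω, (∀ (k : ℕ) (y : Ω), y ^ (l ^ k) = a → σ y = y) → σ x = x) :
    ∃ n : ℕ, ∀ σ : Ω ≃ₐ[K] Ω, (∀ y : Ω, y ^ (l ^ n) = a → σ y = y) → σ x = x := by
  let S : Set Ω := {y | ∃ k : ℕ, y ^ (l ^ k) = a}
  have h1 : x ∈ IntermediateField.adjoin K S := by
    rw [← InfiniteGalois.fixedField_fixingSubgroup (IntermediateField.adjoin K S),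
      IntermediateField.mem_fixedField_iff]
    intro σ hσ
    refine hx σ fun k y hy => ?_
    rw [IntermediateField.mem_fixingSubgroup_iff] at hσ
    exact hσ y (IntermediateField.subset_adjoin K S ⟨k, hy⟩)
  obtain ⟨T, hTS, hT⟩ := IntermediateField.exists_finset_of_mem_adjoin h1
  choose! k hk using fun y (hy : y ∈ (T : Set Ω)) => hTS hy
  refine ⟨T.sup k, fun σ hσ => ?_⟩
  have h2 : ∀ y ∈ (T : Set Ω), σ y = y := by
    intro y hy
    have hle : k y ≤ T.sup k := Finset.le_sup (f := k) hy
    obtain ⟨z, hz⟩ := hroot (T.sup k - k y) y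
    have hz2 : z ^ (l ^ (T.sup k)) = a := by
      have h3 : z ^ (l ^ (T.sup k - k y + k y)) = a := by
        rw [pow_add, pow_mul, hz, hk y hy]
      rwa [Nat.sub_add_cancel hle] at h3
    rw [← hz, map_pow, hσ z hz2]
  have h3 : IntermediateField.adjoin K (T : Set Ω) ≤
      IntermediateField.fixedField (Subgroup.zpowers σ) := by
    rw [IntermediateField.adjoin_le_iff]
    intro y hy
    rw [SetLike.mem_coe, IntermediateField.mem_fixedField_iff]
    intro g hg
    obtain ⟨n, rfl⟩ := Subgroup.mem_zpowers_iff.1 hg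
    have h4 : σ ∈ MulAction.stabilizer (Ω ≃ₐ[K] Ω) y := h2 y hy
    exact Subgroup.zpow_mem _ h4 n
  have h5 := h3 hT
  rw [IntermediateField.mem_fixedField_iff] at h5
  exact h5 σ (Subgroup.mem_zpowers σ)

end Level

section Indep

variable (R K Ω : Type u) [CommRing R] [IsDomain R] [IsNoetherianRing R] [HenselianLocalRing R]
  [IsSepClosed (ResidueField R)] [Field K] [Algebra R K] [IsFractionRing R K]
  [Field Ω] [Algebra K Ω] [IsSepClosure K Ω] [Algebra R Ω] [IsScalarTower R K Ω]

/-- The data attached to a prime element: a strictly henselian discrete valuation ring, its fraction field and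
a separable closure containing `Ω`. -/
theorem exists_data {p : R} (hp : Prime p) :
    ∃ (V F Φ : Type u) (_ : CommRing V) (_ : IsDomain V) (_ : IsDiscreteValuationRing V)
      (_ : HenselianLocalRing V) (_ : IsSepClosed (ResidueField V)) (_ : Field F) (_ : Algebra V F)
      (_ : IsFractionRing V F) (_ : Field Φ) (_ : Algebra F Φ) (_ : IsSepClosure F Φ)
      (_ : Algebra R V) (_ : Algebra K F) (_ : Algebra Ω Φ) (_ : Algebra K Φ)
      (_ : IsScalarTower K F Φ) (_ : IsScalarTower K Ω Φ),
      (algebraMap K F).comp (algebraMap R K) = (algebraMap V F).comp (algebraMap R V) ∧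
      Irreducible (algebraMap R V p) ∧ ∀ x : R, ¬ p ∣ x → IsUnit (algebraMap R V x) := by
  obtain ⟨V, _, _, _, _, _, φ, hφ1, hφ2, hφ3⟩ := exists_dvr_at R hp
  let F := FractionRing V
  let Φ := SeparableClosure F
  let _ : Algebra R V := φ.toAlgebra
  let ψ : K →+* F := IsFractionRing.map (A := R) (B := V) (K := K) (L := F) hφ1
  let _ : Algebra K F := ψ.toAlgebra
  let _ : Algebra K Φ := ((algebraMap F Φ).comp ψ).toAlgebra
  have hT : IsScalarTower K F Φ := IsScalarTower.of_algebraMap_eq fun _ => rfl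
  have hsep : Algebra.IsSeparable K Ω := IsSepClosure.separable
  let ω : Ω →ₐ[K] Φ := IsSepClosed.lift
  let _ : Algebra Ω Φ := (ω : Ω →+* Φ).toAlgebra
  have hT2 : IsScalarTower K Ω Φ := IsScalarTower.of_algebraMap_eq fun x => (ω.commutes x).symm
  refine ⟨V, F, Φ, inferInstance, inferInstance, inferInstance, inferInstance, inferInstance, inferInstance,
    inferInstance, inferInstance, inferInstance, inferInstance, inferInstance, inferInstance, inferInstance,
    inferInstance, inferInstance, hT, hT2, ?_, hφ2, hφ3⟩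
  ext a
  exact IsLocalization.map_eq (M := nonZeroDivisors R) (T := nonZeroDivisors V) (S := K) (Q := F)
    (nonZeroDivisors_le_comap_nonZeroDivisors_of_injective φ hφ1) a

/-- An element fixed by the automorphisms fixing all `l`-power roots of the prime element `p` and by those
fixing all `l`-power roots of a family of elements prime to `p` is fixed by the whole Galois group. -/
theorem apply_eq {l : ℕ} (hl : IsUnit (l : R)) {ι : Type*} (s : Set ι) (r : ι → R) {p : R} (hp : Prime p)
    (hs : ∀ j ∈ s, ¬ p ∣ r j) (x : Ω)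
    (h1 : ∀ σ : Ω ≃ₐ[K] Ω, (∀ (k : ℕ) (y : Ω), y ^ (l ^ k) = algebraMap R Ω p → σ y = y) → σ x = x)
    (h2 : ∀ σ : Ω ≃ₐ[K] Ω, (∀ j ∈ s, ∀ (k : ℕ) (y : Ω), y ^ (l ^ k) = algebraMap R Ω (r j) → σ y = y) →
      σ x = x) (σ : Ω ≃ₐ[K] Ω) : σ x = x := by
  obtain ⟨V, F, Φ, _, _, _, _, _, _, _, _, _, _, _, _, _, _, _, _, _, hcomm, hirr, hunit⟩ :=
    exists_data R K Ω hp
  have hR : EtCoh.IsStrictlyHenselianLocalRing R := ⟨inferInstance, inferInstance⟩
  have hV : EtCoh.IsStrictlyHenselianLocalRing V := ⟨inferInstance, inferInstance⟩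
  have hsc : IsSepClosed Ω := IsSepClosure.sep_closed K
  have hroot : ∀ (n : ℕ) (x : Ω), ∃ z : Ω, z ^ (l ^ n) = x := by
    intro n x
    have h4 : IsUnit ((l : ℕ) : Ω) := by
      have := hl.map (algebraMap R Ω)
      rwa [map_natCast] at this
    have : NeZero ((l ^ n : ℕ) : Ω) := ⟨by rw [Nat.cast_pow]; exact pow_ne_zero _ h4.ne_zero⟩
    exact IsSepClosed.exists_pow_nat_eq x (l ^ n)
  obtain ⟨n, hn⟩ := exists_level l hroot (algebraMap R Ω p) x h1
  have hu : IsUnit ((l ^ n : ℕ) : R) := by rw [Nat.cast_pow]; exact hl.pow n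
  obtain ⟨τ, hτ⟩ := exists_aut R K Ω V F Φ hR hcomm hp.ne_zero hirr (l ^ n) hu (hroot n _) σ
  let τ' : Ω ≃ₐ[K] Ω := (τ.restrictScalars K).restrictNormal Ω
  have hτ' : ∀ y : Ω, algebraMap Ω Φ (τ' y) = τ (algebraMap Ω Φ y) := fun y =>
    AlgEquiv.restrictNormal_commutes (τ.restrictScalars K) Ω y
  have h3 : τ' x = x := by
    refine h2 τ' fun j hj k y hy => ?_
    apply (algebraMap Ω Φ).injective
    rw [hτ']
    refine fixed_of_isUnit R K Ω V F Φ hV hcomm (hunit _ (hs j hj)) (l ^ k) ?_ hy τ
    rw [Nat.cast_pow]; exact hl.pow k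
  have h4 : (σ⁻¹ * τ') x = x := by
    refine hn _ fun y hy => ?_
    rw [AlgEquiv.mul_apply]
    have h5 : τ' y = σ y := by
      apply (algebraMap Ω Φ).injective
      rw [hτ', hτ y hy]
    rw [h5, ← AlgEquiv.mul_apply, inv_mul_cancel, AlgEquiv.one_apply]
  rw [AlgEquiv.mul_apply, h3] at h4
  calc σ x = σ (σ⁻¹ x) := by rw [h4]
    _ = x := by rw [← AlgEquiv.mul_apply, mul_inv_cancel, AlgEquiv.one_apply]

end Indep

end K489.NcdKum
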