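import Mathlib.LinearAlgebra.Dimension.Localization
import Mathlib.LinearAlgebra.Dimension.Constructions
import Mathlib.LinearAlgebra.FreeModule.PID
import Mathlib.NumberTheory.Padics.RingHoms

/-!
# Linear algebra of several logarithms of monodromy

`N i` endomorphisms of a finite free `ℤ_[l]`-module with sum `Nv`; if the range of `Nv` is saturated and of rank the sum
of the ranks of the ranges of the `N i`, then the `N i` are independent.
-/

set_option autoImplicit false

namespace K489.NcdLin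

variable {l : ℕ} [Fact l.Prime] {T : Type*} [AddCommGroup T] [Module ℤ_[l] T] [Module.Finite ℤ_[l] T]
  [Module.IsTorsionFree ℤ_[l] T]

omit [Module.Finite ℤ_[l] T] [Module.IsTorsionFree ℤ_[l] T] in
/-- A saturated submodule contains the elements with a nonzero multiple in it. -/
theorem mem_of_smul_mem (M : Submodule ℤ_[l] T) (hsat : ∀ z, (l : ℤ_[l]) • z ∈ M → z ∈ M) {a : ℤ_[l]} (ha : a ≠ 0)
    {z : T} (hz : a • z ∈ M) : z ∈ M := by
  have h1 : ∀ (k : ℕ) (z : T), ((l : ℤ_[l]) ^ k) • z ∈ M → z ∈ M := by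
    intro k
    induction k with
    | zero => intro z hz; rwa [pow_zero, one_smul] at hz
    | succ k ih =>
      intro z hz
      rw [pow_succ', mul_smul] at hz
      exact ih z (hsat _ hz)
  obtain ⟨k, u, hu⟩ := IsDiscreteValuationRing.eq_unit_mul_pow_irreducible ha (PadicInt.prime_p (p := l)).irreducible
  refine h1 k z ?_
  have h2 : ((l : ℤ_[l]) ^ k) • z = ((u⁻¹ : ℤ_[l]ˣ) : ℤ_[l]) • (a • z) := by
    rw [hu, smul_smul, ← mul_assoc, Units.inv_mul, one_mul]
  rw [h2]
  exact M.smul_mem _ hz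

theorem main {n : ℕ} (N : Fin n → T →ₗ[ℤ_[l]] T) (Nv : T →ₗ[ℤ_[l]] T) (hsum : ∀ z, Nv z = ∑ i, N i z)
    (hrk : Module.finrank ℤ_[l] (LinearMap.range Nv) = ∑ i, Module.finrank ℤ_[l] (LinearMap.range (N i)))
    (hsat : ∀ z, (l : ℤ_[l]) • z ∈ LinearMap.range Nv → z ∈ LinearMap.range Nv) (i : Fin n) (z : T) :
    ∃ w : T, N i w = N i z ∧ ∀ j, j ≠ i → N j w = 0 := by
  classical
  let P := ∀ i, LinearMap.range (N i)
  let S : P →ₗ[ℤ_[l]] T := ∑ i, (LinearMap.range (N i)).subtype ∘ₗ LinearMap.proj i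
  have hS : ∀ p : P, S p = ∑ i, (p i : T) := fun p => by
    simp only [S, LinearMap.sum_apply]
    rfl
  have hPfin : Module.finrank ℤ_[l] P = ∑ i, Module.finrank ℤ_[l] (LinearMap.range (N i)) :=
    Module.finrank_pi_fintype ℤ_[l]
  have hle : LinearMap.range Nv ≤ LinearMap.range S := by
    rintro _ ⟨z, rfl⟩
    refine ⟨fun i => ⟨N i z, z, rfl⟩, ?_⟩
    rw [hS, hsum]
  have h1 : Module.finrank ℤ_[l] (LinearMap.range Nv) ≤ Module.finrank ℤ_[l] (LinearMap.range S) :=
    Submodule.finrank_mono hle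
  have h2 : Module.finrank ℤ_[l] (LinearMap.range S) + Module.finrank ℤ_[l] (LinearMap.ker S) =
      Module.finrank ℤ_[l] P := by
    rw [← LinearEquiv.finrank_eq S.quotKerEquivRange]
    exact Submodule.finrank_quotient_add_finrank _
  have h3 : Module.finrank ℤ_[l] (LinearMap.ker S) = 0 := by omega
  have h4 : Module.finrank ℤ_[l] (LinearMap.range S) = Module.finrank ℤ_[l] (LinearMap.range Nv) := by omega
  have hinj : Function.Injective S := by
    rw [← LinearMap.ker_eq_bot]
    have : Subsingleton (LinearMap.ker S) := Module.finrank_zero_iff.1 h3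
    exact Submodule.subsingleton_iff_eq_bot.1 this
  have hmem : LinearMap.range S ≤ LinearMap.range Nv := by
    intro x hx
    let M' : Submodule ℤ_[l] (LinearMap.range S) := (LinearMap.range Nv).comap (LinearMap.range S).subtype
    have h5 : Module.finrank ℤ_[l] M' = Module.finrank ℤ_[l] (LinearMap.range Nv) :=
      LinearEquiv.finrank_eq (Submodule.comapSubtypeEquivOfLe hle)
    have h6 := Submodule.finrank_quotient_add_finrank M'
    have h7 : Module.finrank ℤ_[l] (LinearMap.range S ⧸ M') = 0 := by omega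
    obtain ⟨a, ha, hax⟩ := Module.finrank_eq_zero_iff.1 h7 (Submodule.Quotient.mk ⟨x, hx⟩)
    rw [← Submodule.Quotient.mk_smul, Submodule.Quotient.mk_eq_zero] at hax
    exact mem_of_smul_mem _ hsat ha hax
  obtain ⟨w, hw⟩ := hmem (show N i z ∈ LinearMap.range S from
    ⟨Pi.single i ⟨N i z, z, rfl⟩, by
      rw [hS, Finset.sum_eq_single i, Pi.single_eq_same]
      · intro j _ hj
        rw [Pi.single_eq_of_ne hj]
        rfl
      · intro h
        exact absurd (Finset.mem_univ i) h⟩)
  have h8 : (fun j => ⟨N j w, w, rfl⟩ : P) = Pi.single i ⟨N i z, z, rfl⟩ := by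
    apply hinj
    rw [hS, hS, Finset.sum_eq_single (f := fun j => ((Pi.single i ⟨N i z, z, rfl⟩ : P) j : T)) i, Pi.single_eq_same,
      ← hsum, hw]
    · intro j _ hj
      rw [Pi.single_eq_of_ne hj]
      rfl
    · intro h
      exact absurd (Finset.mem_univ i) h
  refine ⟨w, ?_, fun j hj => ?_⟩
  · have := congrArg (fun p : P => (p i : T)) h8
    simpa using this
  · have := congrArg (fun p : P => (p j : T)) h8
    simpa [Pi.single_eq_of_ne hj] using this

/-- The form used for monodromy operators. -/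
theorem exists_sum {n : ℕ} (hn : 0 < n) (N : Fin n → T →ₗ[ℤ_[l]] T) (Nv : T →ₗ[ℤ_[l]] T)
    (hsum : ∀ z, Nv z = ∑ i, N i z)
    (hrk : Module.finrank ℤ_[l] (LinearMap.range Nv) = ∑ i, Module.finrank ℤ_[l] (LinearMap.range (N i)))
    (hsat : ∀ z, (l : ℤ_[l]) • z ∈ LinearMap.range Nv → z ∈ LinearMap.range Nv) (z : T) :
    ∃ w : Fin n → T, (∀ i j, j ≠ i → N j (w i) = 0) ∧ ∑ i, w i = z := by
  choose w hw1 hw2 using fun i => main N Nv hsum hrk hsat i z
  let i0 : Fin n := ⟨0, hn⟩
  let d : T := z - ∑ i, w i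
  have hd : ∀ j, N j d = 0 := fun j => by
    change N j (z - ∑ i, w i) = 0
    rw [map_sub, map_sum, Finset.sum_eq_single j (fun i _ hi => hw2 i j (Ne.symm hi)) (fun h => absurd (Finset.mem_univ j) h),
      hw1, sub_self]
  refine ⟨fun i => w i + if i = i0 then d else 0, fun i j hj => ?_, ?_⟩
  · rw [map_add, hw2 i j hj, zero_add]
    split_ifs
    · exact hd j
    · exact map_zero _
  · rw [Finset.sum_add_distrib, Finset.sum_ite_eq' Finset.univ i0 (fun _ => d), if_pos (Finset.mem_univ _)]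
    exact add_sub_cancel _ _

end K489.NcdLin
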