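import Groth.Agent.Neron.K489.NcdDom
import Groth.Agent.Sga7.H730.Cyc

/-!
# Choice of automorphisms

* `exists_res_all`: the Galois group of the discrete valuation ring of a prime `p` realizes the action of a given
  automorphism on all `l`-power roots of `p`;
* `res_ne`: an automorphism moving an `l`-th root of a uniformizer moves the `l`-th roots of the elements whose
  valuation is prime to `l`.
-/

set_option autoImplicit false
set_option linter.unusedSectionVars false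

universe u

open IsLocalRing

namespace K489.NcdTau

open K489.NcdDom

theorem isClosed_apply {K Ω : Type*} [Field K] [Field Ω] [Algebra K Ω] [Algebra.IsAlgebraic K Ω] (x y : Ω) :
    IsClosed {τ : Ω ≃ₐ[K] Ω | τ x = y} := by
  rcases Set.eq_empty_or_nonempty {τ : Ω ≃ₐ[K] Ω | τ x = y} with h | ⟨σ, hσ⟩
  · rw [h]
    exact isClosed_empty
  have h1 : IsClosed (MulAction.stabilizer (Ω ≃ₐ[K] Ω) x : Set (Ω ≃ₐ[K] Ω)) :=
    Subgroup.isClosed_of_isOpen _ (stabilizer_isOpen_of_isIntegral x)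
  have h2 : {τ : Ω ≃ₐ[K] Ω | τ x = y} = (fun ρ => σ⁻¹ * ρ) ⁻¹' (MulAction.stabilizer (Ω ≃ₐ[K] Ω) x) := by
    ext ρ
    change ρ x = y ↔ σ⁻¹ (ρ x) = x
    have hσ' : σ x = y := hσ
    constructor
    · intro h
      rw [h, ← hσ', ← AlgEquiv.mul_apply, inv_mul_cancel, AlgEquiv.one_apply]
    · intro h
      have h3 := congrArg σ h
      rwa [← AlgEquiv.mul_apply, mul_inv_cancel, AlgEquiv.one_apply, hσ'] at h3
  rw [h2]
  exact h1.preimage (continuous_const_mul _)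

variable {R K Ω : Type u} [CommRing R] [Field K] [Algebra R K]
  [Field Ω] [Algebra K Ω] [Algebra R Ω] [IsScalarTower R K Ω] [IsGalois K Ω] (D : Dom R K Ω)

theorem exists_res_all [IsDomain R] [IsFractionRing R K] [IsSepClosed Ω]
    (hR : EtCoh.IsStrictlyHenselianLocalRing R) {p : R} (hp : p ≠ 0)
    (hpV : Irreducible (algebraMap R D.V p)) (l : ℕ) [hl : Fact l.Prime] (hu : IsUnit (l : R)) (σ : Ω ≃ₐ[K] Ω) :
    ∃ τ : D.Φ ≃ₐ[D.F] D.Φ, ∀ (a : ℕ) (w : Ω), w ^ (l ^ a) = algebraMap R Ω p → D.res τ w = σ w := by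
  let t : ℕ → Set (D.Φ ≃ₐ[D.F] D.Φ) := fun a =>
    {τ | ∀ w : Ω, w ^ (l ^ a) = algebraMap R Ω p → D.res τ w = σ w}
  have hclosed : ∀ a, IsClosed (t a) := by
    intro a
    have h1 : t a = ⋂ (w : Ω) (_ : w ^ (l ^ a) = algebraMap R Ω p),
        {τ | τ (algebraMap Ω D.Φ w) = algebraMap Ω D.Φ (σ w)} := by
      ext τ
      simp only [t, Set.mem_iInter, Set.mem_ofPred_eq]
      refine forall_congr' fun w => imp_congr_right fun _ => ?_
      rw [← D.res_apply, (algebraMap Ω D.Φ).injective.eq_iff]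
    rw [h1]
    exact isClosed_iInter fun w => isClosed_iInter fun _ => isClosed_apply _ _
  have hroot : ∀ (a : ℕ) (x : Ω), ∃ z : Ω, z ^ (l ^ a) = x := fun a x => by
    have hne : NeZero ((l ^ a : ℕ) : Ω) := by
      constructor
      have h1 : IsUnit ((l : ℕ) : Ω) := by
        have := hu.map (algebraMap R Ω)
        rwa [map_natCast] at this
      rw [Nat.cast_pow]
      exact pow_ne_zero _ h1.ne_zero
    exact IsSepClosed.exists_pow_nat_eq x (l ^ a)
  have hdec : ∀ a, t (a + 1) ⊆ t a := by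
    intro a τ hτ w hw
    obtain ⟨w', hw'⟩ := hroot 1 w
    rw [pow_one] at hw'
    have h1 := hτ w' (by rw [pow_succ', pow_mul, hw', hw])
    rw [← hw', map_pow, map_pow, h1]
  have hne : ∀ a, (t a).Nonempty := fun a =>
    D.exists_res hR hp hpV (l ^ a) (by rw [Nat.cast_pow]; exact hu.pow a) (hroot a _) σ
  obtain ⟨τ, hτ⟩ := IsCompact.nonempty_iInter_of_sequence_nonempty_isCompact_isClosed t hdec hne
    (hclosed 0).isCompact hclosed
  rw [Set.mem_iInter] at hτ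
  exact ⟨τ, hτ⟩

theorem res_ne [IsFractionRing R K] (l : ℕ) [hl : Fact l.Prime] (hu : IsUnit (l : D.V)) {ϖ : D.V}
    (hϖ : Irreducible ϖ) {τ : D.Φ ≃ₐ[D.F] D.Φ} {c : D.Φ}
    (hc : c ^ l = algebraMap D.F D.Φ (algebraMap D.V D.F ϖ)) (hτ : τ c ≠ c) {p : R} {u : D.Vˣ} {m : ℕ}
    (hm : algebraMap R D.V p = u * ϖ ^ m) (hlm : ¬ l ∣ m) {w : Ω} (hw : w ^ l = algebraMap R Ω p) :
    D.res τ w ≠ w := by
  intro hfix
  let _ : Algebra D.V D.Φ := ((algebraMap D.F D.Φ).comp (algebraMap D.V D.F)).toAlgebra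
  have htow : IsScalarTower D.V D.F D.Φ := IsScalarTower.of_algebraMap_eq fun _ => rfl
  have hinj : Function.Injective (algebraMap D.V D.Φ) := fun a b h =>
    IsFractionRing.injective D.V D.F ((algebraMap D.F D.Φ).injective h)
  have : FaithfulSMul D.V D.Φ := (faithfulSMul_iff_algebraMap_injective D.V D.Φ).2 hinj
  have hτV : ∀ a : D.V, τ (algebraMap D.V D.Φ a) = algebraMap D.V D.Φ a := fun a => τ.commutes _
  have hcV : c ^ l = algebraMap D.V D.Φ ϖ := hc
  have hϖ0 : algebraMap D.V D.Φ ϖ ≠ 0 := by rw [Ne, map_eq_zero_iff _ hinj]; exact hϖ.ne_zero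
  let W := algebraMap Ω D.Φ w
  have hWτ : τ W = W := by rw [← D.res_apply, hfix]
  have hW : W ^ l = algebraMap D.V D.Φ (u * ϖ ^ m) := by
    rw [← map_pow, hw, ← hm, IsScalarTower.algebraMap_apply R K Ω]
    exact D.commR p
  obtain ⟨v, hv⟩ := K489.NcdKum.exists_pow_eq D.V u.isUnit hu
  have hv0 : algebraMap D.V D.Φ v ≠ 0 := by
    rw [Ne, map_eq_zero_iff _ hinj]
    rintro rfl
    rw [zero_pow hl.out.ne_zero] at hv
    exact u.ne_zero hv.symm
  -- `W' = W / v` has `W' ^ l = ϖ ^ m`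
  let W' := W / algebraMap D.V D.Φ v
  have hW' : W' ^ l = algebraMap D.V D.Φ ϖ ^ m := by
    rw [div_pow, hW, ← map_pow, hv, map_mul, map_pow, mul_div_cancel_left₀]
    rw [← hv, map_pow]
    exact pow_ne_zero _ hv0
  have hW'τ : τ W' = W' := by rw [map_div₀, hWτ, hτV]
  have hcop : IsCoprime (m : ℤ) (l : ℤ) :=
    Nat.isCoprime_iff_coprime.2 ((Nat.Prime.coprime_iff_not_dvd hl.out).2 hlm).symm
  obtain ⟨a, b, hab⟩ := hcop
  let c' := W' ^ a * (algebraMap D.V D.Φ ϖ) ^ b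
  have hW'0 : W' ≠ 0 := by
    intro h0
    rw [h0, zero_pow hl.out.ne_zero] at hW'
    exact pow_ne_zero _ hϖ0 hW'.symm
  have hc' : c' ^ l = algebraMap D.V D.Φ ϖ := by
    have h1 : (W' ^ a) ^ l = algebraMap D.V D.Φ ϖ ^ (a * m) := by
      rw [← zpow_natCast, ← zpow_mul, mul_comm, zpow_mul, zpow_natCast, hW', ← zpow_natCast, ← zpow_mul, mul_comm]
    rw [mul_pow, h1, ← zpow_natCast, ← zpow_mul, ← zpow_add₀ hϖ0, hab, zpow_one]
  have hc'τ : τ c' = c' := by
    rw [map_mul, map_zpow₀, map_zpow₀, hW'τ, hτV]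
  obtain ⟨z, hz⟩ := Groth.Agent.Sga4h.WildPro.exists_eq_mul D.V D.isStrict l hu hϖ0 hcV hc'
  apply hτ
  rw [hz, map_mul, hτV, hc'τ]

end K489.NcdTau
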