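import Groth.Agent.Neron.K489.NcdSat
import Groth.Agent.Neron.K489.NcdTau

/-!
# Weakly toric additive semiabelian schemes are `l`-toric additive for almost all `l`: the argument for one `l`
-/

set_option autoImplicit false
set_option linter.unusedSectionVars false
universe u

open CategoryTheory CategoryTheory.Limits AlgebraicGeometry MonObj
open MonoidalCategory CartesianMonoidalCategory
open AbDual
open K125.Pts K125.Tors K125.Tate K125.Gal K489.NcdCmp K489.NcdSat K489.NcdDom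

noncomputable section

namespace K489.NcdMain

theorem co_sum {S : Scheme.{u}} {A : Over S} [GrpObj A] [IsCommMonObj A] {l : ℕ} {T : Over S} {J : Type*}
    (s : Finset J) (f : J → TateMod A l T) (k : ℕ) : co (∑ i ∈ s, f i) k = ∏ i ∈ s, co (f i) k := by
  classical
  induction s using Finset.induction_on with
  | empty => rw [Finset.sum_empty, Finset.prod_empty, co_zero]
  | insert a s ha ih => rw [Finset.sum_insert ha, Finset.prod_insert ha, co_add, ih]

theorem isProper_of_isUnit {R V : Type u} [CommRing R] [CommRing V] (N : Over (Spec (CommRingCat.of R))) (a : R)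
    (b : R →+* V) (ha : IsUnit (b a)) (hprop : IsProper (pullback.snd N.hom
      (Spec.map (CommRingCat.ofHom (algebraMap R (Localization.Away a)))))) :
    IsProper (Red.bc (Spec.map (CommRingCat.ofHom b)) N).hom := by
  let g : Localization.Away a →+* V := IsLocalization.Away.lift a ha
  have hg : g.comp (algebraMap R (Localization.Away a)) = b := IsLocalization.Away.lift_comp a ha
  have h1 : Spec.map (CommRingCat.ofHom b) = Spec.map (CommRingCat.ofHom g) ≫
      Spec.map (CommRingCat.ofHom (algebraMap R (Localization.Away a))) := by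
    rw [← Spec.map_comp, ← CommRingCat.ofHom_comp, hg]
  change IsProper (pullback.snd N.hom (Spec.map (CommRingCat.ofHom b)))
  rw [h1]
  have h2 := pullbackLeftPullbackSndIso_inv_snd_snd N.hom
    (Spec.map (CommRingCat.ofHom (algebraMap R (Localization.Away a)))) (Spec.map (CommRingCat.ofHom g))
  rw [← h2]
  infer_instance

section

variable {R K Ω : Type u} [CommRing R] [IsDomain R] [IsNoetherianRing R] [UniqueFactorizationMonoid R]
  [HenselianLocalRing R] [IsSepClosed (IsLocalRing.ResidueField R)] [Field K] [Algebra R K] [IsFractionRing R K]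
  [Field Ω] [Algebra K Ω] [Algebra R Ω] [IsScalarTower R K Ω] [IsSepClosure K Ω] [IsGalois K Ω] [IsSepClosed Ω]
  {n : ℕ} (r : Fin n → R) (hrp : ∀ i, Prime (r i))
  (N : Over (Spec (CommRingCat.of R))) [GrpObj N] [IsCommMonObj N] [Smooth N.hom] [IsSeparated N.hom]
  [QuasiCompact N.hom]
  (hprop : IsProper (pullback.snd N.hom (Spec.map (CommRingCat.ofHom (algebraMap R (Localization.Away (∏ i, r i)))))))
  (l : ℕ) [hl : Fact l.Prime] (hlu : IsUnit (l : R)) (h2 : L2 R K Ω N l)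
  (D : Fin n → Dom R K Ω) (hD : ∀ i, Irreducible (algebraMap R (D i).V (r i)))
  (hD' : ∀ i x, ¬ r i ∣ x → IsUnit (algebraMap R (D i).V x))

include hprop in
/-- Good reduction at the primes not dividing the `r i`. -/
theorem exists_good {p : R} (hp : Prime p) (hpr : ∀ i, ¬ p ∣ r i) :
    ∃ E : Dom R K Ω, Irreducible (algebraMap R E.V p) ∧ (∀ x : R, ¬ p ∣ x → IsUnit (algebraMap R E.V x)) ∧
      ∀ (m : ℕ) (_ : IsUnit (m : R)) (x : PΩ R K Ω N) (_ : x ^ m = 1) (τ : E.Φ ≃ₐ[E.F] E.Φ),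
        act N (E.res τ) x = x := by
  obtain ⟨E, hE1, hE2⟩ := Dom.exists_of_prime R K Ω hp
  refine ⟨E, hE1, hE2, fun m hm x hx τ => ?_⟩
  have h1 : IsUnit (algebraMap R E.V (∏ i, r i)) := hE2 _ fun h => by
    obtain ⟨i, -, hi⟩ := (Prime.dvd_finsetProd_iff hp r).1 h
    exact hpr i hi
  refine act_eq_of_proper N E (isProper_of_isUnit N _ _ h1 hprop) ?_ x hx τ
  have := hm.map (algebraMap R E.V)
  rwa [map_natCast] at this

include hrp hprop hlu h2 hD hD' in
/-- Points unramified at the `r j`, `j ∉ I`, are fixed by the automorphisms fixing the roots of the `r i`,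
`i ∈ I`. -/
theorem act_eq_of_roots (I : Set (Fin n)) {k : ℕ} (x : PΩ R K Ω N) (hx : x ^ (l ^ k) = 1)
    (hI : ∀ j, j ∉ I → ∀ τ : (D j).Φ ≃ₐ[(D j).F] (D j).Φ, act N ((D j).res τ) x = x) (g : Ω ≃ₐ[K] Ω)
    (hg : ∀ i ∈ I, ∀ w : Ω, w ^ (l ^ k) = algebraMap R Ω (r i) → g w = w) : act N g x = x := by
  have hN : IsUnit ((l ^ k : ℕ) : R) := by
    rw [Nat.cast_pow]
    exact hlu.pow k
  rw [← chi_eq_one_iff N h2 x hx]
  refine K489.NcdKT.eq_one (chi N h2 x hx) (by rw [ker_chi]; exact isOpen_stab N x) hN (chi_pow N h2 x hx)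
    (fun i : I => r i) (fun i => hrp i) (fun p hp hpr => ?_) g (fun i w hw => hg i i.2 w hw)
  by_cases h : ∃ j, p ∣ r j
  · obtain ⟨j, hj⟩ := h
    have hjI : j ∉ I := fun hjI => hpr ⟨j, hjI⟩ hj
    have hass : Associated p (r j) := hp.associated_of_dvd (hrp j) hj
    refine ⟨D j, ((hass.map (algebraMap R (D j).V)).irreducible_iff).2 (hD j), fun x hx => hD' j x fun h => hx (hj.trans h),
      fun τ => ?_⟩
    rw [chi_eq_one_iff]
    exact hI j hjI τ
  · push Not at h
    obtain ⟨E, hE1, hE2, hE3⟩ := exists_good (Ω := Ω) (K := K) r N hprop hp h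
    refine ⟨E, hE1, hE2, fun τ => ?_⟩
    rw [chi_eq_one_iff]
    exact hE3 _ hN x hx τ

/-- Products of automorphisms acting on the roots of the `r i`. -/
theorem prod_apply (hrne : ∀ i j, i ≠ j → ¬ r i ∣ r j)
    (hD' : ∀ i x, ¬ r i ∣ x → IsUnit (algebraMap R (D i).V x)) (hlu : IsUnit (l : R)) (gv : Ω ≃ₐ[K] Ω)
    (τ : ∀ j, (D j).Φ ≃ₐ[(D j).F] (D j).Φ)
    (hτ : ∀ (j : Fin n) (a : ℕ) (w : Ω), w ^ (l ^ a) = algebraMap R Ω (r j) → (D j).res (τ j) w = gv w)
    (i : Fin n) (a : ℕ) (w : Ω) (hw : w ^ (l ^ a) = algebraMap R Ω (r i)) (L : List (Fin n)) (hL : L.Nodup) :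
    (L.map (fun j => (D j).res (τ j))).prod w = if i ∈ L then gv w else w := by
  have hN : IsUnit ((l ^ a : ℕ) : R) := by
    rw [Nat.cast_pow]
    exact hlu.pow a
  have hgw : (gv w) ^ (l ^ a) = algebraMap R Ω (r i) := by
    rw [← map_pow, hw, IsScalarTower.algebraMap_apply R K Ω, AlgEquiv.commutes]
  induction L with
  | nil => simp
  | cons j L ih =>
    rw [List.nodup_cons] at hL
    rw [List.map_cons, List.prod_cons, AlgEquiv.mul_apply, ih hL.2]
    by_cases hji : i = j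
    · subst hji
      rw [if_neg hL.1, if_pos List.mem_cons_self]
      exact hτ i a w hw
    · have hfix : ∀ w' : Ω, w' ^ (l ^ a) = algebraMap R Ω (r i) → (D j).res (τ j) w' = w' := fun w' hw' =>
        (D j).res_eq_of_isUnit (hD' j (r i) (hrne j i (Ne.symm hji))) (l ^ a) hN hw' (τ j)
      have hmem : (i ∈ j :: L) ↔ i ∈ L := by
        rw [List.mem_cons]
        exact ⟨fun h => h.resolve_left hji, Or.inr⟩
      by_cases hiL : i ∈ L
      · rw [if_pos hiL, if_pos (hmem.2 hiL), hfix _ hgw]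
      · rw [if_neg hiL, if_neg (fun h => hiL (hmem.1 h)), hfix _ hw]

/-- the logarithm of an automorphism -/
def logT (σ : Ω ≃ₐ[K] Ω) : TT R K Ω N l →ₗ[ℤ_[l]] TT R K Ω N l := gal (algebraMap R K) N l σ - LinearMap.id

lemma logT_apply (σ : Ω ≃ₐ[K] Ω) (z : TT R K Ω N l) : logT N l σ z = gal (algebraMap R K) N l σ z - z := rfl

lemma logT_eq_zero (σ : Ω ≃ₐ[K] Ω) (z : TT R K Ω N l) : logT N l σ z = 0 ↔ gal (algebraMap R K) N l σ z = z :=
  sub_eq_zero

lemma co_logT (h2 : L2 R K Ω N l) (σ : Ω ≃ₐ[K] Ω) (z : TT R K Ω N l) (k : ℕ) :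
    co (logT N l σ z) k = chi N h2 (co z k) (co_pow z k) σ := by
  rw [logT_apply, co_sub, co_gal', chi_apply]

include hrp hprop hlu h2 hD hD' in
theorem logT_sum (hrne : ∀ i j, i ≠ j → ¬ r i ∣ r j) (gv : Ω ≃ₐ[K] Ω)
    (τ : ∀ j, (D j).Φ ≃ₐ[(D j).F] (D j).Φ)
    (hτ : ∀ (j : Fin n) (a : ℕ) (w : Ω), w ^ (l ^ a) = algebraMap R Ω (r j) → (D j).res (τ j) w = gv w)
    (z : TT R K Ω N l) : logT N l gv z = ∑ j, logT N l ((D j).res (τ j)) z := by
  refine co_ext fun k => ?_
  rw [co_logT N l h2, co_sum]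
  have h3 : ∀ j, co (logT N l ((D j).res (τ j)) z) k = chi N h2 (co z k) (co_pow z k) ((D j).res (τ j)) := fun j =>
    co_logT N l h2 _ z k
  rw [Finset.prod_congr rfl (fun j _ => h3 j)]
  let h := ((List.finRange n).map (fun j => (D j).res (τ j))).prod
  have h4 : chi N h2 (co z k) (co_pow z k) h = ∏ j, chi N h2 (co z k) (co_pow z k) ((D j).res (τ j)) := by
    rw [map_list_prod, List.map_map, Fin.prod_univ_def]
    rfl
  rw [← h4, ← mul_inv_eq_one, ← map_inv, ← map_mul, chi_eq_one_iff]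
  refine act_eq_of_roots r hrp N hprop l hlu h2 D hD hD' Set.univ (co z k) (co_pow z k)
    (fun j hj => absurd (Set.mem_univ j) hj) _ (fun i _ w hw => ?_)
  have h5 : ∀ w : Ω, w ^ (l ^ k) = algebraMap R Ω (r i) → h w = gv w := fun w hw => by
    have h6 := prod_apply r l D hrne hD' hlu gv τ hτ i k w hw (List.finRange n) (List.nodup_finRange n)
    rw [if_pos (List.mem_finRange i)] at h6
    exact h6
  have h7 : (h⁻¹ w) ^ (l ^ k) = algebraMap R Ω (r i) := by
    rw [← map_pow, hw, IsScalarTower.algebraMap_apply R K Ω, AlgEquiv.commutes]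
  rw [AlgEquiv.mul_apply, ← h5 _ h7, ← AlgEquiv.mul_apply, mul_inv_cancel, AlgEquiv.one_apply]

include hrp hprop hlu h2 hD hD' in
theorem main (hn : 0 < n) (hrne : ∀ i j, i ≠ j → ¬ r i ∣ r j)
    (hsab : SGA7.FibresUnipotentRankZero N)
    (hp : IsProper (pullback.snd N.hom (Spec.map (CommRingCat.ofHom (algebraMap R K)))))
    (hgi : GeometricallyIntegral (pullback.snd N.hom (Spec.map (CommRingCat.ofHom (algebraMap R K)))))
    (Dv : Dom R K Ω)
    (hconn : ConnectedSpace ↥(pullback N.hom (Spec.map (CommRingCat.ofHom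
      ((IsLocalRing.residue Dv.V).comp (algebraMap R Dv.V))))))
    {ϖ : Dv.V} (hϖ : Irreducible ϖ) (u : Fin n → Dv.Vˣ) (m : Fin n → ℕ)
    (hm : ∀ i, algebraMap R Dv.V (r i) = u i * ϖ ^ m i) (hlm : ∀ i, ¬ l ∣ m i) {d : ℕ}
    (hd : ∀ x : pt ((algebraMap Dv.V Dv.F).comp (algebraMap R Dv.V)) ⟶ N,
      ∃ w : pt (algebraMap R Dv.V) ⟶ N, pmH N (algebraMap Dv.V Dv.F) rfl w = x ^ d) (hld : ¬ l ∣ d)
    [Module.Finite ℤ_[l] (TT R K Ω N l)] (rk : Fin n → ℕ)
    (hrk : ∀ i, Module.finrank ℤ_[l] (TateMod N l (pt (algebraMap R (D i).V))) + rk i =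
      Module.finrank ℤ_[l] (TT R K Ω N l))
    (hrkv : Module.finrank ℤ_[l] (TateMod N l (pt (algebraMap R Dv.V))) + ∑ i, rk i =
      Module.finrank ℤ_[l] (TT R K Ω N l)) (z : TT R K Ω N l) :
    ∃ w : Fin n → TT R K Ω N l, (∀ (i : Fin n) (σ : Ω ≃ₐ[K] Ω),
      (∀ (k : ℕ) (y : Ω), y ^ (l ^ k) = algebraMap K Ω (algebraMap R K (r i)) → σ y = y) →
        gal (algebraMap R K) N l σ (w i) = w i) ∧ ∑ i, w i = z := by
  have hR : EtCoh.IsStrictlyHenselianLocalRing R := ⟨inferInstance, inferInstance⟩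
  have hluV : ∀ E : Dom R K Ω, IsUnit (l : E.V) := fun E => by
    have := hlu.map (algebraMap R E.V)
    rwa [map_natCast] at this
  -- the automorphism over `Dv`
  obtain ⟨τv, c, hc, hτv⟩ : ∃ (τ : Dv.Φ ≃ₐ[Dv.F] Dv.Φ) (c : Dv.Φ),
      c ^ l = algebraMap Dv.F Dv.Φ (algebraMap Dv.V Dv.F ϖ) ∧ τ c ≠ c := by
    let _ : Algebra Dv.V Dv.Φ := ((algebraMap Dv.F Dv.Φ).comp (algebraMap Dv.V Dv.F)).toAlgebra
    have : IsScalarTower Dv.V Dv.F Dv.Φ := IsScalarTower.of_algebraMap_eq fun _ => rfl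
    obtain ⟨τ, c, hc, hτ⟩ := Groth.Agent.Sga7.H730.Cyc.exists_moved Dv.V Dv.F Dv.Φ l (hluV Dv) hϖ
    exact ⟨τ, c, hc, hτ⟩
  -- the automorphisms over the `D j`
  choose τ hτ using fun j => K489.NcdTau.exists_res_all (D j) hR (hrp j).ne_zero (hD j) l hlu (Dv.res τv)
  have hmove : ∀ j, ∃ y : (D j).Φ, y ^ l = algebraMap (D j).F (D j).Φ (algebraMap (D j).V (D j).F
      (algebraMap R (D j).V (r j))) ∧ τ j y ≠ y := by
    intro j
    obtain ⟨w, hw⟩ : ∃ w : Ω, w ^ l = algebraMap R Ω (r j) := by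
      have hne : NeZero (l : Ω) := by
        constructor
        have h1 : IsUnit ((l : ℕ) : Ω) := by
          have := hlu.map (algebraMap R Ω)
          rwa [map_natCast] at this
        exact h1.ne_zero
      exact IsSepClosed.exists_pow_nat_eq _ l
    refine ⟨algebraMap Ω (D j).Φ w, ?_, ?_⟩
    · rw [← map_pow, hw, IsScalarTower.algebraMap_apply R K Ω]
      exact (D j).commR (r j)
    · rw [← Dom.res_apply, (algebraMap Ω (D j).Φ).injective.ne_iff, hτ j 1 w (by rw [pow_one, hw])]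
      exact K489.NcdTau.res_ne Dv l (hluV Dv) hϖ hc hτv (hm j) (hlm j) hw
  choose y hy hyne using hmove
  -- kernels
  have hker : ∀ j, LinearMap.ker (logT N l ((D j).res (τ j))) = fixT N l (D j) := fun j => by
    ext x
    rw [LinearMap.mem_ker, logT_eq_zero]
    exact ⟨mem_fixT_of_tau N l (D j) h2 (hluV _) (hD j) (hy j) (hyne j) x, fun h => h _⟩
  have hkerv : LinearMap.ker (logT N l (Dv.res τv)) = fixT N l Dv := by
    ext x
    rw [LinearMap.mem_ker, logT_eq_zero]
    exact ⟨mem_fixT_of_tau N l Dv h2 (hluV _) hϖ hc hτv x, fun h => h _⟩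
  have hrange : ∀ f : TT R K Ω N l →ₗ[ℤ_[l]] TT R K Ω N l, Module.finrank ℤ_[l] (LinearMap.range f) +
      Module.finrank ℤ_[l] (LinearMap.ker f) = Module.finrank ℤ_[l] (TT R K Ω N l) := fun f => by
    rw [← LinearEquiv.finrank_eq f.quotKerEquivRange]
    exact Submodule.finrank_quotient_add_finrank _
  have hrj : ∀ j, Module.finrank ℤ_[l] (LinearMap.range (logT N l ((D j).res (τ j)))) = rk j := fun j => by
    have h3 := hrange (logT N l ((D j).res (τ j)))
    rw [hker, finrank_fixT N l (D j) hsab hp hgi (hluV _)] at h3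
    have h4 := hrk j
    omega
  have hrv : Module.finrank ℤ_[l] (LinearMap.range (logT N l (Dv.res τv))) = ∑ i, rk i := by
    have h3 := hrange (logT N l (Dv.res τv))
    rw [hkerv, finrank_fixT N l Dv hsab hp hgi (hluV _)] at h3
    omega
  obtain ⟨w, hw1, hw2⟩ := K489.NcdLin.exists_sum hn (fun j => logT N l ((D j).res (τ j)))
    (logT N l (Dv.res τv)) (logT_sum r hrp N hprop l hlu h2 D hD hD' hrne (Dv.res τv) τ hτ)
    (by rw [hrv, Finset.sum_congr rfl (fun j _ => hrj j)]) (by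
      rintro x ⟨x', hx'⟩
      exact saturated N l Dv hconn h2 (hluV _) hϖ hc hτv hd hld x x' hx') z
  refine ⟨w, fun i σ hσ => co_ext fun k => ?_, hw2⟩
  rw [co_gal']
  refine act_eq_of_roots r hrp N hprop l hlu h2 D hD hD' {i} (co (w i) k) (co_pow _ k) (fun j hj => ?_) σ
    (fun i' hi' y hy => ?_)
  · have h3 : w i ∈ fixT N l (D j) := by
      rw [← hker]
      exact hw1 i j hj
    exact (mem_fixT' N l (D j) (w i)).1 h3 k
  · rw [Set.mem_singleton_iff] at hi'
    subst hi'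
    exact hσ k y (by rw [hy, IsScalarTower.algebraMap_apply R K Ω])

end

end K489.NcdMain
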