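import Groth.Agent.Neron.K489.NcdCmp
import Groth.Agent.Neron.K489.NcdLin
import Groth.Agent.Neron.K489.NcdPts

/-!
# Tate modules over a domain and over strictly henselian discrete valuation rings above it

* `fixT D`: the vectors of the Tate module fixed by `Gal(Φ/F)`; `finrank_fixT`: its rank is the rank of `T_l N(V)`;
* `mem_fixT_of_tau`: one automorphism suffices;
* `saturated`: the range of `τ - 1` is saturated.
-/

set_option autoImplicit false
set_option linter.unusedSectionVars false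
universe u

open CategoryTheory CategoryTheory.Limits AlgebraicGeometry MonObj
open MonoidalCategory CartesianMonoidalCategory
open AbDual
open K125.Pts K125.Tors K125.Tate K125.Gal K489.NcdCmp

noncomputable section

namespace K489.NcdSat

variable {R K Ω : Type u} [CommRing R] [Field K] [Algebra R K] [Field Ω] [Algebra K Ω] [IsGalois K Ω]
  (N : Over (Spec (CommRingCat.of R))) [GrpObj N] [IsCommMonObj N] [Smooth N.hom] [IsSeparated N.hom]
  [QuasiCompact N.hom] (l : ℕ) [hl : Fact l.Prime] (D : K489.NcdDom.Dom R K Ω)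

variable (R K Ω) in
/-- the Tate module of the `Ω`-points -/
abbrev TT (N : Over (Spec (CommRingCat.of R))) [GrpObj N] [IsCommMonObj N] (l : ℕ) :=
  TateMod N l (pt (str (algebraMap R K) Ω))

lemma co_gal' (σ : Ω ≃ₐ[K] Ω) (z : TT R K Ω N l) (k : ℕ) :
    co (gal (algebraMap R K) N l σ z) k = act N σ (co z k) := rfl

/-- fixed vectors -/
def fixT : Submodule ℤ_[l] (TT R K Ω N l) where
  carrier := {z | ∀ τ : D.Φ ≃ₐ[D.F] D.Φ, gal (algebraMap R K) N l (D.res τ) z = z}
  add_mem' {a b} ha hb τ := by rw [map_add, ha, hb]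
  zero_mem' τ := map_zero _
  smul_mem' c x hx τ := by rw [map_smul, hx]

lemma mem_fixT (z : TT R K Ω N l) :
    z ∈ fixT N l D ↔ ∀ τ : D.Φ ≃ₐ[D.F] D.Φ, gal (algebraMap R K) N l (D.res τ) z = z := Iff.rfl

lemma mem_fixT' (z : TT R K Ω N l) :
    z ∈ fixT N l D ↔ ∀ (k : ℕ) (τ : D.Φ ≃ₐ[D.F] D.Φ), act N (D.res τ) (co z k) = co z k := by
  rw [mem_fixT]
  constructor
  · intro h k τ
    rw [← co_gal', h]
  · intro h τ
    exact co_ext fun k => by rw [co_gal', h]

/-- one automorphism suffices -/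
theorem mem_fixT_of_tau (h2 : L2 R K Ω N l) (hu : IsUnit (l : D.V)) {ϖ : D.V} (hϖ : Irreducible ϖ)
    {τ : D.Φ ≃ₐ[D.F] D.Φ} {y : D.Φ}
    (hy : y ^ l = algebraMap D.F D.Φ (algebraMap D.V D.F ϖ)) (hτ : τ y ≠ y) (z : TT R K Ω N l)
    (hz : gal (algebraMap R K) N l (D.res τ) z = z) : z ∈ fixT N l D := by
  rw [mem_fixT']
  intro k τ'
  refine act_eq_of_tau N D h2 hu hϖ hy hτ (co z k) (co_pow z k) ?_ τ'
  rw [← co_gal', hz]

theorem natCast_Φ_ne_zero (hu : IsUnit (l : D.V)) : (l : D.Φ) ≠ 0 := by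
  have := hu.map ((algebraMap D.F D.Φ).comp (algebraMap D.V D.F))
  rw [map_natCast] at this
  exact this.ne_zero

/-- the restriction to `Φ` of the Tate module -/
def upT [IsSepClosed Ω] (hu : IsUnit (l : D.V)) : TT R K Ω N l ≃ₗ[ℤ_[l]] TateMod N l (pt (strΦ D)) :=
  LinearEquiv.ofBijective (tH N l (algebraMap Ω D.Φ) (strΦ_comm D))
    (tH_bijective N l (K125.KumBC.isStrictlyHenselian_of_isSepClosed Ω) (algebraMap Ω D.Φ) (strΦ_comm D)
      (natCast_Φ_ne_zero l D hu))

lemma co_upT [IsSepClosed Ω] (hu : IsUnit (l : D.V)) (z : TT R K Ω N l) (k : ℕ) :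
    co (upT N l D hu z) k = up N D (co z k) := rfl

/-- from `V` -/
def ofVT : TateMod N l (pt (algebraMap R D.V)) →ₗ[ℤ_[l]] TateMod N l (pt (strΦ D)) :=
  tH N l ((algebraMap D.F D.Φ).comp (algebraMap D.V D.F)) (by rw [RingHom.comp_assoc])

lemma co_ofVT (z : TateMod N l (pt (algebraMap R D.V))) (k : ℕ) : co (ofVT N l D z) k = ofV N D (co z k) := rfl

lemma ofVT_injective : Function.Injective (ofVT N l D) := fun x y hxy => co_ext fun k =>
  ofV_injective N D (by rw [← co_ofVT, ← co_ofVT, hxy])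

section Main

variable [IsSepClosed Ω] (hsab : SGA7.FibresUnipotentRankZero N)
  (hp : IsProper (pullback.snd N.hom (Spec.map (CommRingCat.ofHom (algebraMap R K)))))
  (hgi : GeometricallyIntegral (pullback.snd N.hom (Spec.map (CommRingCat.ofHom (algebraMap R K)))))

include hsab hp hgi in
theorem range_ofVT (hu : IsUnit (l : D.V)) :
    LinearMap.range (ofVT N l D) = (fixT N l D).map (upT N l D hu).toLinearMap := by
  ext z
  constructor
  · rintro ⟨w, rfl⟩
    obtain ⟨x, hx⟩ := (upT N l D hu).surjective (ofVT N l D w)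
    refine ⟨x, ?_, hx⟩
    rw [SetLike.mem_coe, mem_fixT']
    intro k τ
    rw [act_iff, ← co_upT N l D hu, hx, co_ofVT]
    exact actΦ_ofV N D τ _
  · rintro ⟨x, hx, rfl⟩
    rw [SetLike.mem_coe, mem_fixT'] at hx
    choose y hy using fun k => exists_ofF N D (co x k) (hx k)
    have hinj : Function.Injective (pmH N (algebraMap D.F D.Φ)
        (b := (algebraMap D.V D.F).comp (algebraMap R D.V)) rfl) :=
      pmH_injective N (algebraMap D.F D.Φ) (algebraMap D.F D.Φ).injective rfl
    obtain ⟨w, hw⟩ := K489.NcdNer.exists_tate N (algebraMap R K) (algebraMap R D.V) (algebraMap K D.F) D.comm hsab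
      hp hgi l (mkT y (fun k => hinj (by rw [map_pow, hy, ← map_pow, co_pow, map_one, map_one]))
        (fun k => hinj (by rw [map_pow, hy, hy, ← map_pow, co_succ])))
    refine ⟨w, co_ext fun k => ?_⟩
    have h1 := congrArg (fun q => co q k) hw
    rw [co_mkT, co_tH] at h1
    rw [co_ofVT, ofV_eq, h1, hy]
    rfl

include hsab hp hgi in
/-- the rank of the fixed vectors -/
theorem finrank_fixT (hu : IsUnit (l : D.V)) :
    Module.finrank ℤ_[l] (fixT N l D) = Module.finrank ℤ_[l] (TateMod N l (pt (algebraMap R D.V))) := by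
  rw [← LinearMap.finrank_range_of_inj (ofVT_injective N l D), range_ofVT N l D hsab hp hgi hu]
  exact LinearEquiv.finrank_eq ((upT N l D hu).submoduleMap (fixT N l D))

end Main

/-- the Tate module of the `V`-points and of the points in an algebraic closure of the residue field -/
theorem finrank_V (hu : IsUnit (l : D.V)) (Λ : Type u) [Field Λ] (φ : D.V →+* Λ) [IsLocalHom φ] :
    Module.finrank ℤ_[l] (TateMod N l (pt (algebraMap R D.V))) =
      Module.finrank ℤ_[l] (TateMod N l (pt (φ.comp (algebraMap R D.V)))) := by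
  have hl : (l : Λ) ≠ 0 := by
    have := hu.map φ
    rw [map_natCast] at this
    exact this.ne_zero
  exact LinearEquiv.finrank_eq (LinearEquiv.ofBijective (tH N l φ rfl) (tH_bijective N l D.isStrict φ rfl hl))

/-- The special fibre of the base change. -/
theorem connectedSpace_bc {L V : Type u} [CommRing V] [Field L] (b : R →+* V) (φ : V →+* L)
    (h : ConnectedSpace ↥(pullback N.hom (Spec.map (CommRingCat.ofHom (φ.comp b))))) :
    ConnectedSpace ↥(pullback (Red.bc (Spec.map (CommRingCat.ofHom b)) N).hom (Spec.map (CommRingCat.ofHom φ))) := by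
  have h1 : Spec.map (CommRingCat.ofHom (φ.comp b)) =
      Spec.map (CommRingCat.ofHom φ) ≫ Spec.map (CommRingCat.ofHom b) := by
    rw [CommRingCat.ofHom_comp, Spec.map_comp]
  rw [h1] at h
  let e := pullbackLeftPullbackSndIso N.hom (Spec.map (CommRingCat.ofHom b)) (Spec.map (CommRingCat.ofHom φ))
  exact e.inv.homeomorph.surjective.connectedSpace e.inv.homeomorph.continuous

section Sat

variable [IsSepClosed Ω]

/-- The range of `τ - 1` is saturated. -/
theorem saturated (hconn : ConnectedSpace ↥(pullback N.hom (Spec.map (CommRingCat.ofHom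
      ((IsLocalRing.residue D.V).comp (algebraMap R D.V))))))
    (h2 : L2 R K Ω N l) (hu : IsUnit (l : D.V)) {ϖ : D.V} (hϖ : Irreducible ϖ)
    {τ : D.Φ ≃ₐ[D.F] D.Φ} {c : D.Φ}
    (hc : c ^ l = algebraMap D.F D.Φ (algebraMap D.V D.F ϖ)) (hτ : τ c ≠ c) {d : ℕ}
    (hd : ∀ x : pt ((algebraMap D.V D.F).comp (algebraMap R D.V)) ⟶ N,
      ∃ w : pt (algebraMap R D.V) ⟶ N, pmH N (algebraMap D.V D.F) rfl w = x ^ d) (hld : ¬ l ∣ d)
    (z y : TT R K Ω N l) (h : gal (algebraMap R K) N l (D.res τ) y - y = (l : ℤ_[l]) • z) :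
    ∃ y', gal (algebraMap R K) N l (D.res τ) y' - y' = z := by
  have hV := D.isStrict
  -- the first component is fixed
  have hx : act N (D.res τ) (co y 1) = co y 1 := by
    have h1 := congrArg (fun q => co q 1) h
    rw [K510.TateMod.natCast_smul, co_nsmul, co_sub, co_gal'] at h1
    have h3 := co_pow z 1
    rw [pow_one] at h3
    rw [h3] at h1
    exact mul_inv_eq_one.1 h1
  have hx' : ∀ τ' : D.Φ ≃ₐ[D.F] D.Φ, act N (D.res τ') (co y 1) = co y 1 :=
    act_eq_of_tau N D h2 hu hϖ hc hτ (co y 1) (co_pow y 1) hx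
  obtain ⟨y₁, hy₁⟩ := exists_ofF N D (co y 1) hx'
  have hinjF : Function.Injective (pmH N (algebraMap D.F D.Φ)
      (b := (algebraMap D.V D.F).comp (algebraMap R D.V)) rfl) :=
    pmH_injective N (algebraMap D.F D.Φ) (algebraMap D.F D.Φ).injective rfl
  have hinjV : Function.Injective (pmH N (algebraMap D.V D.F) (b := algebraMap R D.V) rfl) :=
    pmH_injective N (algebraMap D.V D.F) (IsFractionRing.injective D.V D.F) rfl
  have hy₁l : y₁ ^ l = 1 := by
    apply hinjF
    have h3 := co_pow y 1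
    rw [pow_one] at h3
    rw [map_pow, hy₁, ← map_pow, h3, map_one, map_one]
  obtain ⟨w, hw⟩ := hd y₁
  -- a power of `w` restricts to `y₁`
  obtain ⟨e, he⟩ : ∃ e : ℕ, y₁ ^ (d * e) = y₁ := by
    have hcop : Nat.Coprime d l := ((Nat.Prime.coprime_iff_not_dvd hl.out).2 hld).symm
    obtain ⟨e, he⟩ := Nat.exists_mul_mod_eq_one_of_coprime hcop hl.out.one_lt
    refine ⟨e, ?_⟩
    conv_lhs => rw [← Nat.div_add_mod (d * e) l, he.2, pow_add, pow_mul, hy₁l, one_pow, _root_.one_mul, pow_one]
  have hw' : pmH N (algebraMap D.V D.F) rfl (w ^ e) = y₁ := by rw [map_pow, hw, ← pow_mul, he]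
  have hwl : (w ^ e) ^ l = 1 := hinjV (by rw [map_pow, hw', hy₁l, map_one])
  -- a Tate sequence
  have i1 : Smooth (Red.bc (Spec.map (CommRingCat.ofHom (algebraMap R D.V))) N).hom :=
    inferInstanceAs (Smooth (pullback.snd N.hom _))
  have i3 : QuasiCompact (Red.bc (Spec.map (CommRingCat.ofHom (algebraMap R D.V))) N).hom :=
    inferInstanceAs (QuasiCompact (pullback.snd N.hom _))
  have hlk : (l : IsLocalRing.ResidueField D.V) ≠ 0 := by
    have := hu.map (IsLocalRing.residue D.V)
    rw [map_natCast] at this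
    exact this.ne_zero
  obtain ⟨t, ht1, ht2, ht3⟩ := K489.NcdPts.exists_tate hV
    (Red.bc (Spec.map (CommRingCat.ofHom (algebraMap R D.V))) N)
    (connectedSpace_bc N (algebraMap R D.V) (IsLocalRing.residue D.V) hconn) l hlk 1
    ((secE N (algebraMap R D.V)).symm (w ^ e)) (by rw [pow_one, ← map_pow, hwl, map_one])
  let zV : TateMod N l (pt (algebraMap R D.V)) := mkT (fun k => secE N (algebraMap R D.V) (t k))
    (fun k => by rw [← map_pow, ht1, map_one]) (fun k => by rw [← map_pow, ht2])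
  have hzV : co zV 1 = w ^ e := by
    change secE N (algebraMap R D.V) (t 1) = _
    rw [ht3, MulEquiv.apply_symm_apply]
  obtain ⟨y₀, hy₀⟩ := (upT N l D hu).surjective (ofVT N l D zV)
  have hy₀fix : gal (algebraMap R K) N l (D.res τ) y₀ = y₀ := by
    refine co_ext fun k => ?_
    rw [co_gal', act_iff, ← co_upT N l D hu, hy₀, co_ofVT]
    exact actΦ_ofV N D τ _
  have hy₀1 : co y₀ 1 = co y 1 := by
    apply up_injective N D
    rw [← co_upT N l D hu, hy₀, co_ofVT, ofV_eq, hzV, hw', hy₁]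
  obtain ⟨y', hy'⟩ := K510.TateMod.exists_pow_smul_eq (y - y₀) 1 (by
    have h3 : co (y - y₀) 1 = 1 := by rw [co_sub, hy₀1, mul_inv_cancel]
    exact congrArg Additive.ofMul h3)
  rw [pow_one] at hy'
  refine ⟨y', ?_⟩
  have h4 : (l : ℤ_[l]) • (gal (algebraMap R K) N l (D.res τ) y' - y') = (l : ℤ_[l]) • z := by
    rw [smul_sub, ← map_smul, hy', map_sub, hy₀fix, ← h]
    abel
  have hl0 : (l : ℤ_[l]) ≠ 0 := by exact_mod_cast hl.out.ne_zero
  exact smul_right_injective _ hl0 h4

end Sat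

end K489.NcdSat
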