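import Groth.Agent.Sga7.H516.NeronNeutral
import Groth.Agent.Sga7.H783.GmSub
import Groth.Agent.Sga7.H109.Basic
import Groth.Agent.Sga7.H738.GaBc
import Groth.Agent.Sga7.H516.RankZero
import Groth.Agent.Sga7.H116.L1
import Groth.Agent.Sga7.H617.PowFib

/-!
# The neutral component of a smooth separated model of a connected group

* `exists_neutral_model`: `P'` smooth separated over a domain `R` with connected generic fibre `P`: an open subgroup,
  smooth, separated, quasi-compact, with irreducible fibres and the same generic fibre.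
* `noGa_of_mono`: subgroups of groups without `𝔾ₐ` have no `𝔾ₐ`.
* `fibreUnipotentRankZero_of_open`: unipotent rank zero passes to open subgroups.
-/

set_option autoImplicit false
universe u
open CategoryTheory CategoryTheory.Limits AlgebraicGeometry MonObj MonoidalCategory CartesianMonoidalCategory

namespace K489.NeutralModel

open Groth.Agent.Sga7.H516 Groth.Agent.Sga7.H516.NeronNeutral Groth.Agent.Sga7.H516.NeronExt Groth.Agent.Sga7.H516.Square Groth.Agent.Sga7.H516.GrpDescent
open Groth.Agent.Sga7

section

variable (R K : Type u) [CommRing R] [IsDomain R] [Field K] [Algebra R K] [IsFractionRing R K]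

theorem exists_neutral_model (P : Over (Spec (CommRingCat.of K))) [GrpObj P] [ConnectedSpace P.left]
    (N : Over (Spec (CommRingCat.of R))) [GrpObj N] [hsm : Smooth N.hom] [hsep : IsSeparated N.hom]
    (e : (SGA7.genFib R K).obj N ≅ P) [IsMonHom e.hom] :
    ∃ (G : Over (Spec (CommRingCat.of R))) (_ : GrpObj G) (i : G ⟶ N)
      (e' : (SGA7.genFib R K).obj G ≅ P),
      IsMonHom i ∧ IsOpenImmersion i.left ∧
      IsMonHom e'.hom ∧ e'.hom = (SGA7.genFib R K).map i ≫ e.hom ∧
      Smooth G.hom ∧ IsSeparated G.hom ∧ QuasiCompact G.hom ∧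
      (∀ s, IsIrreducible (G.hom ⁻¹' {s})) := by
  obtain ⟨G, iG, i, hi, hio, hir, g1, g2, g3, g4⟩ := Neutral.exists_neutral N
  have hiso : IsIso ((SGA7.genFib R K).map i) := by
    have h1 : IsPullback ((SGA7.genFib R K).map i).left (pullback.fst G.hom (sp R K))
        (pullback.fst N.hom (sp R K)) i.left := H737.FlatMonoBC.isPullback_map (sp R K) i
    have h2 : IsOpenImmersion ((SGA7.genFib R K).map i).left :=
      MorphismProperty.of_isPullback h1.flip hio
    have h3 : Surjective ((SGA7.genFib R K).map i).left := by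
      refine ⟨fun x => ?_⟩
      have h5 : pullback.fst N.hom (sp R K) x ∈ Set.range i.left := by
        rw [hir]
        have h6 := genι_mem_neutralSet K e (e.hom.left x)
        have h7 : e.hom.left ≫ e.inv.left = 𝟙 _ := congrArg (fun t => t.left) e.hom_inv_id
        rw [genι, ← Scheme.Hom.comp_apply, reassoc_of% h7] at h6
        exact h6
      obtain ⟨g, hg⟩ := h5
      obtain ⟨z, hz, -⟩ := Scheme.exists_preimage_of_isPullback h1 x g hg.symm
      exact ⟨z, hz⟩
    have h4 : IsIso ((SGA7.genFib R K).map i).left :=
      (isIso_iff_isOpenImmersion_and_surjective _).2 ⟨h2, h3⟩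
    have h8 : IsIso ((Over.forget (Spec (CommRingCat.of K))).map ((SGA7.genFib R K).map i)) := h4
    exact isIso_of_reflects_iso ((SGA7.genFib R K).map i) (Over.forget _)
  have hmi : IsMonHom ((SGA7.genFib R K).map i) := inferInstance
  let e' : (SGA7.genFib R K).obj G ≅ P :=
    asIso ((SGA7.genFib R K).map i) ≪≫ e
  have he' : IsMonHom e'.hom := inferInstanceAs (IsMonHom ((SGA7.genFib R K).map i ≫ e.hom))
  exact ⟨G, iG, i, e', hi, hio, he', rfl, g1, g2, g3, g4⟩

end

/-- Subgroups of algebraic groups without closed `𝔾ₐ` have no closed `𝔾ₐ`. -/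
theorem noGa_of_mono {K : Type u} [Field K] {G H : Over (Spec (CommRingCat.of K))} [GrpObj G] [GrpObj H]
    [LocallyOfFiniteType H.hom] (u : G ⟶ H) [IsMonHom u] [Mono u]
    (hH : ∀ j : Red.Ga (Spec (CommRingCat.of K)) ⟶ H, IsMonHom j → IsClosedImmersion j.left → False) :
    ∀ j : Red.Ga (Spec (CommRingCat.of K)) ⟶ G, IsMonHom j → IsClosedImmersion j.left → False := by
  intro j hj hc
  have hjm : Mono j := Groth.Agent.Books.AlgPtsGrp.mono_of_isClosedImmersion j
  have hsm : Smooth (Red.Ga (Spec (CommRingCat.of K))).hom := H738.GaBc.smooth_ga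
  have hqc : QuasiCompact (Red.Ga (Spec (CommRingCat.of K))).hom := inferInstance
  exact hH (j ≫ u) inferInstance (H783.GmSub.isClosedImmersion_of_mono (j ≫ u))

/-- Unipotent rank zero of a fibre passes to subgroups. -/
theorem fibreUnipotentRankZero_of_mono {S : Scheme.{u}} {G N : Over S} [GrpObj G] [GrpObj N] (u : G ⟶ N)
    [IsMonHom u] [Mono u] [LocallyOfFiniteType N.hom] (s : S) (hN : SGA7.FibreUnipotentRankZero s N) :
    SGA7.FibreUnipotentRankZero s G := by
  have h1 : Mono ((Over.pullback (Red.geomPt s)).map u) := inferInstance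
  have h2 : LocallyOfFiniteType (Red.geomFibre s N).hom :=
    inferInstanceAs (LocallyOfFiniteType (pullback.snd N.hom (Red.geomPt s)))
  exact noGa_of_mono ((Over.pullback (Red.geomPt s)).map u) hN

section dvr

variable (R K : Type u) [CommRing R] [IsDomain R] [IsDiscreteValuationRing R] [Field K] [Algebra R K]
  [IsFractionRing R K]

omit [IsDomain R] [IsDiscreteValuationRing R] in
/-- The two points of the spectrum of a discrete valuation ring. -/
theorem eq_closedPoint_or [IsDomain R] [IsDiscreteValuationRing R] (s : Spec (CommRingCat.of R)) :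
    s = IsLocalRing.closedPoint R ∨ s.asIdeal = ⊥ := by
  by_cases h : s.asIdeal = ⊥
  · exact Or.inr h
  · left
    apply PrimeSpectrum.ext
    have h1 : s.asIdeal.IsMaximal := Ring.DimensionLEOne.maximalOfPrime h s.isPrime
    exact IsLocalRing.eq_maximalIdeal h1

/-- All fibres have unipotent rank zero if the special one has and the generic fibre is proper. -/
theorem fibresUnipotentRankZero (G : Over (Spec (CommRingCat.of R))) [GrpObj G]
    (P : Over (Spec (CommRingCat.of K))) [GrpObj P] [IsProper P.hom]
    (e : (SGA7.genFib R K).obj G ≅ P) [IsMonHom e.hom]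
    (h : SGA7.FibreUnipotentRankZero (IsLocalRing.closedPoint R) G) : SGA7.FibresUnipotentRankZero G := by
  intro s
  rcases eq_closedPoint_or R s with rfl | hs
  · exact h
  · obtain ⟨z, rfl⟩ := H116.L1.exists_gen_eq R K s hs
    refine RankZero.fibreUnipotentRankZero_of_bc (sp R K) G z
      (RankZero.fibreUnipotentRankZero_of_iso _ e
        (RankZero.fibreUnipotentRankZero_of_isProper z P ?_))
    exact MorphismProperty.pullback_snd (P := @IsProper) _ _ inferInstance

/-- Commutativity of a flat separated group scheme with commutative generic fibre. -/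
theorem isCommMonObj_of_generic (G : Over (Spec (CommRingCat.of R))) [GrpObj G] [Flat G.hom] [IsSeparated G.hom]
    (P : Over (Spec (CommRingCat.of K))) [GrpObj P] [IsCommMonObj P]
    (e : (SGA7.genFib R K).obj G ≅ P) [IsMonHom e.hom] : IsCommMonObj G := by
  have hdom : IsSchemeTheoreticallyDominant (Spec.map (CommRingCat.ofHom (algebraMap R K))) := by
    exact Groth.Agent.Sga7.H116.L1.isSchemeTheoreticallyDominant_gen R K
  refine H617.PowFib.isCommMonObj_of_bc (Spec.map (CommRingCat.ofHom (algebraMap R K))) fun {Y} a b => ?_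
  rw [← cancel_mono e.hom, MonObj.mul_comp, MonObj.mul_comp, _root_.mul_comm]

end dvr

end K489.NeutralModel
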