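import Groth.Agent.S4121
import Groth.Agent.Sga3.H798.TorusClosed
import Groth.Agent.Sga3B.TorusAlgClosed
import Groth.Agent.Sga3.H784.Neutral
import Groth.Agent.Sga3B.TorusBc
import Groth.Agent.Books.AntiAffine

/-!
# Pseudo-abelian varieties contain no tori over an algebraic closure

`P` a smooth group scheme of finite type over a field `k` all of whose smooth connected affine closed subgroup
schemes are trivial.

* `hasNoSubtorus_geomFibre`: the geometric fibre of `P` has no subtorus.
-/

set_option autoImplicit false
universe u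
open CategoryTheory CategoryTheory.Limits AlgebraicGeometry MonObj MonoidalCategory CartesianMonoidalCategory

namespace K489.NoTorus

/-- A group scheme whose unit section is an isomorphism is trivial. -/
theorem isTrivialGrp_of_isIso {S : Scheme.{u}} (G : Over S) [GrpObj G] [h : IsIso η[G]] :
    Red.IsTrivialGrp G := by
  have h1 : η[G] ≫ toUnit G = 𝟙 _ := toUnit_unique _ _
  have h2 : IsIso (toUnit G) := by
    have : toUnit G = inv η[G] := by
      rw [← cancel_epi η[G], h1, IsIso.hom_inv_id]
    rw [this]
    infer_instance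
  have h3 : IsIso (toUnit G).left := inferInstanceAs (IsIso ((Over.forget S).map (toUnit G)))
  have h4 : G.hom = (toUnit G).left ≫ (𝟙_ (Over S)).hom := (Over.w (toUnit G)).symm
  change IsIso G.hom
  rw [h4]
  have h5 : IsIso (𝟙_ (Over S)).hom := inferInstanceAs (IsIso (𝟙 S))
  infer_instance

/-- A morphism from a trivial group which is an isomorphism onto its target shows that the target is trivial. -/
theorem isTrivialGrp_of_iso {S : Scheme.{u}} {G H : Over S} (f : G ⟶ H) [IsIso f] (h : Red.IsTrivialGrp G) :
    Red.IsTrivialGrp H := by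
  have h1 : IsIso G.hom := h
  have h2 : IsIso f.left := inferInstanceAs (IsIso ((Over.forget S).map f))
  have h3 : IsIso (f.left ≫ H.hom) := by rw [Over.w]; exact h1
  exact IsIso.of_isIso_comp_left f.left H.hom

/-- Morphisms from a group whose unit is an isomorphism agree when they agree on the unit. -/
theorem hom_ext_of_isIso {S : Scheme.{u}} {G H : Over S} [GrpObj G] [IsIso η[G]] (f g : G ⟶ H)
    (h : η[G] ≫ f = η[G] ≫ g) : f = g := by
  rwa [cancel_epi] at h

variable (k : Type u) [Field k]

theorem hasNoSubtorus_geomFibre (P : Over (Spec (CommRingCat.of k))) [GrpObj P] [Smooth P.hom]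
    [QuasiCompact P.hom]
    (hP : ∀ (H : Over (Spec (CommRingCat.of k))) [GrpObj H] (j : H ⟶ P) [IsMonHom j],
      IsClosedImmersion j.left → Smooth H.hom → ConnectedSpace ↥H.left → IsAffine H.left → IsIso η[H])
    (s : Spec (CommRingCat.of k)) :
    Red.HasNoSubtorus (AlgebraicClosure ((Spec (CommRingCat.of k)).residueField s)) (Red.geomFibre s P) := by
  obtain ⟨T, hT, i, hi, hmono, htor, hmax⟩ := Groth.Agent.S4121.result k P
  have hsep : IsSeparated P.hom := Groth.Agent.Books.AntiAffine.isSeparated_hom P
  have hcl : IsClosedImmersion i.left := Groth.Agent.Sga3.H798.TorusClosed.isClosedImmersion_of_torus i htor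
  have hsm : Smooth T.hom := Groth.Agent.Sga3B.TorusAlgClosed.smooth_of_isTorus htor
  have haff : IsAffineHom T.hom := Groth.Agent.Sga3B.TorusAlgClosed.isAffineHom_of_isTorus htor
  have haff' : IsAffine T.left := isAffine_of_isAffineHom T.hom
  have hconn : ConnectedSpace T.left := by
    have h1 : Red.IsTorus (Red.geomFibre s T) := Groth.Agent.Sga3B.TorusBc.isTorus_bc _ htor
    have h2 : ConnectedSpace (Red.geomFibre s T).left :=
      Groth.Agent.Sga3.H784.Neutral.connectedSpace_of_isTorus h1
    have h3 : Surjective (pullback.fst T.hom (Red.geomPt s)) := inferInstance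
    have h4 : ConnectedSpace ↥(pullback T.hom (Red.geomPt s)) := h2
    exact h3.surj.connectedSpace (pullback.fst T.hom (Red.geomPt s)).continuous
  have hη : IsIso η[T] := hP T i hcl hsm hconn haff'
  intro T' _ j _ _ hT'
  have hη' : IsIso η[Red.geomFibre s T] := by
    rw [Functor.obj.η_def]
    infer_instance
  have h1 := hmax s T' j (toUnit _ ≫ η[T']) hT' (by
    refine hom_ext_of_isIso _ _ ?_
    exact (IsMonHom.one_hom ((toUnit (Red.geomFibre s T) ≫ η[T']) ≫ j)).trans
      (IsMonHom.one_hom ((Over.pullback (Red.geomPt s)).map i)).symm)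
  exact isTrivialGrp_of_iso (toUnit _ ≫ η[T']) (isTrivialGrp_of_isIso (Red.geomFibre s T))

end K489.NoTorus
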