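import Groth.Agent.Neron.K489.Unip
import Groth.Agent.Sga3C.GrpIrr

/-!
# Unipotent groups over an arbitrary field

`V` smooth connected affine over a field `k` such that the base change to an algebraic closure has no subtorus.

* `exists_pow_eq_one`: in characteristic `p` the `p ^ N`-th power map of `V` is trivial for some `N`.
* `eq_one_of_pow_eq_one`: `T`-points of order dividing some `n` prime to `p` are trivial (characteristic `p`).
-/

set_option autoImplicit false
universe u
open CategoryTheory CategoryTheory.Limits AlgebraicGeometry MonObj MonoidalCategory CartesianMonoidalCategory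

namespace K489.UnipField

/-- A connected group scheme locally of finite type over a field stays connected after field extensions. -/
theorem irreducibleSpace_bc {k : Type u} [Field k] (L : Type u) [Field L] [Algebra k L]
    (V : Over (Spec (CommRingCat.of k))) [GrpObj V] [LocallyOfFiniteType V.hom] [ConnectedSpace V.left] :
    IrreducibleSpace (Red.bc (Spec.map (CommRingCat.ofHom (algebraMap k L))) V).left := by
  have : GrpObj (Over.mk V.hom) := inferInstanceAs (GrpObj V)
  have h1 : GeometricallyIrreducible V.hom :=
    Groth.Agent.Sga3C.GrpIrr.geometricallyIrreducible_of_connectedSpace V.hom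
  have h2 : GeometricallyIrreducible (pullback.snd V.hom (Spec.map (CommRingCat.ofHom (algebraMap k L)))) :=
    inferInstance
  have h3 : Subsingleton (Spec (CommRingCat.of L)) := inferInstanceAs (Subsingleton (PrimeSpectrum L))
  have h4 : Nonempty (Spec (CommRingCat.of L)) := inferInstanceAs (Nonempty (PrimeSpectrum L))
  exact GeometricallyIrreducible.irreducibleSpace_of_subsingleton
    (pullback.snd V.hom (Spec.map (CommRingCat.ofHom (algebraMap k L))))

variable (k : Type u) [Field k] (V : Over (Spec (CommRingCat.of k))) [GrpObj V]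
  [Smooth V.hom] [ConnectedSpace V.left] [IsAffine V.left]

theorem exists_pow_eq_one (p : ℕ) [hp : Fact p.Prime] [CharP k p]
    (h : Red.HasNoSubtorus (AlgebraicClosure k)
      (Red.bc (Spec.map (CommRingCat.ofHom (algebraMap k (AlgebraicClosure k)))) V)) :
    ∃ N : ℕ, (𝟙 V : V ⟶ V) ^ (p ^ N) = 1 := by
  have hirr := irreducibleSpace_bc (AlgebraicClosure k) V
  have hsm : Smooth (Red.bc (Spec.map (CommRingCat.ofHom (algebraMap k (AlgebraicClosure k)))) V).hom :=
    inferInstanceAs (Smooth (pullback.snd V.hom _))
  have haff : IsAffine (Red.bc (Spec.map (CommRingCat.ofHom (algebraMap k (AlgebraicClosure k)))) V).left :=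
    inferInstanceAs (IsAffine (pullback V.hom _))
  have : CharP (AlgebraicClosure k) p := charP_of_injective_algebraMap (algebraMap k _).injective p
  obtain ⟨N, hN⟩ := Unip.exists_pow_eq_one_of_isAlgClosed (AlgebraicClosure k)
    (Red.bc (Spec.map (CommRingCat.ofHom (algebraMap k (AlgebraicClosure k)))) V) p h
  exact ⟨N, (Faithful.pow_eq_one_iff _ V _).mp hN⟩

variable {k V} in
/-- If some `p`-power kills a group, the torsion prime to `p` is trivial. -/
theorem eq_one_of_pow_eq_one_of_coprime {S : Scheme.{u}} {G : Over S} [GrpObj G] {m n : ℕ}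
    (hm : (𝟙 G : G ⟶ G) ^ m = 1) (hmn : Nat.Coprime m n) {T : Over S} (y : T ⟶ G) (hy : y ^ n = 1) :
    y = 1 := by
  have h1 : y ^ m = 1 := by
    have := congrArg (fun f => y ≫ f) hm
    simpa [MonObj.comp_pow] using this
  have h2 : orderOf y ∣ Nat.gcd m n := Nat.dvd_gcd (orderOf_dvd_of_pow_eq_one h1) (orderOf_dvd_of_pow_eq_one hy)
  rw [hmn.gcd_eq_one, Nat.dvd_one, orderOf_eq_one_iff] at h2
  exact h2

theorem eq_one_of_pow_eq_one (p : ℕ) [hp : Fact p.Prime] [CharP k p]
    (h : Red.HasNoSubtorus (AlgebraicClosure k)
      (Red.bc (Spec.map (CommRingCat.ofHom (algebraMap k (AlgebraicClosure k)))) V))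
    (n : ℕ) (hn : (n : k) ≠ 0) {T : Over (Spec (CommRingCat.of k))} (y : T ⟶ V) (hy : y ^ n = 1) : y = 1 := by
  obtain ⟨N, hN⟩ := exists_pow_eq_one k V p h
  refine eq_one_of_pow_eq_one_of_coprime hN ?_ y hy
  refine Nat.Coprime.pow_left _ ?_
  rw [Nat.Prime.coprime_iff_not_dvd hp.out]
  intro hd
  exact hn ((CharP.cast_eq_zero_iff k p n).mpr hd)

end K489.UnipField
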