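import Groth.Agent.Neron.K489.PtsMap
import Groth.Agent.Neron.K489.UnipField
import Groth.Prelude.Def_Red
import Mathlib.RingTheory.DiscreteValuationRing.Basic
import Mathlib.FieldTheory.IsSepClosed
import Mathlib.AlgebraicGeometry.Geometrically.Integral

/-!
# Unipotent inertia on extensions of unipotent groups by abelian varieties (S17696), glue form
-/

set_option autoImplicit false
universe u
open CategoryTheory CategoryTheory.Limits AlgebraicGeometry MonObj MonoidalCategory CartesianMonoidalCategory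

namespace K489.PA96

theorem charP_of_dvr (R K : Type u) [CommRing R] [IsDomain R] [Field K] [Algebra R K] [IsFractionRing R K]
    (p : ℕ) [CharP R p] : CharP K p :=
  charP_of_injective_algebraMap (IsFractionRing.injective R K) p

theorem natCast_residue_ne_zero (R : Type u) [CommRing R] [IsLocalRing R] (ℓ : ℕ) (h : IsUnit (ℓ : R)) :
    (ℓ : IsLocalRing.ResidueField R) ≠ 0 := by
  have := h.map (IsLocalRing.residue R)
  rw [map_natCast] at this
  exact this.ne_zero

theorem natCast_ne_zero (R K : Type u) [CommRing R] [Field K] [Algebra R K] (ℓ : ℕ) (h : IsUnit (ℓ : R)) :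
    (ℓ : K) ≠ 0 := by
  have := h.map (algebraMap R K)
  rw [map_natCast] at this
  exact this.ne_zero

/-- the `n`-torsion points of an extension `0 → E → P → V → 0` with `V` unipotent are those of `E` -/
theorem exists_torsion {K : Type u} [Field K] (p : ℕ) [Fact p.Prime] [CharP K p]
    {E P V : Over (Spec (CommRingCat.of K))} [GrpObj E] [GrpObj P] [GrpObj V]
    (jE : E ⟶ P) [IsMonHom jE] (πV : P ⟶ V) [IsMonHom πV] (hker : AlgGrp.IsKernel jE πV)
    [Smooth V.hom] [ConnectedSpace ↥V.left] [IsAffine V.left]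
    (hV : Red.HasNoSubtorus (AlgebraicClosure K)
      (Red.bc (Spec.map (CommRingCat.ofHom (algebraMap K (AlgebraicClosure K)))) V))
    (n : ℕ) (hn : (n : K) ≠ 0) {T : Over (Spec (CommRingCat.of K))} (x : T ⟶ P) (hx : x ^ n = 1) :
    ∃ y : T ⟶ E, y ≫ jE = x ∧ y ^ n = 1 :=
  PtsMap.exists_torsion jE πV hker n (fun y hy => UnipField.eq_one_of_pow_eq_one K V p hV n hn y hy) x hx

theorem main (R K Ω : Type u) [CommRing R] [IsDomain R] [IsDiscreteValuationRing R]
    (p : ℕ) (hp : p.Prime) [CharP R p]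
    [Field K] [Algebra R K] [IsFractionRing R K] [Field Ω] [Algebra K Ω]
    (W : ValuationSubring Ω)
    (P : Over (Spec (CommRingCat.of K))) [GrpObj P]
    (E V : Over (Spec (CommRingCat.of K))) [GrpObj E] [GrpObj V]
    (jE : E ⟶ P) [IsMonHom jE] (πV : P ⟶ V) [IsMonHom πV]
    (hker : AlgGrp.IsKernel jE πV)
    [Smooth V.hom] [ConnectedSpace ↥V.left] [IsAffine V.left]
    (hV : Red.HasNoSubtorus (AlgebraicClosure K) (Red.bc (Spec.map (CommRingCat.ofHom (algebraMap K (AlgebraicClosure K)))) V))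
    (ℓ : ℕ) (hℓu : IsUnit (ℓ : R)) (h : SGA7.InertiaUnipotentOn W P ℓ)
    (h4849 : SGA7.InertiaUnipotentOn W E ℓ → SGA7.InertiaLevelTwoOn W E ℓ)
    (σ : Ω ≃ₐ[K] Ω) (hσ : SGA7.IsInertia W σ) (ν : ℕ) (x : SGA7.Pts Ω P) (hx : x ^ (ℓ ^ ν) = 1) :
    SGA7.dev σ (SGA7.dev σ x) = 1 := by
  have : Fact p.Prime := ⟨hp⟩
  have hcK : CharP K p := charP_of_dvr R K p
  have hmono := PtsMap.mono_of_kernel jE πV hker
  have h1 : SGA7.InertiaUnipotentOn W E ℓ := by
    intro τ hτ
    obtain ⟨m, hm⟩ := h τ hτ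
    refine ⟨m, fun ν y hy => ?_⟩
    have h2 := hm ν (y ≫ jE) (by rw [← MonObj.pow_comp, hy, MonObj.one_comp])
    rw [PtsMap.dev_iterate_comp] at h2
    rw [← cancel_mono jE, h2, MonObj.one_comp]
  have h2 := h4849 h1
  obtain ⟨y, rfl, hy⟩ := exists_torsion p jE πV hker hV (ℓ ^ ν)
    (by rw [Nat.cast_pow]; exact pow_ne_zero _ (natCast_ne_zero R K ℓ hℓu)) x hx
  rw [PtsMap.dev_comp, PtsMap.dev_comp, h2 ν σ σ hσ hσ y hy, MonObj.one_comp]

end K489.PA96
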