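import Groth.Agent.Neron.K489.PtsMap
import Groth.Agent.Neron.K489.PA96
import Mathlib.AlgebraicGeometry.Morphisms.Proper

/-!
# Trivial inertia on pseudo-abelian varieties (S17695), glue form
-/

set_option autoImplicit false
universe u
open CategoryTheory CategoryTheory.Limits AlgebraicGeometry MonObj MonoidalCategory CartesianMonoidalCategory

namespace K489.PA95

/-- Torsion of order prime to `n` is in the image of any map through which the `n`-th power map factors. -/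
theorem exists_torsion_of_pow {S : Scheme.{u}} {E P T : Over S} [GrpObj E] [GrpObj P] (f : P ⟶ E) [IsMonHom f]
    (j : E ⟶ P) (n m : ℕ) (hnm : Nat.Coprime n m) (hfj : f ≫ j = (𝟙 P) ^ n) (x : T ⟶ P) (hx : x ^ m = 1) :
    ∃ y : T ⟶ E, y ≫ j = x ∧ y ^ m = 1 := by
  obtain ⟨a, ha⟩ : ∃ a : ℕ, (x ^ a) ^ n = x := by
    have h1 : Nat.Coprime (orderOf x) n := Nat.Coprime.coprime_dvd_left (orderOf_dvd_of_pow_eq_one hx) hnm.symm
    obtain ⟨a, ha⟩ := exists_pow_eq_self_of_coprime h1.symm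
    exact ⟨a, by rw [← pow_mul, mul_comm, pow_mul]; exact ha⟩
  refine ⟨(x ^ a) ≫ f, ?_, ?_⟩
  · rw [Category.assoc, hfj, MonObj.comp_pow, Category.comp_id, ha]
  · rw [← MonObj.pow_comp, ← pow_mul, mul_comm, pow_mul, hx, one_pow, MonObj.one_comp]

variable {K : Type u} [Field K] {Ω : Type u} [Field Ω] [Algebra K Ω]

theorem inertiaTrivialOn_sub {E P : Over (Spec (CommRingCat.of K))} [GrpObj E] [GrpObj P] (j : E ⟶ P) [IsMonHom j]
    [Mono j] (W : ValuationSubring Ω) (n : ℕ) (h : SGA7.InertiaTrivialOn W P n) : SGA7.InertiaTrivialOn W E n := by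
  intro σ hσ y hy
  have h1 := h σ hσ (y ≫ j) (by rw [← MonObj.pow_comp, hy, MonObj.one_comp])
  rw [PtsMap.galAct_comp] at h1
  rwa [cancel_mono] at h1

theorem inertiaTrivialOn_of_pow {E P : Over (Spec (CommRingCat.of K))} [GrpObj E] [GrpObj P] (f : P ⟶ E)
    [IsMonHom f] (j : E ⟶ P) (n m : ℕ) (hnm : Nat.Coprime n m) (hfj : f ≫ j = (𝟙 P) ^ n)
    (W : ValuationSubring Ω) (h : SGA7.InertiaTrivialOn W E m) : SGA7.InertiaTrivialOn W P m := by
  intro σ hσ x hx
  obtain ⟨y, rfl, hy⟩ := exists_torsion_of_pow f j n m hnm hfj x hx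
  rw [PtsMap.galAct_comp, h σ hσ y hy]

theorem coprime_of_isUnit (R : Type u) [CommRing R] [Nontrivial R] (p : ℕ) [Fact p.Prime] [CharP R p] (ℓ : ℕ)
    (hℓ : IsUnit (ℓ : R)) (N ν : ℕ) : Nat.Coprime (p ^ N) (ℓ ^ ν) := by
  refine Nat.Coprime.pow _ _ ?_
  rw [Nat.Prime.coprime_iff_not_dvd (Fact.out : p.Prime)]
  intro hd
  have := (CharP.cast_eq_zero_iff R p ℓ).mpr hd
  rw [this] at hℓ
  exact not_isUnit_zero hℓ

end K489.PA95
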