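import Groth.Prelude.Def_SGA7IX
import Groth.Prelude.Def_AlgGrp

/-!
# Galois action on points and homomorphisms; torsion points of extensions
-/

set_option autoImplicit false
universe u
open CategoryTheory CategoryTheory.Limits AlgebraicGeometry MonObj MonoidalCategory CartesianMonoidalCategory

namespace K489.PtsMap

section kernel

variable {S : Scheme.{u}} {E P V : Over S} [GrpObj E] [GrpObj P] [GrpObj V]
  (j : E ⟶ P) [IsMonHom j] (q : P ⟶ V) [IsMonHom q]

/-- points killed by `q` come from the kernel -/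
theorem exists_of_kernel {E P V : Over S} [GrpObj V] (j : E ⟶ P) (q : P ⟶ V)
    (hker : AlgGrp.IsKernel j q) {T : Over S} (x : T ⟶ P) (hx : x ≫ q = 1) :
    ∃ y : T ⟶ E, y ≫ j = x := by
  refine ⟨hker.lift x (toUnit T) ?_, hker.lift_fst _ _ _⟩
  rw [hx, Hom.one_def]

theorem mono_of_kernel {E P V : Over S} [GrpObj V] (j : E ⟶ P) (q : P ⟶ V)
    (hker : AlgGrp.IsKernel j q) : Mono j := by
  constructor
  intro T a b hab
  exact hker.hom_ext hab (toUnit_unique _ _)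

/-- If the torsion of order `n` of `V` is trivial then the `n`-torsion points of `P` are those of `E`. -/
theorem exists_torsion (hker : AlgGrp.IsKernel j q) (n : ℕ) {T : Over S}
    (hV : ∀ y : T ⟶ V, y ^ n = 1 → y = 1) (x : T ⟶ P) (hx : x ^ n = 1) :
    ∃ y : T ⟶ E, y ≫ j = x ∧ y ^ n = 1 := by
  have := mono_of_kernel j q hker
  obtain ⟨y, hy⟩ := exists_of_kernel j q hker x (hV _ (by rw [← MonObj.pow_comp, hx, MonObj.one_comp]))
  refine ⟨y, hy, ?_⟩
  rw [← cancel_mono j, MonObj.pow_comp, hy, hx, MonObj.one_comp]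

end kernel

section gal

variable {K : Type u} [Field K] {Ω : Type u} [Field Ω] [Algebra K Ω]
  {A B : Over (Spec (CommRingCat.of K))}

theorem galAct_comp (σ : Ω ≃ₐ[K] Ω) (x : SGA7.Pts Ω A) (f : A ⟶ B) :
    SGA7.galAct σ (x ≫ f : SGA7.Pts Ω B) = SGA7.galAct σ x ≫ f := by
  unfold SGA7.galAct
  rw [Category.assoc]

variable [GrpObj A] [GrpObj B]

theorem dev_comp (σ : Ω ≃ₐ[K] Ω) (x : SGA7.Pts Ω A) (f : A ⟶ B) [IsMonHom f] :
    SGA7.dev σ (x ≫ f : SGA7.Pts Ω B) = SGA7.dev σ x ≫ f := by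
  unfold SGA7.dev
  rw [galAct_comp, MonObj.mul_comp, GrpObj.inv_comp]

theorem dev_iterate_comp (σ : Ω ≃ₐ[K] Ω) (f : A ⟶ B) [IsMonHom f] (m : ℕ) (x : SGA7.Pts Ω A) :
    (SGA7.dev σ)^[m] (x ≫ f : SGA7.Pts Ω B) = ((SGA7.dev σ)^[m] x : SGA7.Pts Ω A) ≫ f := by
  induction m generalizing x with
  | zero => rfl
  | succ m ih => rw [Function.iterate_succ_apply, Function.iterate_succ_apply, dev_comp, ih]

theorem galAct_mul (σ : Ω ≃ₐ[K] Ω) (x y : SGA7.Pts Ω A) :
    SGA7.galAct σ (x * y) = SGA7.galAct σ x * SGA7.galAct σ y := by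
  unfold SGA7.galAct
  rw [MonObj.comp_mul]

theorem galAct_pow (σ : Ω ≃ₐ[K] Ω) (x : SGA7.Pts Ω A) (n : ℕ) :
    SGA7.galAct σ (x ^ n) = SGA7.galAct σ x ^ n := by
  unfold SGA7.galAct
  rw [MonObj.comp_pow]

end gal

end K489.PtsMap
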