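import Groth.Agent.Neron.K489.QfPow
import Groth.Agent.Neron.K489.PtsMap

/-!
# Triviality of the unipotent quotient

`0 → E → P → V → 0` commutative over a field with `E` an abelian variety, `V` smooth connected killed by `n ≥ 1`: if
`[n]` is quasi-finite on `P` then `V` is trivial and `E ⟶ P` is an isomorphism.
-/

set_option autoImplicit false
universe u
open CategoryTheory CategoryTheory.Limits AlgebraicGeometry MonObj MonoidalCategory CartesianMonoidalCategory

namespace K489.VTriv

open Groth.Agent Groth.Agent.Sga7.H109.Basic Groth.Agent.Sga7.H109.Torsion Books.AlgPts Books.AlgPtsGrp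

/-- the case of an algebraically closed field -/
theorem eq_one_of_isAlgClosed {K : Type u} [Field K] [IsAlgClosed K] (E P V : Over (Spec (CommRingCat.of K)))
    [GrpObj E] [GrpObj P] [GrpObj V] [IsCommMonObj P] [IsProper E.hom] [GeometricallyIntegral E.hom]
    [LocallyOfFiniteType P.hom] [QuasiCompact P.hom] [Smooth V.hom] [QuasiCompact V.hom] [ConnectedSpace V.left]
    (j : E ⟶ P) [IsMonHom j] (π : P ⟶ V) [IsMonHom π] (hker : AlgGrp.IsKernel j π) (hπ : Surjective π.left)
    (n : ℕ) (hn : 1 ≤ n) (hV : (𝟙 V : V ⟶ V) ^ n = 1) (hqf : LocallyQuasiFinite ((𝟙 P : P ⟶ P) ^ n).left) :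
    (𝟙 V : V ⟶ V) = 1 := by
  have hfin := QfPow.finite_torsion P n hqf
  have hsurjE : Surjective ((𝟙 E : E ⟶ E) ^ n).left := (Grpsch.MulFinFlat.isFinite_flat_surjective K E n hn).2.2
  have hVfin : (Set.univ : Set (KP V)).Finite := by
    refine (hfin.image (fun x : KP P => x ≫ π)).subset ?_
    intro v _
    obtain ⟨x, rfl⟩ := exists_pt_lift π v
    have h1 : (x ^ n) ≫ π = 1 := by
      have := congrArg (fun f => (x ≫ π) ≫ f) hV
      rw [MonObj.pow_comp]
      simpa [MonObj.comp_pow] using this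
    obtain ⟨y, hy⟩ := PtsMap.exists_of_kernel j π hker (x ^ n) h1
    obtain ⟨z, hz⟩ := exists_pt_lift ((𝟙 E : E ⟶ E) ^ n) y
    rw [MonObj.comp_pow, Category.comp_id] at hz
    refine ⟨x * (z ≫ j)⁻¹, ?_, ?_⟩
    · change (x * (z ≫ j)⁻¹) ^ n = 1
      rw [mul_pow, inv_pow, ← MonObj.pow_comp, hz, hy, mul_inv_cancel]
    · change (x * (z ≫ j)⁻¹) ≫ π = x ≫ π
      have h2 : j ≫ π = 1 := by rw [hker.w, Hom.one_def]
      rw [MonObj.mul_comp, GrpObj.inv_comp, Category.assoc, h2, MonObj.comp_one, inv_one, _root_.mul_one]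
  have hVf : Finite (KP V) := Set.finite_univ_iff.mp hVfin
  have hNoGa : NoGa V := by
    intro i hi hc
    have him : Mono i := mono_of_isClosedImmersion i
    have hinj : Function.Injective (fun x : KP (Red.Ga (Spec (CommRingCat.of K))) => x ≫ i) :=
      fun x y h => (cancel_mono i).mp h
    have := Sga7.H109.Quot.infinite_ga K
    exact (Infinite.of_injective _ hinj).not_finite hVf
  obtain ⟨ℓ, hℓ, hℓK, hc⟩ := QfPow.exists_prime_coprime K n hn
  have hVfinite : IsFinite V.hom :=
    QfPow.isFinite_of_pow_eq_one V hNoGa n hn hV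
  have h3 := Sga7.H109.Dense.hom_eq_one_of_isFinite (𝟙 V)
  rw [h3, Hom.one_def]

/-- **Triviality of the unipotent quotient.** -/
theorem eq_one {K : Type u} [Field K] (E P V : Over (Spec (CommRingCat.of K)))
    [GrpObj E] [GrpObj P] [GrpObj V] [IsCommMonObj P] [IsProper E.hom] [GeometricallyIntegral E.hom]
    [LocallyOfFiniteType P.hom] [QuasiCompact P.hom] [Smooth V.hom] [QuasiCompact V.hom] [ConnectedSpace V.left]
    (j : E ⟶ P) [IsMonHom j] (π : P ⟶ V) [IsMonHom π] (hker : AlgGrp.IsKernel j π) (hπ : Surjective π.left)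
    (n : ℕ) (hn : 1 ≤ n) (hV : (𝟙 V : V ⟶ V) ^ n = 1) (hqf : LocallyQuasiFinite ((𝟙 P : P ⟶ P) ^ n).left) :
    (𝟙 V : V ⟶ V) = 1 := by
  let h : Spec (CommRingCat.of (AlgebraicClosure K)) ⟶ Spec (CommRingCat.of K) :=
    Spec.map (CommRingCat.ofHom (algebraMap K (AlgebraicClosure K)))
  have i1 : IsProper (Red.bc h E).hom := inferInstanceAs (IsProper (pullback.snd E.hom h))
  have i2 : GeometricallyIntegral (Red.bc h E).hom :=
    inferInstanceAs (GeometricallyIntegral (pullback.snd E.hom h))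
  have i3 : LocallyOfFiniteType (Red.bc h P).hom := inferInstanceAs (LocallyOfFiniteType (pullback.snd P.hom h))
  have i4 : QuasiCompact (Red.bc h P).hom := inferInstanceAs (QuasiCompact (pullback.snd P.hom h))
  have i5 : Smooth (Red.bc h V).hom := inferInstanceAs (Smooth (pullback.snd V.hom h))
  have i6 : QuasiCompact (Red.bc h V).hom := inferInstanceAs (QuasiCompact (pullback.snd V.hom h))
  have i7 : IrreducibleSpace (Red.bc h V).left := UnipField.irreducibleSpace_bc (AlgebraicClosure K) V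
  have key := eq_one_of_isAlgClosed (Red.bc h E) (Red.bc h P) (Red.bc h V) ((Over.pullback h).map j)
    ((Over.pullback h).map π) (Sga7.H760.KerBc.isKernel_bc h hker)
    (Sga3C.ActBase.surjective_map_left h π hπ) n hn
    (by rw [← Faithful.map_id_pow, hV, Faithful.map_one])
    (QfPow.locallyQuasiFinite_pow_bc h P n hqf)
  have h1 : (𝟙 (Red.bc h V) : Red.bc h V ⟶ Red.bc h V) ^ 1 = 1 := by rw [pow_one]; exact key
  have h2 := (Faithful.pow_eq_one_iff h V 1).mp h1
  rwa [pow_one] at h2

/-- If the identity of the quotient is trivial then the kernel is everything. -/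
theorem isIso_of_eq_one {S : Scheme.{u}} {E P V : Over S} [GrpObj V] (j : E ⟶ P) (π : P ⟶ V)
    (hker : AlgGrp.IsKernel j π) (h : (𝟙 V : V ⟶ V) = 1) : IsIso j := by
  have hm := PtsMap.mono_of_kernel j π hker
  obtain ⟨s, hs⟩ := PtsMap.exists_of_kernel j π hker (𝟙 P)
    (by rw [Category.id_comp, ← Category.comp_id π, h, MonObj.comp_one])
  exact ⟨s, by rw [← cancel_mono j, Category.assoc, hs, Category.comp_id, Category.id_comp], hs⟩

end K489.VTriv
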