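import Groth.Agent.Neron.K489.NeutralModel
import Groth.Agent.Neron.K489.VTriv
import Groth.Agent.Neron.K489.UnipField
import Groth.Agent.Neron.K489.PA96

/-!
# Models of pseudo-abelian varieties of unipotent rank zero (S17697), main part

`exists_model`: the neutral component `G` of the model `P'` and properness of `P`.
-/

set_option autoImplicit false
universe u
open CategoryTheory CategoryTheory.Limits AlgebraicGeometry MonObj MonoidalCategory CartesianMonoidalCategory

namespace K489.PA97

/-- The neutral component of a smooth separated model of an extension `P` of a unipotent group by an abelian variety: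
if the special fibre has unipotent rank zero then `P` is an abelian variety. -/
theorem exists_model
    (R K : Type u) [CommRing R] [IsDomain R] [IsDiscreteValuationRing R]
    (p : ℕ) (hp : p.Prime) [CharP R p] [Field K] [Algebra R K] [IsFractionRing R K]
    (P : Over (Spec (CommRingCat.of K))) [GrpObj P] [IsCommMonObj P]
    [LocallyOfFiniteType P.hom] [QuasiCompact P.hom] [ConnectedSpace ↥P.left]
    (E V : Over (Spec (CommRingCat.of K))) [GrpObj E] [GrpObj V]
    [IsProper E.hom] [GeometricallyIntegral E.hom]
    (jE : E ⟶ P) [IsMonHom jE] (πV : P ⟶ V) [IsMonHom πV]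
    (hker : AlgGrp.IsKernel jE πV) (hπV : Surjective πV.left)
    [Smooth V.hom] [ConnectedSpace ↥V.left] [IsAffine V.left]
    (hV : Red.HasNoSubtorus (AlgebraicClosure K) (Red.bc (Spec.map (CommRingCat.ofHom (algebraMap K (AlgebraicClosure K)))) V))
    (P' : Over (Spec (CommRingCat.of R))) [GrpObj P'] [Smooth P'.hom] [IsSeparated P'.hom]
    (e : Red.bc (Spec.map (CommRingCat.ofHom (algebraMap R K))) P' ≅ P) [IsMonHom e.hom]
    (h0 : SGA7.FibreUnipotentRankZero (IsLocalRing.closedPoint R) P') :
    IsProper P.hom ∧ GeometricallyIntegral P.hom ∧ ∃ (G : Over (Spec (CommRingCat.of R))) (_ : GrpObj G) (i : G ⟶ P')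
      (e' : (SGA7.genFib R K).obj G ≅ P),
      IsMonHom i ∧ IsOpenImmersion i.left ∧
      IsMonHom e'.hom ∧ e'.hom = (SGA7.genFib R K).map i ≫ e.hom ∧
      Smooth G.hom ∧ IsSeparated G.hom ∧ QuasiCompact G.hom ∧ IsCommMonObj G ∧
      (∀ s, IsIrreducible (G.hom ⁻¹' {s})) ∧ SGA7.FibreUnipotentRankZero (IsLocalRing.closedPoint R) G := by
  have : Fact p.Prime := ⟨hp⟩
  have hcK : CharP K p := PA96.charP_of_dvr R K p
  obtain ⟨G, _, i, e', hi, hio, he', hee, g1, g2, g3, g4⟩ := NeutralModel.exists_neutral_model R K P P' e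
  have hcomm : IsCommMonObj G := NeutralModel.isCommMonObj_of_generic R K G P e'
  have him' : Mono i.left := inferInstance
  have him : Mono i := (Over.forget _).mono_of_mono_map him'
  have h0' : SGA7.FibreUnipotentRankZero (IsLocalRing.closedPoint R) G :=
    NeutralModel.fibreUnipotentRankZero_of_mono i _ h0
  obtain ⟨N, hN⟩ := UnipField.exists_pow_eq_one K V p hV
  have hpos : 1 ≤ p ^ N := Nat.one_le_pow _ _ hp.pos
  have hqf := QfPow.locallyQuasiFinite_pow R G h0' (p ^ N) hpos
  have hqf' := QfPow.locallyQuasiFinite_pow_bc (Spec.map (CommRingCat.ofHom (algebraMap R K))) G _ hqf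
  have hqfP := QfPow.locallyQuasiFinite_pow_iso e' _ hqf'
  have hVqc : QuasiCompact V.hom := inferInstance
  have hV1 := VTriv.eq_one E P V jE πV hker hπV (p ^ N) hpos hN hqfP
  have hiso : IsIso jE := VTriv.isIso_of_eq_one jE πV hker hV1
  have hisol : IsIso jE.left := inferInstanceAs (IsIso ((Over.forget _).map jE))
  have hPE : P.hom = inv jE.left ≫ E.hom := by rw [IsIso.eq_inv_comp, Over.w]
  have hprop : IsProper P.hom := by rw [hPE]; infer_instance
  have hgi : GeometricallyIntegral P.hom := by
    rw [hPE]
    exact (MorphismProperty.cancel_left_of_respectsIso @GeometricallyIntegral _ _).mpr inferInstance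
  exact ⟨hprop, hgi, G, _, i, e', hi, hio, he', hee, g1, g2, g3, hcomm, g4, h0'⟩

end K489.PA97
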