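import Groth.Agent.Sga7.H109.Struct
import Groth.Agent.Sga3B.MaxTorusCrit
import Groth.Agent.Sga3.H800.FieldImg
import Groth.Agent.Sga3C.GrpIrr
import Groth.Agent.Sga7.H739.ProperOfFibres
import Groth.Agent.Sga3B.BcIso
import Groth.Agent.Neron.K489.PtsMap
import Groth.Agent.Books.AlgPtsGrp

/-!
# Groups without `𝔾ₐ` and without tori are proper

* `isProper_of_noGa_of_noSubtorus`: a smooth connected commutative group of finite type over an algebraically
  closed field without closed `𝔾ₐ` and without subtorus is proper.
* `isProper_of_geomFibre`: a smooth separated group scheme of finite type over a discrete valuation ring with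
  geometrically integral proper generic fibre and proper geometric special fibre is proper.
-/

set_option autoImplicit false
universe u
open CategoryTheory CategoryTheory.Limits AlgebraicGeometry MonObj MonoidalCategory CartesianMonoidalCategory

namespace K489.SemiAb

open Groth.Agent Groth.Agent.Sga7.H109.Basic

/-- A homomorphism with trivial kernel which is an fpqc quotient is an isomorphism. -/
theorem isIso_of_ker_trivial {S : Scheme.{u}} {D G Q : Over S} [GrpObj D] [GrpObj G] [GrpObj Q] (i : D ⟶ G)
    [IsMonHom i] (q : G ⟶ Q) [IsMonHom q] (hker : AlgGrp.IsKernel i q) (hD : Red.IsTrivialGrp D)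
    [Flat q.left] [Surjective q.left] [QuasiCompact q.left] : IsIso q := by
  have hD' : IsIso D.hom := hD
  have h1 : ∀ {T : Over S} (c : T ⟶ D), c = 1 := by
    intro T c
    ext1
    rw [← cancel_mono D.hom, Over.w, Over.w]
  obtain ⟨s, hs⟩ := Sga3.H800.FieldImg.exists_desc q (𝟙 G) (by
    intro T a b hab
    have h2 : (a * b⁻¹) ≫ q = 1 := by
      rw [MonObj.mul_comp, GrpObj.inv_comp, hab, mul_inv_cancel]
    obtain ⟨c, hc⟩ := PtsMap.exists_of_kernel i q hker (a * b⁻¹) h2
    rw [h1 c, MonObj.one_comp] at hc
    rw [Category.comp_id, Category.comp_id]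
    exact mul_inv_eq_one.mp hc.symm)
  have hepi : Epi q := Sga3.H800.FieldImg.epi_of_flat q
  refine ⟨s, hs, ?_⟩
  rw [← cancel_epi q, ← Category.assoc, hs, Category.id_comp, Category.comp_id]

/-- Smooth connected commutative groups without `𝔾ₐ` and without subtori are proper. -/
theorem isProper_of_noGa_of_noSubtorus {L : Type u} [Field L] [IsAlgClosed L]
    (G : Over (Spec (CommRingCat.of L))) [GrpObj G] [IsCommMonObj G] [Smooth G.hom] [QuasiCompact G.hom]
    [ConnectedSpace G.left] (h : NoGa G) (ht : Red.HasNoSubtorus L G) : IsProper G.hom := by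
  obtain ⟨r, i, Q, _, q, h1, h2, h3, h4, h5, h6, h7, h8, h9⟩ := Sga7.H109.Struct.exists_semiabelian G h
  have him : Mono i := Books.AlgPtsGrp.mono_of_isClosedImmersion i
  have hD : Red.IsTrivialGrp (Red.DS (Spec (CommRingCat.of L)) (Fin r → ℤ)) :=
    ht _ i (Sga3B.MaxTorusCrit.isTorus_DS _ r)
  have hqc : QuasiCompact q.left := by
    have : QuasiCompact (q.left ≫ Q.hom) := by rw [Over.w]; infer_instance
    exact QuasiCompact.of_comp q.left Q.hom
  have hq : IsIso q := isIso_of_ker_trivial i q h6 hD
  have hql : IsIso q.left := inferInstanceAs (IsIso ((Over.forget _).map q))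
  rw [← Over.w q]
  infer_instance

/-- The geometric fibres of a group scheme with irreducible fibres are connected. -/
theorem connectedSpace_pullback {S : Scheme.{u}} (G : Over S) [GrpObj G] [LocallyOfFiniteType G.hom]
    (h : ∀ s : S, IsIrreducible (G.hom ⁻¹' {s})) {k : Type u} [Field k] (t : Spec (CommRingCat.of k) ⟶ S) :
    ConnectedSpace ↥(pullback G.hom t) := by
  have : GrpObj (Over.mk G.hom) := inferInstanceAs (GrpObj G)
  have h1 : GeometricallyIrreducible G.hom :=
    Sga3C.GrpIrr.geometricallyIrreducible_of_connected_fibres G.hom fun s => ⟨(h s).1, (h s).2.isPreconnected⟩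
  have h2 : GeometricallyIrreducible (pullback.snd G.hom t) := inferInstance
  have h3 : Subsingleton (Spec (CommRingCat.of k)) := inferInstanceAs (Subsingleton (PrimeSpectrum k))
  have h4 : Nonempty (Spec (CommRingCat.of k)) := inferInstanceAs (Nonempty (PrimeSpectrum k))
  have h5 : IrreducibleSpace ↥(pullback G.hom t) :=
    GeometricallyIrreducible.irreducibleSpace_of_subsingleton (pullback.snd G.hom t)
  infer_instance

end K489.SemiAb
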