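import Groth.Agent.Neron.K489.PA97
import Groth.Agent.Neron.K489.SemiAb
import Groth.Agent.Neron.K489.FieldBc

/-!
# Good reduction from the special fibre (S17698)

* `isProper_special`: the special fibre of a smooth separated group scheme with irreducible fibres, commutative, of
  finite type, over a local ring is proper if the geometric special fibre has no `𝔾ₐ` and no subtorus.
* `hasGoodReduction`: the corresponding statement over a discrete valuation ring.
-/

set_option autoImplicit false
universe u
open CategoryTheory CategoryTheory.Limits AlgebraicGeometry MonObj MonoidalCategory CartesianMonoidalCategory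

namespace K489.PA98

open Groth.Agent Groth.Agent.Sga7.H109.Basic Groth.Agent.Sga3.H816.QfNhd

/-- A morphism from the spectrum of a field to the spectrum of a local ring hitting the closed point factors through
the residue field. -/
theorem exists_factor_residue (R : Type u) [CommRing R] [IsLocalRing R] {L : Type u} [Field L]
    (g : Spec (CommRingCat.of L) ⟶ Spec (CommRingCat.of R))
    (hg : g (IsLocalRing.closedPoint L) = IsLocalRing.closedPoint R) :
    ∃ g' : Spec (CommRingCat.of L) ⟶ Spec (CommRingCat.of (IsLocalRing.ResidueField R)),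
      g' ≫ Spec.map (CommRingCat.ofHom (IsLocalRing.residue R)) = g := by
  obtain ⟨φ, rfl⟩ : ∃ φ : R →+* L, g = Spec.map (CommRingCat.ofHom φ) :=
    ⟨(Spec.preimage g).hom, by simp⟩
  have h1 : ∀ r ∈ IsLocalRing.maximalIdeal R, φ r = 0 := by
    intro r hr
    have h2 : (Spec.map (CommRingCat.ofHom φ) (IsLocalRing.closedPoint L)).asIdeal =
      (IsLocalRing.closedPoint R).asIdeal := by rw [hg]
    have h3 : r ∈ (IsLocalRing.closedPoint R).asIdeal := hr
    rw [← h2] at h3
    have h4 : φ r ∈ IsLocalRing.maximalIdeal L := h3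
    rw [IsLocalRing.maximalIdeal_eq_bot] at h4
    exact h4
  refine ⟨Spec.map (CommRingCat.ofHom (Ideal.Quotient.lift _ φ h1)), ?_⟩
  rw [← Spec.map_comp, ← CommRingCat.ofHom_comp]
  congr 2

/-- a morphism from the spectrum of a field to a local spectrum hitting the closed point kills the maximal ideal -/
theorem exists_hom_eq (R : Type u) [CommRing R] [IsLocalRing R] {L : Type u} [Field L]
    (g : Spec (CommRingCat.of L) ⟶ Spec (CommRingCat.of R))
    (hg : g (IsLocalRing.closedPoint L) = IsLocalRing.closedPoint R) :
    ∃ φ : R →+* L, (∀ r ∈ IsLocalRing.maximalIdeal R, φ r = 0) ∧ g = Spec.map (CommRingCat.ofHom φ) := by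
  obtain ⟨φ, rfl⟩ : ∃ φ : R →+* L, g = Spec.map (CommRingCat.ofHom φ) :=
    ⟨(Spec.preimage g).hom, by simp⟩
  refine ⟨φ, fun r hr => ?_, rfl⟩
  have h2 : (Spec.map (CommRingCat.ofHom φ) (IsLocalRing.closedPoint L)).asIdeal =
    (IsLocalRing.closedPoint R).asIdeal := by rw [hg]
  have h3 : r ∈ (IsLocalRing.closedPoint R).asIdeal := hr
  rw [← h2] at h3
  have h4 : φ r ∈ IsLocalRing.maximalIdeal L := h3
  rw [IsLocalRing.maximalIdeal_eq_bot] at h4
  exact h4

/-- Properness of the special fibre. -/
theorem isProper_special (R : Type u) [CommRing R] [IsLocalRing R] (G : Over (Spec (CommRingCat.of R)))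
    [GrpObj G] [IsCommMonObj G] [Smooth G.hom] [IsSeparated G.hom] [QuasiCompact G.hom]
    (hirr : ∀ s, IsIrreducible (G.hom ⁻¹' {s}))
    (h : SGA7.FibreUnipotentRankZero (IsLocalRing.closedPoint R) G)
    (ht : Red.HasNoSubtorus _ (Red.geomFibre (IsLocalRing.closedPoint R) G)) :
    IsProper (Red.bc (Spec.map (CommRingCat.ofHom (IsLocalRing.residue R))) G).hom := by
  let s : Spec (CommRingCat.of R) := IsLocalRing.closedPoint R
  let g := Red.geomPt s
  have hconn : ConnectedSpace (Red.geomFibre s G).left := SemiAb.connectedSpace_pullback G hirr g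
  have i1 : Smooth (Red.geomFibre s G).hom := inferInstanceAs (Smooth (pullback.snd G.hom g))
  have i2 : QuasiCompact (Red.geomFibre s G).hom := inferInstanceAs (QuasiCompact (pullback.snd G.hom g))
  have hp : IsProper (Red.geomFibre s G).hom := SemiAb.isProper_of_noGa_of_noSubtorus _ h ht
  obtain ⟨g', hg'⟩ := exists_factor_residue R g (geomPt_closedPoint s)
  let C := Red.bc (Spec.map (CommRingCat.ofHom (IsLocalRing.residue R))) G
  have i3 : IsSeparated C.hom := inferInstanceAs (IsSeparated (pullback.snd G.hom _))
  have i4 : Smooth C.hom := inferInstanceAs (Smooth (pullback.snd G.hom _))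
  refine FieldBc.isProper_of_bc g' C ?_
  have h1 : IsPullback (pullback.fst G.hom g) (pullback.snd G.hom g) G.hom
      (g' ≫ Spec.map (CommRingCat.ofHom (IsLocalRing.residue R))) := by
    rw [hg']
    exact IsPullback.of_hasPullback _ _
  have h2 := IsPullback.of_right' h1 (IsPullback.of_hasPullback G.hom
    (Spec.map (CommRingCat.ofHom (IsLocalRing.residue R))))
  have h3 : IsPullback (pullback.fst C.hom g') (pullback.snd C.hom g') C.hom g' := IsPullback.of_hasPullback _ _
  have h4 : pullback.snd C.hom g' = (h3.isoIsPullback _ _ h2).hom ≫ pullback.snd G.hom g :=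
    (IsPullback.isoIsPullback_hom_snd ..).symm
  change UniversallyClosed (pullback.snd C.hom g')
  rw [h4]
  have h5 : UniversallyClosed (pullback.snd G.hom g) := hp.toUniversallyClosed
  infer_instance

/-- Good reduction of an abelian variety from a commutative smooth separated model of finite type with irreducible
fibres whose geometric special fibre has no `𝔾ₐ` and no subtorus. -/
theorem hasGoodReduction (R K : Type u) [CommRing R] [IsDomain R] [IsDiscreteValuationRing R] [Field K]
    [Algebra R K] [IsFractionRing R K] (P : Over (Spec (CommRingCat.of K))) [GrpObj P] [IsProper P.hom]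
    [GeometricallyIntegral P.hom] (G : Over (Spec (CommRingCat.of R)))
    [GrpObj G] [IsCommMonObj G] [Smooth G.hom] [IsSeparated G.hom] [QuasiCompact G.hom]
    (e' : (SGA7.genFib R K).obj G ≅ P) (he' : IsMonHom e'.hom)
    (hirr : ∀ s, IsIrreducible (G.hom ⁻¹' {s}))
    (h : SGA7.FibreUnipotentRankZero (IsLocalRing.closedPoint R) G)
    (ht : Red.HasNoSubtorus _ (Red.geomFibre (IsLocalRing.closedPoint R) G)) :
    SGA7.HasGoodReduction R K P := by
  have hs := isProper_special R G hirr h ht
  have hel : IsIso e'.hom.left := inferInstanceAs (IsIso ((Over.forget _).map e'.hom))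
  have hw : pullback.snd G.hom (Spec.map (CommRingCat.ofHom (algebraMap R K))) = e'.hom.left ≫ P.hom :=
    (Over.w e'.hom).symm
  have hK : IsProper (pullback.snd G.hom (Spec.map (CommRingCat.ofHom (algebraMap R K)))) := by
    rw [hw]; infer_instance
  have hKi : GeometricallyIntegral (pullback.snd G.hom (Spec.map (CommRingCat.ofHom (algebraMap R K)))) := by
    rw [hw]
    exact (MorphismProperty.cancel_left_of_respectsIso @GeometricallyIntegral _ _).mpr inferInstance
  have hne : Nonempty ↥(pullback G.hom (Spec.map (CommRingCat.ofHom (IsLocalRing.residue R)))) := by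
    have := SemiAb.connectedSpace_pullback G hirr (Spec.map (CommRingCat.ofHom (IsLocalRing.residue R)))
    infer_instance
  have hp : IsProper G.hom := Sga7.H739.ProperOfFibres.isProper_of_fibres (K := K) G.hom hK hKi hs hne
  exact ⟨G, inferInstance, e', he', hp, inferInstance, fun k' _ t => SemiAb.connectedSpace_pullback G hirr t⟩

theorem hasNoSubtorus_of_kills (R : Type u) [CommRing R] [IsLocalRing R]
    (P' : Over (Spec (CommRingCat.of R))) [GrpObj P']
    (ht : ∀ (Ω' : Type u) [Field Ω'] [IsAlgClosed Ω'] (φ : R →+* Ω'),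
      (∀ r ∈ IsLocalRing.maximalIdeal R, φ r = 0) →
      Red.HasNoSubtorus Ω' (Red.bc (Spec.map (CommRingCat.ofHom φ)) P'))
    {L : Type u} [Field L] [IsAlgClosed L] (g : Spec (CommRingCat.of L) ⟶ Spec (CommRingCat.of R))
    (hg : g (IsLocalRing.closedPoint L) = IsLocalRing.closedPoint R) : Red.HasNoSubtorus L (Red.bc g P') := by
  obtain ⟨φ, h1, rfl⟩ := exists_hom_eq R g hg
  exact ht L φ h1

theorem hasNoSubtorus_sub {R : Type u} [CommRing R] {G P' : Over (Spec (CommRingCat.of R))} [GrpObj G] [GrpObj P']
    (i : G ⟶ P') [IsMonHom i] [IsOpenImmersion i.left]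
    {L : Type u} [Field L] [IsAlgClosed L] (g : Spec (CommRingCat.of L) ⟶ Spec (CommRingCat.of R))
    (h : Red.HasNoSubtorus L (Red.bc g P')) : Red.HasNoSubtorus L (Red.bc g G) := by
  have him' : Mono i.left := inferInstance
  have him : Mono i := (Over.forget _).mono_of_mono_map him'
  exact FieldBc.hasNoSubtorus_of_mono ((Over.pullback g).map i) h

end K489.PA98
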