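import Groth.Agent.Neron.K489.NoTorus
import Groth.Agent.Neron.K489.FieldBc
import Groth.Agent.Neron.K489.UnipField
import Groth.Agent.Neron.K489.PtsMap
import Groth.Agent.Sga3.H794.ChevClosed
import Groth.Agent.Sga3.H800.FieldImg
import Groth.Agent.Sga3.H780.Pointed
import Groth.Agent.Sga7.H109.Basic
import Groth.Agent.Sga3C.ActBase
import Groth.Agent.S0115

/-!
# The abelian part of a pseudo-abelian variety

`P` smooth connected commutative over a field `k` of characteristic `p`, all of whose smooth connected affine closed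
subgroup schemes are trivial.

* `exists_pow_factor_of_isAlgClosed`: over an algebraically closed field, a smooth connected commutative group without
  subtorus: some `p ^ N`-th power map factors through an abelian variety quotient.
* `exists_abelian`: there is an abelian variety `E`, closed in `P`, and `N` such that the `p ^ N`-th power map of `P`
  factors through `E`.
-/

set_option autoImplicit false
universe u
open CategoryTheory CategoryTheory.Limits AlgebraicGeometry MonObj MonoidalCategory CartesianMonoidalCategory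

namespace K489.PseudoAb

open K489.FieldBc

/-- If the restriction to the kernel of `q` of a power map is trivial, the power map is constant on the fibres of
`q`. -/
theorem pow_eq_pow_of_comp_eq {S : Scheme.{u}} {L G Q : Over S} [GrpObj L] [GrpObj G] [IsCommMonObj G] [GrpObj Q]
    (l : L ⟶ G) [IsMonHom l] (q : G ⟶ Q) [IsMonHom q] (hk : AlgGrp.IsKernel l q) (n : ℕ)
    (hn : (𝟙 L : L ⟶ L) ^ n = 1) {T : Over S} (a b : T ⟶ G) (hab : a ≫ q = b ≫ q) : a ^ n = b ^ n := by
  have h1 : (a * b⁻¹) ≫ q = 1 := by
    rw [MonObj.mul_comp, GrpObj.inv_comp, hab, mul_inv_cancel]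
  obtain ⟨c, hc⟩ := PtsMap.exists_of_kernel l q hk (a * b⁻¹) h1
  have h2 : c ^ n = 1 := by
    have := congrArg (fun f => c ≫ f) hn
    simpa [MonObj.comp_pow] using this
  have h3 : (a * b⁻¹) ^ n = 1 := by
    rw [← hc, ← MonObj.pow_comp, h2, MonObj.one_comp]
  rw [mul_pow, inv_pow, mul_inv_eq_one] at h3
  exact h3

/-- Over an algebraically closed field of characteristic `p`, a smooth connected commutative group without subtorus
has an abelian variety quotient through which some `p ^ N`-th power map factors (on the level of points). -/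
theorem exists_quotient {K : Type u} [Field K] [IsAlgClosed K] (p : ℕ) [hp : Fact p.Prime] [CharP K p]
    (G : Over (Spec (CommRingCat.of K))) [GrpObj G] [IsCommMonObj G] [Smooth G.hom] [QuasiCompact G.hom]
    [ConnectedSpace G.left] (h : Red.HasNoSubtorus K G) :
    ∃ (N : ℕ) (Q : Over (Spec (CommRingCat.of K))) (_ : GrpObj Q) (q : G ⟶ Q),
      IsMonHom q ∧ Surjective q.left ∧ Flat q.left ∧ QuasiCompact q.left ∧ IsProper Q.hom ∧ Smooth Q.hom ∧
      ConnectedSpace Q.left ∧
      ∀ (T : Over (Spec (CommRingCat.of K))) (a b : T ⟶ G), a ≫ q = b ≫ q → a ^ (p ^ N) = b ^ (p ^ N) := by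
  obtain ⟨L, _, l, Q, _, q, h1, h2, h3, h4, h5, h6, h7, h8, h9, h10, h11, h12, h13⟩ :=
    Groth.Agent.Sga3.H794.ChevClosed.exists_chevalley K G
  have hm : Mono l := PtsMap.mono_of_kernel l q h10
  have hirr : IrreducibleSpace L.left := by
    have : GrpObj (Over.mk L.hom) := inferInstanceAs (GrpObj L)
    have h1 : GeometricallyIrreducible L.hom :=
      Groth.Agent.Sga3C.GrpIrr.geometricallyIrreducible_of_connectedSpace L.hom
    have h3 : Subsingleton (Spec (CommRingCat.of K)) := inferInstanceAs (Subsingleton (PrimeSpectrum K))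
    have h4 : Nonempty (Spec (CommRingCat.of K)) := inferInstanceAs (Nonempty (PrimeSpectrum K))
    exact GeometricallyIrreducible.irreducibleSpace_of_subsingleton L.hom
  obtain ⟨N, hN⟩ := Unip.exists_pow_eq_one_of_isAlgClosed K L p (hasNoSubtorus_of_mono l h)
  refine ⟨N, Q, inferInstance, q, h7, h8, h9, ?_, h11, h12, h13, fun T a b hab => ?_⟩
  · have : QuasiCompact (q.left ≫ Q.hom) := by rw [Over.w]; infer_instance
    exact QuasiCompact.of_comp q.left Q.hom
  · exact pow_eq_pow_of_comp_eq l q h10 (p ^ N) hN a b hab

/-- A smooth connected commutative group scheme of finite type over a field of characteristic `p` such that a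
geometric fibre has no subtorus: the image of some `p ^ N`-th power map is an abelian variety. -/
theorem exists_abelian_of_hasNoSubtorus (k : Type u) [Field k] (p : ℕ) [Fact p.Prime] [CharP k p]
    (P : Over (Spec (CommRingCat.of k))) [GrpObj P] [IsCommMonObj P] [Smooth P.hom]
    [QuasiCompact P.hom] [ConnectedSpace P.left] {L : Type u} [Field L] [IsAlgClosed L]
    (g : Spec (CommRingCat.of L) ⟶ Spec (CommRingCat.of k)) (hL : Red.HasNoSubtorus L (Red.bc g P)) :
    ∃ (N : ℕ) (E : Over (Spec (CommRingCat.of k))) (_ : GrpObj E) (f : P ⟶ E) (j : E ⟶ P),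
      IsMonHom f ∧ IsMonHom j ∧ f ≫ j = (𝟙 P) ^ (p ^ N) ∧ Flat f.left ∧ Surjective f.left ∧
      LocallyOfFinitePresentation f.left ∧ IsClosedImmersion j.left ∧ IsProper E.hom ∧ Smooth E.hom ∧
      GeometricallyIntegral E.hom := by
  have hcomm : IsCommMonObj (Red.bc g P) := inferInstance
  have hsm : Smooth (Red.bc g P).hom := inferInstanceAs (Smooth (pullback.snd P.hom g))
  have hqc : QuasiCompact (Red.bc g P).hom := inferInstanceAs (QuasiCompact (pullback.snd P.hom g))
  have hirr : IrreducibleSpace (Red.bc g P).left := irreducibleSpace_bc' g P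
  have hchar : CharP L p := charP_of_specHom g p
  obtain ⟨N, Q, _, q, h1, h2, h3, h4, h5, h6, h7, h8⟩ := exists_quotient p (Red.bc g P) hL
  have hmon : IsMonHom ((𝟙 P : P ⟶ P) ^ (p ^ N)) := inferInstance
  obtain ⟨E, _, f, j, e1, e2, e3, e4, e5, e6, e7⟩ :=
    Groth.Agent.Sga7.H109.Basic.exists_image ((𝟙 P : P ⟶ P) ^ (p ^ N))
  have hjm : Mono j := Groth.Agent.Books.AlgPtsGrp.mono_of_isClosedImmersion j
  have hft : LocallyOfFiniteType E.hom := by rw [← Over.w j]; infer_instance
  have hsep : IsSeparated E.hom := Groth.Agent.Books.AntiAffine.isSeparated_hom E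
  obtain ⟨r, hr⟩ := Groth.Agent.Sga3.H800.FieldImg.exists_desc q ((Over.pullback g).map f) (by
    intro T a b hab
    have hm : Mono ((Over.pullback g).map j) := inferInstance
    rw [← cancel_mono ((Over.pullback g).map j), Category.assoc, Category.assoc, ← Functor.map_comp, e3,
      Faithful.map_pow]
    simpa [MonObj.comp_pow] using h8 T a b hab)
  have hsurj : Surjective r.left := by
    have h9 : Surjective ((Over.pullback g).map f).left :=
      Groth.Agent.Sga3C.ActBase.surjective_map_left g f e5
    have h10 : Surjective (q.left ≫ r.left) := by rw [← Over.comp_left, hr]; exact h9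
    exact Surjective.of_comp q.left r.left
  have huc : UniversallyClosed (Red.bc g E).hom := by
    have h9 : UniversallyClosed (r.left ≫ (Red.bc g E).hom) := by rw [Over.w]; infer_instance
    exact UniversallyClosed.of_comp_surjective r.left _
  have hprop : IsProper E.hom := isProper_of_bc g E huc
  have hsmE : Smooth E.hom := by
    have h9 : Smooth (f.left ≫ E.hom) := by rw [Over.w]; infer_instance
    have h10 : LocallyOfFinitePresentation E.hom := by
      infer_instance
    exact Groth.Agent.S0115.smooth_of_comp_field k f.left E.hom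
  have hconn : ConnectedSpace E.left := e5.surj.connectedSpace f.left.continuous
  exact ⟨N, E, inferInstance, f, j, e1, e2, e3, e4, e5, e6, e7, hprop, hsmE,
    Groth.Agent.Sga3.H780.Pointed.geometricallyIntegral E⟩

/-- The abelian part of a pseudo-abelian variety in characteristic `p`. -/
theorem exists_abelian (k : Type u) [Field k] (p : ℕ) [Fact p.Prime] [CharP k p]
    (P : Over (Spec (CommRingCat.of k))) [GrpObj P] [IsCommMonObj P] [Smooth P.hom]
    [QuasiCompact P.hom] [ConnectedSpace P.left]
    (hP : ∀ (H : Over (Spec (CommRingCat.of k))) [GrpObj H] (j : H ⟶ P) [IsMonHom j],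
      IsClosedImmersion j.left → Smooth H.hom → ConnectedSpace ↥H.left → IsAffine H.left → IsIso η[H]) :
    ∃ (N : ℕ) (E : Over (Spec (CommRingCat.of k))) (_ : GrpObj E) (f : P ⟶ E) (j : E ⟶ P),
      IsMonHom f ∧ IsMonHom j ∧ f ≫ j = (𝟙 P) ^ (p ^ N) ∧ Flat f.left ∧ Surjective f.left ∧
      LocallyOfFinitePresentation f.left ∧ IsClosedImmersion j.left ∧ IsProper E.hom ∧ Smooth E.hom ∧
      GeometricallyIntegral E.hom := by
  have s : Spec (CommRingCat.of k) := (IsLocalRing.closedPoint k : PrimeSpectrum k)
  have h := NoTorus.hasNoSubtorus_geomFibre k P hP s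
  have h2 : Red.HasNoSubtorus (AlgebraicClosure ((Spec (CommRingCat.of k)).residueField s))
    (Red.bc (Red.geomPt s) P) := h
  generalize Red.geomPt s = g at h2
  exact exists_abelian_of_hasNoSubtorus k p P g h2

end K489.PseudoAb
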