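import Groth.Agent.Neron.K489.Faithful
import Groth.Agent.Neron.K489.UnipField
import Groth.Agent.Sga3.H816.QfNhd
import Groth.Agent.Sga7.H742.P1
import Groth.Agent.Sga7.H783.GmSub
import Groth.Agent.Sga7.H109.Basic
import Groth.Agent.Sga7.H109.Torsion
import Groth.Agent.Sga7.H109.Quot
import Groth.Agent.Sga7.H109.Dense
import Groth.Agent.Sga7.H760.KerBc
import Groth.Agent.Grpsch.MulFinFlat
import Groth.Agent.Sga3C.ActBase

/-!
# Quasi-finiteness of power maps near fibres of unipotent rank zero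

* `isFinite_of_pow_eq_one`: over an algebraically closed field, a group scheme of finite type without closed `𝔾ₐ`
  killed by some `n ≥ 1` is finite.
* `exists_open_qf_pow`: a commutative separated group scheme of finite type whose geometric fibre at `s` has
  unipotent rank zero: the power maps `[n]`, `n ≥ 1`, are quasi-finite over a neighbourhood of `s`.
* `isIso_of_qf_pow`: `0 → E → P → V → 0` over a field with `E` an abelian variety, `V` smooth connected killed by
  `n`: if `[n]` is quasi-finite on `P` then `E ⟶ P` is an isomorphism.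
-/

set_option autoImplicit false
universe u
open CategoryTheory CategoryTheory.Limits AlgebraicGeometry MonObj MonoidalCategory CartesianMonoidalCategory

namespace K489.QfPow

open Groth.Agent Groth.Agent.Sga3B Groth.Agent.Sga3B.KerGrp Groth.Agent.Sga3.H816.QfNhd
  Groth.Agent.Sga7.H109.Basic

theorem exists_prime_coprime (K : Type u) [Field K] (n : ℕ) (hn : 1 ≤ n) :
    ∃ ℓ : ℕ, ℓ.Prime ∧ (ℓ : K) ≠ 0 ∧ Nat.Coprime n ℓ := by
  obtain ⟨ℓ, hle, hℓ⟩ := Nat.exists_infinite_primes (n + ringChar K + 1)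
  refine ⟨ℓ, hℓ, fun h => ?_, ?_⟩
  · have h1 := (ringChar.spec K ℓ).mp h
    rcases (Nat.dvd_prime hℓ).mp h1 with h2 | h2
    · exact (CharP.ringChar_ne_one (R := K)) h2
    · omega
  · rw [Nat.coprime_comm, Nat.Prime.coprime_iff_not_dvd hℓ]
    intro hd
    have := Nat.le_of_dvd hn hd
    omega

/-- Algebraic groups over an algebraically closed field which contain no closed `𝔾ₐ` and are killed by a positive
integer are finite. -/
theorem isFinite_of_pow_eq_one {K : Type u} [Field K] [IsAlgClosed K] (M : Over (Spec (CommRingCat.of K)))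
    [GrpObj M] [LocallyOfFiniteType M.hom] [QuasiCompact M.hom] (hM : NoGa M) (n : ℕ) (hn : 1 ≤ n)
    (h : (𝟙 M : M ⟶ M) ^ n = 1) : IsFinite M.hom := by
  obtain ⟨ℓ, hℓ, hℓK, hc⟩ := exists_prime_coprime K n hn
  refine Sga7.H742.P1.isFinite_of_bounded_torsion K M hM ℓ hℓ hℓK 1 fun m s hs => ?_
  refine Finset.card_le_one.mpr fun a ha b hb => ?_
  rw [UnipField.eq_one_of_pow_eq_one_of_coprime h (hc.pow_right m) a (hs a ha),
    UnipField.eq_one_of_pow_eq_one_of_coprime h (hc.pow_right m) b (hs b hb)]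

/-- A finite group scheme over a field is discrete. -/
theorem discreteTopology_of_isFinite {K : Type u} [Field K] (M : Over (Spec (CommRingCat.of K)))
    [IsFinite M.hom] : DiscreteTopology M.left := by
  have h1 : IsLocallyArtinian M.left := IsLocallyArtinian.of_locallyQuasiFinite M.hom
  infer_instance

variable {S : Scheme.{u}}

theorem pow_kerObj {G : Over S} [GrpObj G] (n : ℕ) [IsMonHom ((𝟙 G : G ⟶ G) ^ n)]
    [GrpObj (kerObj ((𝟙 G : G ⟶ G) ^ n))] [IsMonHom (kerι ((𝟙 G : G ⟶ G) ^ n))] :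
    (𝟙 (kerObj ((𝟙 G : G ⟶ G) ^ n)) : kerObj ((𝟙 G : G ⟶ G) ^ n) ⟶ _) ^ n = 1 := by
  rw [← cancel_mono (kerι ((𝟙 G : G ⟶ G) ^ n)), MonObj.pow_comp, Category.id_comp, MonObj.one_comp]
  have h := kerι_comp ((𝟙 G : G ⟶ G) ^ n)
  rwa [MonObj.comp_pow, Category.comp_id] at h

/-- **Power maps are quasi-finite near fibres of unipotent rank zero.** -/
theorem exists_open_qf_pow (G : Over S) [GrpObj G] [IsCommMonObj G] [LocallyOfFiniteType G.hom]
    [QuasiCompact G.hom] [IsSeparated G.hom] (s : S) (h : SGA7.FibreUnipotentRankZero s G) (n : ℕ) (hn : 1 ≤ n) :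
    ∃ U : S.Opens, s ∈ U ∧ LocallyQuasiFinite ((Over.pullback U.ι).map ((𝟙 G : G ⟶ G) ^ n)).left := by
  have hmon : IsMonHom ((𝟙 G : G ⟶ G) ^ n) := inferInstance
  refine exists_open_qf G G ((𝟙 G : G ⟶ G) ^ n) s (Red.geomPt s) (geomPt_closedPoint s) ?_
  obtain ⟨_, _⟩ := exists_grpObj ((𝟙 G : G ⟶ G) ^ n)
  let M := Red.bc (Red.geomPt s) (kerObj ((𝟙 G : G ⟶ G) ^ n))
  let i : M ⟶ Red.geomFibre s G := (Over.pullback (Red.geomPt s)).map (kerι ((𝟙 G : G ⟶ G) ^ n))
  have hi : IsMonHom i := inferInstance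
  have him : Mono i := inferInstance
  have hcl : IsClosedImmersion i.left := isClosedImmersion_bc ((𝟙 G : G ⟶ G) ^ n) (Red.geomPt s)
  have hG1 : LocallyOfFiniteType (Red.geomFibre s G).hom :=
    inferInstanceAs (LocallyOfFiniteType (pullback.snd G.hom (Red.geomPt s)))
  have hG2 : QuasiCompact (Red.geomFibre s G).hom :=
    inferInstanceAs (QuasiCompact (pullback.snd G.hom (Red.geomPt s)))
  have hM1 : LocallyOfFiniteType M.hom := by rw [← Over.w i]; infer_instance
  have hM2 : QuasiCompact M.hom := by rw [← Over.w i]; infer_instance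
  have hM3 : NoGa M := NoGa.of_closedImmersion h i
  have hM4 : (𝟙 M : M ⟶ M) ^ n = 1 := by
    rw [← Faithful.map_id_pow, pow_kerObj, Faithful.map_one]
  have hM5 : IsFinite M.hom := isFinite_of_pow_eq_one M hM3 n hn hM4
  exact discreteTopology_of_isFinite M

/-- **Power maps are quasi-finite over a local base when the special fibre has unipotent rank zero.** -/
theorem locallyQuasiFinite_pow (R : Type u) [CommRing R] [IsLocalRing R] (G : Over (Spec (CommRingCat.of R)))
    [GrpObj G] [IsCommMonObj G] [LocallyOfFiniteType G.hom]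
    [QuasiCompact G.hom] [IsSeparated G.hom] (h : SGA7.FibreUnipotentRankZero (IsLocalRing.closedPoint R) G)
    (n : ℕ) (hn : 1 ≤ n) : LocallyQuasiFinite ((𝟙 G : G ⟶ G) ^ n).left := by
  obtain ⟨U, hsU, hU⟩ := exists_open_qf_pow G (IsLocalRing.closedPoint R) h n hn
  have hUtop : U = ⊤ := by
    rw [eq_top_iff]
    intro x _
    exact (IsLocalRing.specializes_closedPoint (R := R) x).mem_open U.2 hsU
  subst hUtop
  have hιiso : IsIso (⊤ : (Spec (CommRingCat.of R)).Opens).ι :=
    inferInstanceAs (IsIso (Scheme.topIso (Spec (CommRingCat.of R))).hom)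
  have hpb := Sga3C.ActBase.isPullback_map_left (⊤ : (Spec (CommRingCat.of R)).Opens).ι ((𝟙 G : G ⟶ G) ^ n)
  have hi1 : IsIso (pullback.fst G.hom (⊤ : (Spec (CommRingCat.of R)).Opens).ι) := inferInstance
  have hN : ((𝟙 G : G ⟶ G) ^ n).left = inv (pullback.fst G.hom (⊤ : (Spec (CommRingCat.of R)).Opens).ι) ≫
      ((Over.pullback (⊤ : (Spec (CommRingCat.of R)).Opens).ι).map ((𝟙 G : G ⟶ G) ^ n)).left ≫
      pullback.fst G.hom (⊤ : (Spec (CommRingCat.of R)).Opens).ι := by
    rw [IsIso.eq_inv_comp]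
    exact hpb.w.symm
  rw [hN]
  infer_instance

theorem locallyQuasiFinite_pow_bc {S' : Scheme.{u}} (t : S' ⟶ S) (G : Over S) [GrpObj G] (n : ℕ)
    (h : LocallyQuasiFinite ((𝟙 G : G ⟶ G) ^ n).left) :
    LocallyQuasiFinite ((𝟙 (Red.bc t G) : Red.bc t G ⟶ Red.bc t G) ^ n).left := by
  rw [← Faithful.map_id_pow]
  exact MorphismProperty.of_isPullback (Sga3C.ActBase.isPullback_map_left t ((𝟙 G : G ⟶ G) ^ n)).flip h

theorem locallyQuasiFinite_pow_iso {G H : Over S} [GrpObj G] [GrpObj H] (e : G ≅ H) [IsMonHom e.hom] (n : ℕ)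
    (h : LocallyQuasiFinite ((𝟙 G : G ⟶ G) ^ n).left) :
    LocallyQuasiFinite ((𝟙 H : H ⟶ H) ^ n).left := by
  have h1 : (𝟙 H : H ⟶ H) ^ n = e.inv ≫ ((𝟙 G : G ⟶ G) ^ n) ≫ e.hom := by
    rw [MonObj.pow_comp, Category.id_comp, MonObj.comp_pow, e.inv_hom_id]
  have h2 : IsIso e.inv.left := inferInstanceAs (IsIso ((Over.forget _).map e.inv))
  have h3 : IsIso e.hom.left := inferInstanceAs (IsIso ((Over.forget _).map e.hom))
  rw [h1, Over.comp_left, Over.comp_left]
  infer_instance

section pts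

open Books.AlgPts Books.AlgPtsGrp

variable {K : Type u} [Field K] [IsAlgClosed K]

/-- finitely many torsion points for a quasi-finite power map -/
theorem finite_torsion (G : Over (Spec (CommRingCat.of K))) [GrpObj G] [LocallyOfFiniteType G.hom]
    [QuasiCompact G.hom] (n : ℕ) (h : LocallyQuasiFinite ((𝟙 G : G ⟶ G) ^ n).left) :
    {x : KP G | x ^ n = 1}.Finite := by
  have hsep : IsSeparated G.hom := isSeparated_hom G
  have hqc : QuasiCompact ((𝟙 G : G ⟶ G) ^ n).left := by
    have : QuasiCompact (((𝟙 G : G ⟶ G) ^ n).left ≫ G.hom) := by rw [Over.w]; infer_instance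
    exact QuasiCompact.of_comp _ G.hom
  have h1 := ((𝟙 G : G ⟶ G) ^ n).left.finite_preimage_singleton (pt (1 : KP G))
  refine Set.Finite.of_finite_image (f := fun x : KP G => pt x) (h1.subset ?_) ?_
  · rintro _ ⟨x, hx, rfl⟩
    change ((𝟙 G : G ⟶ G) ^ n).left (pt x) = pt 1
    rw [← pt_comp, MonObj.comp_pow, Category.comp_id]
    exact congrArg pt hx
  · intro x _ y _ hxy
    exact pt_injective hxy

end pts

end K489.QfPow
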