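import Groth.Agent.Neron.K489.Faithful
import Groth.Agent.Sga3B.RadOpen.PtTorus
import Groth.Agent.Sga3B.RG.UnipRep
import Groth.Agent.Sga3B.RG.BrHc
import Mathlib.FieldTheory.IsAlgClosed.AlgebraicClosure
import Mathlib.LinearAlgebra.Eigenspace.Zero

/-!
# Unipotent groups: smooth connected affine groups without geometric subtori

* `exists_pow_eq_one`: over a field of characteristic `p` such a group is killed by some `p ^ N`.
* `eq_one_of_pow_eq_one`: it has no torsion points of order prime to `p`.
-/

set_option autoImplicit false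
universe u
open CategoryTheory CategoryTheory.Limits AlgebraicGeometry MonObj MonoidalCategory CartesianMonoidalCategory

namespace K489.Unip

open Groth.Agent.Sga3B.RG Groth.Agent.Sga3B.RG.BrPts Groth.Agent.Books.AffBridge

/-- a unipotent linear map in characteristic `p` has `p`-power order -/
theorem pow_eq_one_of_isNilpotent {K V : Type*} [Field K] (p : ℕ) [Fact p.Prime] [CharP K p]
    [AddCommGroup V] [Module K V] [FiniteDimensional K V] (f : Module.End K V)
    (hf : IsNilpotent (f - 1)) (N : ℕ) (hN : Module.finrank K V ≤ p ^ N) : f ^ (p ^ N) = 1 := by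
  by_cases hV : Subsingleton V
  · exact Subsingleton.elim _ _
  have hV' : Nontrivial V := not_subsingleton_iff_nontrivial.mp hV
  have h1 : (f - 1) ^ (p ^ N) = 0 := by
    have h2 : (f - 1) ^ Module.finrank K V = 0 := by
      have h3 := LinearMap.aeval_self_charpoly (f - 1)
      rwa [hf.charpoly_eq_X_pow_finrank, map_pow, Polynomial.aeval_X] at h3
    obtain ⟨m, hm⟩ := Nat.exists_eq_add_of_le hN
    rw [hm, pow_add, h2, zero_mul]
  have : CharP (Module.End K V) p := charP_of_injective_algebraMap (algebraMap K (Module.End K V)).injective p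
  rw [sub_pow_char_pow_of_commute _ _ (Commute.one_right f), one_pow] at h1
  exact sub_eq_zero.mp h1

/-- a unipotent linear map of finite order invertible in the field is the identity -/
theorem eq_one_of_isNilpotent_of_pow {K V : Type*} [Field K]
    [AddCommGroup V] [Module K V] (f : Module.End K V)
    (hf : IsNilpotent (f - 1)) (n : ℕ) (hn : (n : K) ≠ 0) (h : f ^ n = 1) : f = 1 := by
  obtain ⟨g, hg⟩ : ∃ g : Module.End K V, g = f - 1 := ⟨_, rfl⟩
  have hfg : f = 1 + g := by rw [hg]; abel
  have h0 : ∀ n : ℕ, ∃ Q : Polynomial ℤ,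
      (1 + Polynomial.X : Polynomial ℤ) ^ n = 1 + Polynomial.X * ((n : Polynomial ℤ) + Polynomial.X * Q) := by
    intro n
    induction n with
    | zero => exact ⟨0, by simp⟩
    | succ n ih =>
      obtain ⟨Q, hQ⟩ := ih
      refine ⟨(n : Polynomial ℤ) + Q + Polynomial.X * Q, ?_⟩
      rw [pow_succ, hQ]
      push_cast
      ring
  have h1 : ∃ c : Module.End K V, (1 + g) ^ n = 1 + g * ((n : Module.End K V) + g * c) ∧ Commute g c := by
    obtain ⟨Q, hQ⟩ := h0 n
    refine ⟨Polynomial.aeval g Q, ?_, ?_⟩
    · have := congrArg (Polynomial.aeval g) hQ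
      simpa using this
    · have := Polynomial.X_mul (p := Q)
      have h6 := congrArg (Polynomial.aeval g) this
      simp only [map_mul, Polynomial.aeval_X] at h6
      exact h6
  obtain ⟨c, hc, hcc⟩ := h1
  rw [← hg] at hf
  have h2 : g * ((n : Module.End K V) + g * c) = 0 := by
    rw [hfg, hc] at h
    simpa using h
  have hu : IsUnit ((n : Module.End K V) + g * c) := by
    have h3 : IsNilpotent (g * c) := Commute.isNilpotent_mul_right hcc hf
    have h4 : IsUnit (n : Module.End K V) := by
      have := (IsUnit.mk0 (n : K) hn).map (algebraMap K (Module.End K V))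
      rwa [map_natCast] at this
    have h5 : Commute (n : Module.End K V) (g * c) := Nat.cast_commute n _
    exact h3.isUnit_add_left_of_commute h4 h5.symm
  have h6 : g = 0 := by
    obtain ⟨u, hu⟩ := hu
    rw [← hu] at h2
    exact (Units.mul_left_eq_zero u).mp h2
  rw [hfg, h6, add_zero]

section closed

variable (K : Type u) [Field K] [IsAlgClosed K] (V : Over (Spec (CommRingCat.of K))) [GrpObj V]
  [Smooth V.hom] [ConnectedSpace V.left] [IsAffine V.left]

theorem exists_pow_eq_one_of_isAlgClosed (p : ℕ) [hp : Fact p.Prime] [CharP K p]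
    (h : Red.HasNoSubtorus K V) : ∃ N : ℕ, (𝟙 V : V ⟶ V) ^ (p ^ N) = 1 := by
  have : LocallyOfFiniteType V.hom := inferInstance
  obtain ⟨A, _, _, e, he, hft⟩ := BrHc.exists_hopf_ft V
  have hci : IsClosedImmersion e.hom.left := by
    have : IsIso e.hom.left := inferInstanceAs (IsIso ((Over.forget _).map e.hom))
    infer_instance
  have hu := Groth.Agent.Sga3B.RadOpen.isUnip_of_hasNoSubtorus e.hom h
  have hred : IsReduced V.left := Groth.Agent.Books.AlgPtsSmooth.isReduced_of_smooth V
  have hredA : _root_.IsReduced A := by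
    have h1 : IsIso e.inv.left := inferInstanceAs (IsIso ((Over.forget _).map e.inv))
    have h2 : IsReduced (SpecOver K A).left := isReduced_of_isOpenImmersion e.inv.left
    exact (affine_isReduced_iff (CommRingCat.of A)).mp h2
  obtain ⟨W, _, _, _, ρ, hρ, hinj, hun⟩ := exists_rep_unip K A
  obtain ⟨N, hN⟩ : ∃ N : ℕ, Module.finrank K W ≤ p ^ N :=
    ⟨Module.finrank K W, (Nat.lt_pow_self hp.out.one_lt).le⟩
  refine ⟨N, ?_⟩
  refine hom_ext_of_points _ _ fun x => ?_
  rw [MonObj.comp_pow, Category.comp_id, MonObj.comp_one]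
  have hx : (ptEquiv K A).symm (x ≫ e.hom) ∈ ptsSub e.hom :=
    ⟨x, ((ptEquiv K A).apply_symm_apply _).symm⟩
  have h1 := (hun _).mp (hu _ hx)
  have h2 := pow_eq_one_of_isNilpotent p _ h1 N hN
  rw [← map_pow, ← map_one ρ] at h2
  have h3 := hinj h2
  rw [← map_pow, ← MonObj.pow_comp, MulEquiv.symm_apply_eq, map_one] at h3
  have : Mono e.hom := inferInstance
  rw [← cancel_mono e.hom, h3, MonObj.one_comp]

theorem eq_one_of_pow_eq_one_of_isAlgClosed (h : Red.HasNoSubtorus K V) (n : ℕ) (hn : (n : K) ≠ 0)
    (x : 𝟙_ (Over (Spec (CommRingCat.of K))) ⟶ V) (hx : x ^ n = 1) : x = 1 := by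
  have : LocallyOfFiniteType V.hom := inferInstance
  obtain ⟨A, _, _, e, he, hft⟩ := BrHc.exists_hopf_ft V
  have hci : IsClosedImmersion e.hom.left := by
    have : IsIso e.hom.left := inferInstanceAs (IsIso ((Over.forget _).map e.hom))
    infer_instance
  have hu := Groth.Agent.Sga3B.RadOpen.isUnip_of_hasNoSubtorus e.hom h
  have hred : IsReduced V.left := Groth.Agent.Books.AlgPtsSmooth.isReduced_of_smooth V
  have hredA : _root_.IsReduced A := by
    have h1 : IsIso e.inv.left := inferInstanceAs (IsIso ((Over.forget _).map e.inv))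
    have h2 : IsReduced (SpecOver K A).left := isReduced_of_isOpenImmersion e.inv.left
    exact (affine_isReduced_iff (CommRingCat.of A)).mp h2
  obtain ⟨W, _, _, _, ρ, hρ, hinj, hun⟩ := exists_rep_unip K A
  have hx' : (ptEquiv K A).symm (x ≫ e.hom) ∈ ptsSub e.hom :=
    ⟨x, ((ptEquiv K A).apply_symm_apply _).symm⟩
  have h1 := (hun _).mp (hu _ hx')
  have h2 : (ρ ((ptEquiv K A).symm (x ≫ e.hom))) ^ n = 1 := by
    rw [← map_pow, ← map_pow, ← MonObj.pow_comp, hx, MonObj.one_comp, map_one, map_one]
  have h3 : ρ ((ptEquiv K A).symm (x ≫ e.hom)) = ρ 1 := by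
    rw [map_one]
    exact eq_one_of_isNilpotent_of_pow _ h1 n hn h2
  have h4 := hinj h3
  rw [MulEquiv.symm_apply_eq, map_one] at h4
  have : Mono e.hom := inferInstance
  rw [← cancel_mono e.hom, h4, MonObj.one_comp]

end closed

end K489.Unip
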